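import Cfsg.Agent.H607.Car.E6Def
import Cfsg.Agent.H696.GmnThree
import Cfsg.Agent.Lib.Refl
import Cfsg.Agent.H129.ExactZ
import Cfsg.Agent.H560.RealWE6
import Cfsg.Agent.H120.SLHom
import Cfsg.Agent.H868.KSL2
import Cfsg.Agent.H321.Ker.AlgY
import Cfsg.Agent.H957.CarLab_m3
import Cfsg.Agent.BpExc.AsmN_m3
import Cfsg.Agent.FixOdd.Gates_mg
import Cfsg.Agent.SignalizersComponents.CoprimeBasic
import Cfsg.Agent.H381.Car.Wp
import Cfsg.Agent.Lib.GenFitting
import Cfsg.Agent.FixBN.Split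
import Cfsg.Agent.KFacts.RgdLieCharP
import Cfsg.Agent.FixBN.OfRGD
import Cfsg.Agent.FixBN.NodeRGD
import Cfsg.Agent.FixOdd.Inst
import Cfsg.Agent.S0311
import Cfsg.Agent.SignalizersComponents.MinCounterBasic
import Cfsg.Agent.S1093
import Cfsg.Agent.ChevalleyStructure.CoxeterWordCheck
import Cfsg.Agent.H482.Car.TwoInv
import Cfsg.Agent.FastGrp
import Cfsg.Agent.Prune
set_option linter.all false

section
prune_inst 0x7ffcbcf82fb88ddfffff7e7ffed5dffc08d01fffe6dff9437fe061ff0bdf23000dc5fb850de010fe0ed6e09410387813f97eca3fe86bdc7ffffd5ff41ffbee0fa5e63508519080240fb80fff83f07f8a7f3fffffffffffffffffffffffffffbefffdffffffff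

-- part: H943/Car/W3
section
set_option linter.all false
open scoped Cfsg.Agent.FastGrp

/-!
# The Weyl group of type `E₆` on the coroot lattice modulo 3 (helper943)

* `orb` : four orbits on the image of the root lattice in the weight lattice modulo 3;
* `stab3` : the stabilisers on the root lattice modulo 3 are generated by reflections;
* `neg3` : `-1` on the image.
-/

set_option autoImplicit false
set_option linter.unusedSectionVars false

namespace Cfsg.Agent.H943.Car.W3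

open CoxeterSystem Subgroup Cfsg Cfsg.Lie Cfsg.Lie.ChevalleyDatum
open Cfsg.Agent.ChevalleyStructure Cfsg.Agent.ChevalleyStructure.Elts Cfsg.Agent.ChevalleyStructure.CoxeterGeom
  Cfsg.Agent.ChevalleyStructure.CoxeterGeomTypes
open Cfsg.Agent.Tits.Roots Cfsg.Agent.Tits.Core Cfsg.Agent.Nodes.RGDChev
open Cfsg.Agent.H696.GmnNeg Cfsg.Agent.H696.GmnThree Cfsg.Agent.H720.TwFr Cfsg.Agent.H607.Car

/-- the Cartan matrix -/
abbrev Ca : Fin 6 → Fin 6 → ℤ := cartanOf chevE6 6

/-- the symmetric form -/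
def frm (a d : Fin 6 → ℤ) : ℤ := ∑ i, a i * pairing Ca i d

theorem frm_def (a d : Fin 6 → ℤ) : frm a d = ∑ i, a i * pairing Ca i d := rfl

theorem rp_mul (v w : W6) (x : Fin 6 → ℤ) : rp (v * w) x = rp v (rp w x) := rep_mul_apply _ _ _ _ _

theorem rp_one (x : Fin 6 → ℤ) : rp 1 x = x := by
  show rep cs6 hp6.isCartan 1 x = x
  rw [map_one, Module.End.one_apply]

theorem rp_inv (w : W6) (x : Fin 6 → ℤ) : rp w⁻¹ (rp w x) = x := by
  rw [← rp_mul, inv_mul_cancel, rp_one]

theorem rp_inv' (w : W6) (x : Fin 6 → ℤ) : rp w (rp w⁻¹ x) = x := by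
  rw [← rp_mul, mul_inv_cancel, rp_one]

theorem rp_add (w : W6) (x y : Fin 6 → ℤ) : rp w (x + y) = rp w x + rp w y := map_add _ _ _

theorem rp_sub (w : W6) (x y : Fin 6 → ℤ) : rp w (x - y) = rp w x - rp w y := map_sub _ _ _

theorem rp_neg (w : W6) (x : Fin 6 → ℤ) : rp w (-x) = -rp w x := map_neg _ _

theorem rp_smul (w : W6) (m : ℤ) (x : Fin 6 → ℤ) : rp w (m • x) = m • rp w x := map_smul _ _ _

theorem rp_simple (i : Fin 6) (x : Fin 6 → ℤ) : rp (cs6.simple i) x = x - pairing Ca i x • sr i :=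
  rep_simple_eq _ _ _ _

theorem frm_add_right (a d e : Fin 6 → ℤ) : frm a (d + e) = frm a d + frm a e := by
  simp only [frm, pairing_add, mul_add, Finset.sum_add_distrib]

theorem frm_smul_right (a d : Fin 6 → ℤ) (m : ℤ) : frm a (m • d) = m * frm a d := by
  simp only [frm, pairing_smul, Finset.mul_sum]
  exact Finset.sum_congr rfl fun k _ => by ring

theorem frm_sub_right (a d e : Fin 6 → ℤ) : frm a (d - e) = frm a d - frm a e := by
  have h1 : d - e = d + (-1 : ℤ) • e := by rw [neg_one_smul, sub_eq_add_neg]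
  rw [h1, frm_add_right, frm_smul_right]
  ring

theorem frm_comm (a d : Fin 6 → ℤ) : frm a d = frm d a := by
  unfold frm pairing
  show ∑ i, a i * ∑ k, (cartanOf chevE6 6) i k * d k = ∑ i, d i * ∑ k, (cartanOf chevE6 6) i k * a k
  rw [cartanE6]
  simp only [Fin.sum_univ_six]
  simp [AE6]
  ring

theorem frm_sr (i : Fin 6) (d : Fin 6 → ℤ) : frm (sr i) d = pairing Ca i d := by
  rw [frm_def, Finset.sum_eq_single i]
  · rw [sr_self, one_mul]
  · intro b _ hb
    rw [sr_ne hb, zero_mul]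
  · intro h; exact absurd (Finset.mem_univ _) h

theorem frm_simple (i : Fin 6) (a d : Fin 6 → ℤ) : frm (rp (cs6.simple i) a) (rp (cs6.simple i) d) = frm a d := by
  rw [rp_simple, rp_simple, frm_sub_right, frm_smul_right, frm_comm _ (sr i), frm_comm _ d, frm_sub_right,
    frm_sub_right, frm_smul_right, frm_smul_right, frm_sr, frm_sr, frm_comm d (sr i), frm_sr, frm_comm d a]
  have h1 : pairing Ca i (sr i) = 2 := by
    rw [sr, pairing_single, mul_one]
    exact hp6.isCartan.diag i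
  rw [h1]
  ring

theorem frm_rp (w : W6) (a d : Fin 6 → ℤ) : frm (rp w a) (rp w d) = frm a d := by
  obtain ⟨ω, rfl⟩ := cs6.wordProd_surjective w
  induction ω with
  | nil => rw [wordProd_nil, rp_one, rp_one]
  | cons i ω ih => rw [wordProd_cons, rp_mul, rp_mul, frm_simple, ih]

/-- the reflection in the root `rp v (sr i)` -/
theorem rp_refl (v : W6) (i : Fin 6) (x : Fin 6 → ℤ) :
    rp (v * cs6.simple i * v⁻¹) x = x - frm (rp v (sr i)) x • rp v (sr i) := by
  rw [rp_mul, rp_mul, rp_simple, rp_sub, rp_inv', rp_smul]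
  have h1 : pairing Ca i (rp v⁻¹ x) = frm (rp v (sr i)) x := by
    rw [← frm_sr, ← frm_rp v, rp_inv']
  rw [h1]

/-! ### congruences modulo 3 -/

/-- congruence modulo 3 -/
def C3 (x y : Fin 6 → ℤ) : Prop := ∃ v, x = y + (3 : ℤ) • v

theorem C3.refl (x : Fin 6 → ℤ) : C3 x x := ⟨0, by rw [smul_zero, add_zero]⟩

theorem C3.symm {x y : Fin 6 → ℤ} (h : C3 x y) : C3 y x := by
  obtain ⟨v, rfl⟩ := h
  exact ⟨-v, by rw [smul_neg, add_neg_cancel_right]⟩

theorem C3.trans {x y z : Fin 6 → ℤ} (h : C3 x y) (h' : C3 y z) : C3 x z := by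
  obtain ⟨v, rfl⟩ := h
  obtain ⟨v', rfl⟩ := h'
  exact ⟨v' + v, by rw [smul_add, add_assoc]⟩

theorem C3.rp {x y : Fin 6 → ℤ} (h : C3 x y) (w : W6) : C3 (rp w x) (rp w y) := by
  obtain ⟨v, rfl⟩ := h
  exact ⟨_, by rw [rp_add, rp_smul]⟩

theorem C3.frm {x y : Fin 6 → ℤ} (h : C3 x y) (a : Fin 6 → ℤ) : (3 : ℤ) ∣ frm a x - frm a y := by
  obtain ⟨v, rfl⟩ := h
  rw [frm_add_right, frm_smul_right, add_sub_cancel_left]
  exact Dvd.intro _ rfl

theorem c3_of {x y : Fin 6 → ℤ} (h : ∀ i, (3 : ℤ) ∣ x i - y i) : C3 x y := by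
  choose v hv using h
  refine ⟨v, funext fun i => ?_⟩
  rw [Pi.add_apply, Pi.smul_apply, smul_eq_mul, ← hv]
  ring

/-- the elements with pairings divisible by 3 are fixed modulo 3 -/
theorem c3_ker {e : Fin 6 → ℤ} (he : ∀ i, (3 : ℤ) ∣ pairing Ca i e) (w : W6) : C3 (rp w e) e := by
  obtain ⟨ω, rfl⟩ := cs6.wordProd_surjective w
  induction ω with
  | nil => rw [wordProd_nil, rp_one]; exact C3.refl _
  | cons i ω ih =>
    rw [wordProd_cons, rp_mul]
    refine (ih.rp _).trans ?_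
    obtain ⟨m, hm⟩ := he i
    rw [rp_simple, hm]
    refine ⟨-(m • sr i), ?_⟩
    rw [smul_neg, smul_smul, sub_eq_add_neg]

/-! ### the orbits -/

/-- representatives -/
def R : Fin 4 → Fin 6 → ℤ := ![![0, 0, 0, 0, 0, 0], ![1, 2, 2, 3, 2, 1], ![2, 2, 3, 4, 3, 2], ![2, 3, 4, 6, 4, 2]]

/-- their pairings -/
def Pr : Fin 4 → Fin 6 → ℤ := ![![0, 0, 0, 0, 0, 0], ![0, 1, 0, 0, 0, 0], ![1, 0, 0, 0, 0, 1], ![0, 0, 0, 1, 0, 0]]

theorem pairing_R : ∀ k i, pairing AE6 i (R k) = Pr k i := by decide +kernel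

/-- distances -/
def rk (c : Fin 6 → ZMod 3) : ℕ :=
  (44904079819881986029213914909999008602927786645207379337370025941555124427353491355656751169428613613139085380648193176178876186208601090439455934843655154586330493772246561283793377787405550202759484951038503920305791426790264820553826047736341672153116587275090706568821077568032303040375732407979638654095746601506213046766569779722651682314039098568473288215349175119693133203072361965545598791048699852483933900901713415186257234396214874573181027635851859502180127465608209894103577612740380620285920232060873394368869710191633534612782296076223675700957128137039548064573486878116707607306560518726631583822409015427287969492457731819145382376209021351934848389245446059830005750075662282758879450800428362473672324510689274178116129405756280162058809921964571595902439610339851017972766787118939709291227271254066914772318819462254700355445825241341405078343213319319446281096031189417106466294339218374129200570358648081138280877863342855589313524654701268175477191415234299337682251743658643956299478338001476472846537863916384618425056558889273234988002344538769799045031050710024716288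 >>>
    (5 * ((c 0).val + 3 * (c 1).val + 9 * (c 2).val + 27 * (c 3).val + 81 * (c 4).val + 243 * (c 5).val))) % 32

/-- the reflection on the pairings modulo 3 -/
def sC (i : Fin 6) (c : Fin 6 → ZMod 3) : Fin 6 → ZMod 3 := fun j => c j - (AE6 j i : ZMod 3) * c i

/-- the statement to be checked -/
def Chk (c : Fin 6 → ZMod 3) : Prop := cl3 c = 0 → (∃ k : Fin 4, ∀ i, c i = ((Pr k i : ℤ) : ZMod 3)) ∨
  ∃ i, rk (sC i c) < rk c

instance (c : Fin 6 → ZMod 3) : Decidable (Chk c) := by unfold Chk; infer_instance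

theorem chk : ∀ a b c d e f : ZMod 3, Chk ![a, b, c, d, e, f] := by decide +kernel

theorem chk' (c : Fin 6 → ZMod 3) : Chk c := by
  have h := chk (c 0) (c 1) (c 2) (c 3) (c 4) (c 5)
  have e : c = ![c 0, c 1, c 2, c 3, c 4, c 5] := by
    funext i; fin_cases i <;> rfl
  rw [e]
  exact h

theorem cl3_sC (i : Fin 6) (c : Fin 6 → ZMod 3) : cl3 (sC i c) = cl3 c := by
  have h3 : ∀ x : ZMod 3, 3 * x = 0 := by decide
  unfold cl3 sC
  fin_cases i <;> simp [AE6] <;> first
    | linear_combination (0 : ZMod 3) * h3 0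
    | linear_combination -h3 (c 2)
    | linear_combination h3 (c 3)
    | linear_combination -h3 (c 5)

/-- **The orbits.** -/
theorem orb (c : Fin 6 → ZMod 3) (hc : cl3 c = 0) : ∃ (u : W6) (k : Fin 4), ∀ i,
    c i = ((pairing Ca i (rp u (R k)) : ℤ) : ZMod 3) := by
  obtain ⟨n, hn⟩ : ∃ n, n = rk c := ⟨_, rfl⟩
  induction n using Nat.strong_induction_on generalizing c with
  | _ n ih =>
    rcases chk' c hc with ⟨k, hk⟩ | ⟨i, hi⟩
    · refine ⟨1, k, fun i => ?_⟩
      rw [hk i, rp_one, ← pairing_R, ← cartanE6]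
    · obtain ⟨u, k, hu⟩ := ih _ (by rw [hn]; exact hi) (sC i c) (by rw [cl3_sC, hc]) rfl
      refine ⟨cs6.simple i * u, k, fun j => ?_⟩
      have h1 := hu j
      have h2 := hu i
      rw [rp_mul, rp_simple]
      have h3 : pairing Ca j (rp u (R k) - pairing Ca i (rp u (R k)) • sr i) =
          pairing Ca j (rp u (R k)) - pairing Ca i (rp u (R k)) * AE6 j i := by
        rw [← frm_sr, ← frm_sr, frm_sub_right, frm_smul_right, frm_sr, frm_sr, frm_sr, sr, pairing_single, mul_one]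
        show _ - _ * cartanOf chevE6 6 j i = _
        rw [cartanE6]
      rw [h3]
      push_cast
      rw [← h1, ← h2]
      have h4 : ∀ i, (AE6 i i : ZMod 3) = 2 := by decide
      unfold sC
      rw [h4]
      have h5 : (3 : ZMod 3) = 0 := by decide
      linear_combination (-(AE6 j i : ZMod 3) * c i * 0) * h5

end Cfsg.Agent.H943.Car.W3

private theorem dce_0adc926f6b84 : _root_.True := by
  try have : _root_.True := by simp only [_root_.Cfsg.Agent.H943.Car.W3.frm.eq_1]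
  try have : _root_.True := by simp only [_root_.Cfsg.Agent.H696.GmnThree.AE6.eq_1]
  exact _root_.True.intro
end

-- part: H943/Car/W4
section
set_option linter.all false
open scoped Cfsg.Agent.FastGrp

/-!
# The Weyl group of type `E₆` on the coroot lattice modulo 3: stabilisers (helper943)
-/

set_option autoImplicit false
set_option linter.unusedSectionVars false

namespace Cfsg.Agent.H943.Car.W3

open CoxeterSystem Subgroup Cfsg Cfsg.Lie Cfsg.Lie.ChevalleyDatum
open Cfsg.Agent.ChevalleyStructure Cfsg.Agent.ChevalleyStructure.Elts Cfsg.Agent.ChevalleyStructure.CoxeterGeom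
  Cfsg.Agent.ChevalleyStructure.CoxeterGeomTypes
open Cfsg.Agent.Tits.Roots Cfsg.Agent.Tits.Core Cfsg.Agent.Nodes.RGDChev
open Cfsg.Agent.H696.GmnNeg Cfsg.Agent.H696.GmnThree Cfsg.Agent.H720.TwFr Cfsg.Agent.H607.Car

/-! ### the roots -/

theorem root_iff (a : Fin 6 → ℤ) : IsRoot cs6 hp6.isCartan a ↔ ∃ s : Fin 72, a = vec chevE6 6 s := by
  rw [isRoot_iff hp6 cs6]
  constructor
  · rintro ⟨s, hs, rfl⟩
    rw [nroots_E6] at hs
    exact ⟨⟨s, hs⟩, rfl⟩
  · rintro ⟨s, rfl⟩
    exact ⟨s, by rw [nroots_E6]; exact s.2, rfl⟩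

/-- bounds -/
def bd : Fin 4 → ℤ := ![0, 2, 2, 3]

theorem bd_chk : ∀ (k : Fin 4) (s : Fin 72), (∑ i, vec chevE6 6 s i * Pr k i) ≤ bd k ∧
    -bd k ≤ (∑ i, vec chevE6 6 s i * Pr k i) := by (delta Cfsg.Agent.Nodes.RGDChev.vec Cfsg.Agent.ChevalleyStructure.RootVec.rt; set_option synthInstance.maxSize 100000 in exact Cfsg.Agent.Lib.Refl.of (by decide +kernel))

theorem frm_R (a : Fin 6 → ℤ) (k : Fin 4) : frm a (R k) = ∑ i, a i * Pr k i := by
  rw [frm_def]
  refine Finset.sum_congr rfl fun i _ => ?_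
  rw [← pairing_R, ← cartanE6]

theorem bd_root {a : Fin 6 → ℤ} (ha : IsRoot cs6 hp6.isCartan a) (k : Fin 4) : frm a (R k) ≤ bd k ∧
    -bd k ≤ frm a (R k) := by
  obtain ⟨s, rfl⟩ := (root_iff a).1 ha
  rw [frm_R]
  exact bd_chk k s

/-- three times the inverse of the Cartan matrix -/
def B3 : Fin 6 → Fin 6 → ℤ :=
  ![![4, 3, 5, 6, 4, 2], ![3, 6, 6, 9, 6, 3], ![5, 6, 10, 12, 8, 4], ![6, 9, 12, 18, 12, 6], ![4, 6, 8, 12, 10, 5],
    ![2, 3, 4, 6, 5, 4]]

theorem B3_mul : ∀ j m, ∑ i, B3 j i * AE6 i m = if j = m then 3 else 0 := by decide +kernel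

theorem three_mul (v : Fin 6 → ℤ) (j : Fin 6) : 3 * v j = ∑ i, B3 j i * pairing Ca i v := by
  have h1 : ∀ i, pairing Ca i v = ∑ m, AE6 i m * v m := fun i => by
    show ∑ m, (cartanOf chevE6 6) i m * v m = _
    rw [cartanE6]
  simp only [h1, Finset.mul_sum]
  rw [Finset.sum_comm]
  have h2 : ∀ m, ∑ i, B3 j i * (AE6 i m * v m) = (if j = m then 3 else 0) * v m := fun m => by
    rw [← B3_mul, Finset.sum_mul]
    exact Finset.sum_congr rfl fun i _ => by ring
  simp only [h2]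
  rw [Finset.sum_eq_single j]
  · rw [if_pos rfl]
  · intro b _ hb
    rw [if_neg (Ne.symm hb), zero_mul]
  · intro h; exact absurd (Finset.mem_univ _) h

/-- the statement to be checked -/
def Chk2 (k : Fin 4) (u : Fin 6 → ℤ) : Prop := (∀ j, (3 : ℤ) ∣ ∑ i, B3 j i * u i) →
  (∀ s : Fin 72, (∑ i, vec chevE6 6 s i * (Pr k i + 3 * u i)) ≤ bd k ∧
    -bd k ≤ (∑ i, vec chevE6 6 s i * (Pr k i + 3 * u i))) →
  (∀ i, u i = 0) ∨ ∃ s : Fin 72, (∀ j, ∑ i, B3 j i * u i = -(3 * vec chevE6 6 s j)) ∧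
    ∑ i, vec chevE6 6 s i * Pr k i = 3

instance (k : Fin 4) (u : Fin 6 → ℤ) : Decidable (Chk2 k u) := by unfold Chk2; infer_instance

/-- the values `-1, 0, 1` -/
def tv : Fin 3 → ℤ := ![-1, 0, 1]

theorem chk2 : ∀ (k : Fin 3) (a b c d e f : Fin 3), Chk2 k.succ ![tv a, tv b, tv c, tv d, tv e, tv f] := by
  (delta Cfsg.Agent.H943.Car.W3.Chk2 Cfsg.Agent.Nodes.RGDChev.vec Cfsg.Agent.ChevalleyStructure.RootVec.rt; set_option synthInstance.maxSize 100000 in exact Cfsg.Agent.Lib.Refl.of (by decide +kernel))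

theorem tv_of {x : ℤ} (h1 : -1 ≤ x) (h2 : x ≤ 1) : ∃ a, x = tv a := by
  have h3 : x = -1 ∨ x = 0 ∨ x = 1 := by omega
  rcases h3 with h | h | h
  · exact ⟨0, h⟩
  · exact ⟨1, h⟩
  · exact ⟨2, h⟩

theorem chk2' (k : Fin 4) (hk : k ≠ 0) (u : Fin 6 → ℤ) (hu : ∀ i, -1 ≤ u i ∧ u i ≤ 1) : Chk2 k u := by
  obtain ⟨k, rfl⟩ := Fin.exists_succ_eq.2 hk
  choose x hx using fun i => tv_of (hu i).1 (hu i).2
  have h := chk2 k (x 0) (x 1) (x 2) (x 3) (x 4) (x 5)
  have e : u = ![tv (x 0), tv (x 1), tv (x 2), tv (x 3), tv (x 4), tv (x 5)] := by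
    funext i; fin_cases i <;> exact hx _
  rw [e]
  exact h

/-! ### the reflection subgroups -/

/-- the subgroup generated by the reflections fixing `d` modulo 3 -/
def Rf (d : Fin 6 → ℤ) : Subgroup W6 := Subgroup.closure {s | ∃ (v : W6) (i : Fin 6), s = v * cs6.simple i * v⁻¹ ∧
  (3 : ℤ) ∣ frm (rp v (sr i)) d}

theorem Rf_congr {d d' : Fin 6 → ℤ} (h : ∀ a, (3 : ℤ) ∣ frm a d - frm a d') : Rf d = Rf d' := by
  unfold Rf
  congr 1
  ext s
  constructor
  · rintro ⟨v, i, h1, h2⟩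
    refine ⟨v, i, h1, ?_⟩
    have h3 := h (rp v (sr i))
    have := dvd_sub h2 h3
    rwa [sub_sub_cancel] at this
  · rintro ⟨v, i, h1, h2⟩
    refine ⟨v, i, h1, ?_⟩
    have h3 := h (rp v (sr i))
    have := dvd_add h3 h2
    rwa [sub_add_cancel] at this

theorem Rf_conj {d : Fin 6 → ℤ} (u : W6) {s : W6} (hs : s ∈ Rf d) : u * s * u⁻¹ ∈ Rf (rp u d) := by
  unfold Rf at hs
  induction hs using Subgroup.closure_induction with
  | mem s hs =>
    obtain ⟨v, i, rfl, h⟩ := hs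
    refine Subgroup.subset_closure ⟨u * v, i, by group, ?_⟩
    rw [rp_mul, frm_rp]
    exact h
  | one => rw [mul_one, mul_inv_cancel]; exact one_mem _
  | mul a b _ _ ha hb =>
    have e : u * (a * b) * u⁻¹ = (u * a * u⁻¹) * (u * b * u⁻¹) := by group
    rw [e]
    exact mul_mem ha hb
  | inv a _ ha =>
    have e : u * a⁻¹ * u⁻¹ = (u * a * u⁻¹)⁻¹ := by group
    rw [e]
    exact inv_mem ha

/-- the stabiliser of `d` is generated by reflections -/
theorem mem_Rf_of_fix (hR : ReflZ) {d : Fin 6 → ℤ} {w : W6} (h : rp w d = d) : w ∈ Rf d := by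
  have h1 : ∀ a, val (fun i => pairing Ca i d) a = frm a d := fun a => by
    unfold val frm
    exact Finset.sum_congr rfl fun i _ => by rw [smul_eq_mul]
  have h2 := hR (fun i => pairing Ca i d) w (fun a => by
    rw [h1, h1]
    conv_lhs => rw [← h, frm_rp])
  refine Subgroup.closure_mono ?_ h2
  rintro s ⟨v, i, h3, h4⟩
  refine ⟨v, i, h3, ?_⟩
  rw [h1] at h4
  rw [h4]
  exact dvd_zero _

/-- the representatives -/
theorem stab_R (hR : ReflZ) (k : Fin 4) {w : W6} (h : C3 (rp w (R k)) (R k)) : w ∈ Rf (R k) := by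
  by_cases hk : k = 0
  · subst hk
    refine mem_Rf_of_fix hR ?_
    have h0 : R 0 = 0 := by
      funext i; fin_cases i <;> rfl
    rw [h0]
    exact map_zero _
  obtain ⟨v, hv⟩ := h
  -- the bounds
  have hb : ∀ a, IsRoot cs6 hp6.isCartan a → frm a (R k) + 3 * frm a v ≤ bd k ∧
      -bd k ≤ frm a (R k) + 3 * frm a v := by
    intro a ha
    have h1 := bd_root (ha.act w⁻¹) k
    have h2 : frm (rep cs6 hp6.isCartan w⁻¹ a) (R k) = frm a (R k) + 3 * frm a v := by
      rw [← frm_smul_right, ← frm_add_right, ← hv]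
      have := frm_rp w (rp w⁻¹ a) (R k)
      rw [rp_inv'] at this
      exact this.symm
    rwa [h2] at h1
  have hu : ∀ i, -1 ≤ pairing Ca i v ∧ pairing Ca i v ≤ 1 := by
    intro i
    have h1 := hb (sr i) (isRoot_sr _ _ i)
    rw [frm_sr, frm_sr] at h1
    have h2 : pairing Ca i (R k) = Pr k i := by rw [← pairing_R, ← cartanE6]
    rw [h2] at h1
    have h3 : ∀ k i, (0 ≤ Pr k i ∧ Pr k i ≤ 1) ∧ bd k ≤ 3 := by decide +kernel
    have h4 := h3 k i
    omega
  have h3 := chk2' k hk _ hu (fun j => ⟨v j, (three_mul v j).symm⟩) (fun s => by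
    have h4 := hb _ ((root_iff _).2 ⟨s, rfl⟩)
    have h5 : ∑ i, vec chevE6 6 s i * (Pr k i + 3 * pairing Ca i v) =
        frm (vec chevE6 6 s) (R k) + 3 * frm (vec chevE6 6 s) v := by
      rw [frm_R, frm_def, Finset.mul_sum, ← Finset.sum_add_distrib]
      exact Finset.sum_congr rfl fun i _ => by ring
    rw [h5]
    exact h4)
  rcases h3 with h3 | ⟨s, h3, h4⟩
  · -- `v = 0`
    have hv0 : v = 0 := by
      funext j
      have h5 := three_mul v j
      simp only [h3, mul_zero, Finset.sum_const_zero] at h5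
      show v j = 0
      omega
    rw [hv0, smul_zero, add_zero] at hv
    exact mem_Rf_of_fix hR hv
  · -- `v` is the opposite of a root
    have hv1 : v = -vec chevE6 6 s := by
      funext j
      have h5 := three_mul v j
      rw [h3 j] at h5
      show v j = -vec chevE6 6 s j
      omega
    have ha : IsRoot cs6 hp6.isCartan (vec chevE6 6 s) := (root_iff _).2 ⟨s, rfl⟩
    rw [← frm_R] at h4
    obtain ⟨y, i, hy⟩ := id ha
    have hy' : vec chevE6 6 s = rp y (sr i) := hy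
    -- the norm of the root
    have h6 : frm (vec chevE6 6 s) (vec chevE6 6 s) = 2 := by
      rw [hy', frm_rp, frm_sr, sr, pairing_single, mul_one]
      exact hp6.isCartan.diag i
    have h7 : rp (y * cs6.simple i * y⁻¹) (rp w (R k)) = R k := by
      rw [rp_refl, ← hy', hv, hv1, frm_add_right, frm_smul_right, h4]
      have h8 : frm (vec chevE6 6 s) (-vec chevE6 6 s) = -2 := by
        rw [← neg_one_smul ℤ (vec chevE6 6 s), frm_smul_right, h6]
        norm_num
      rw [h8, smul_neg]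
      module
    rw [← rp_mul] at h7
    have h8 := mem_Rf_of_fix hR h7
    have h9 : y * cs6.simple i * y⁻¹ ∈ Rf (R k) := Subgroup.subset_closure ⟨y, i, rfl, by
      rw [← hy', h4]⟩
    have e : w = (y * cs6.simple i * y⁻¹)⁻¹ * (y * cs6.simple i * y⁻¹ * w) := by group
    rw [e]
    exact mul_mem (inv_mem h9) h8

/-! ### the orbits on the root lattice -/

/-- every element is conjugate to a representative up to elements with pairings divisible by 3 -/
theorem orb' (d : Fin 6 → ℤ) : ∃ (u : W6) (k : Fin 4), ∀ i, (3 : ℤ) ∣ pairing Ca i (d - rp u (R k)) := by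
  obtain ⟨u, k, h⟩ := orb (fun i => ((pairing Ca i d : ℤ) : ZMod 3)) (by
    unfold cl3
    have h1 : ∀ i, pairing Ca i d = ∑ m, AE6 i m * d m := fun i => by
      show ∑ m, (cartanOf chevE6 6) i m * d m = _
      rw [cartanE6]
    have h2 : ((pairing Ca 0 d : ℤ) : ZMod 3) + 2 * ((pairing Ca 2 d : ℤ) : ZMod 3) + ((pairing Ca 4 d : ℤ) : ZMod 3) +
        2 * ((pairing Ca 5 d : ℤ) : ZMod 3) =
        ((pairing Ca 0 d + 2 * pairing Ca 2 d + pairing Ca 4 d + 2 * pairing Ca 5 d : ℤ) : ZMod 3) := by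
      push_cast; ring
    rw [h2, ZMod.intCast_zmod_eq_zero_iff_dvd, h1, h1, h1, h1]
    refine ⟨d 2 - d 3 + d 5, ?_⟩
    simp [Fin.sum_univ_six, AE6]
    ring)
  refine ⟨u, k, fun i => ?_⟩
  have h1 := h i
  have h2 : pairing Ca i (d - rp u (R k)) = pairing Ca i d - pairing Ca i (rp u (R k)) := by
    rw [← frm_sr, frm_sub_right, frm_sr, frm_sr]
  rw [h2]
  have h3 : (3 : ℤ) = ((3 : ℕ) : ℤ) := rfl
  rw [h3, ← ZMod.intCast_eq_intCast_iff_dvd_sub]
  exact h1.symm

theorem frm_dvd {e : Fin 6 → ℤ} (he : ∀ i, (3 : ℤ) ∣ pairing Ca i e) (a : Fin 6 → ℤ) : (3 : ℤ) ∣ frm a e := by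
  rw [frm_def]
  exact Finset.dvd_sum fun i _ => Dvd.dvd.mul_left (he i) _

/-- **The stabilisers modulo 3 are generated by reflections.** -/
theorem stab3 (hR : ReflZ) {d : Fin 6 → ℤ} {w : W6} (h : C3 (rp w d) d) : w ∈ Rf d := by
  obtain ⟨u, k, he⟩ := orb' d
  obtain ⟨e, hed⟩ : ∃ e, e = d - rp u (R k) := ⟨_, rfl⟩
  rw [← hed] at he
  have hd : d = rp u (R k) + e := by rw [hed, add_sub_cancel]
  have h1 : C3 (rp w (rp u (R k))) (rp u (R k)) := by
    obtain ⟨v, hv⟩ := h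
    obtain ⟨v', hv'⟩ := c3_ker he w
    refine ⟨v - v', ?_⟩
    rw [hd, rp_add, hv'] at hv
    rw [smul_sub]
    have : rp w (rp u (R k)) = rp u (R k) + e + (3 : ℤ) • v - (e + (3 : ℤ) • v') := by
      rw [← hv, add_sub_cancel_right]
    rw [this]
    abel
  have h2 : C3 (rp (u⁻¹ * w * u) (R k)) (R k) := by
    have := h1.rp u⁻¹
    rwa [rp_inv, ← rp_mul, ← rp_mul] at this
  have h3 := Rf_conj u (stab_R hR k h2)
  have e1 : u * (u⁻¹ * w * u) * u⁻¹ = w := by group
  rw [e1] at h3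
  rwa [Rf_congr (d' := rp u (R k)) fun a => by rw [hd, frm_add_right, add_sub_cancel_left]; exact frm_dvd he a]

/-- **`-1` on the image.** -/
theorem neg3 (d : Fin 6 → ℤ) : ∃ w : W6, ∀ a, (3 : ℤ) ∣ frm a (rp w d) + frm a d := by
  obtain ⟨u, k, he⟩ := orb' d
  obtain ⟨e, hed⟩ : ∃ e, e = d - rp u (R k) := ⟨_, rfl⟩
  rw [← hed] at he
  have hd : d = rp u (R k) + e := by rw [hed, add_sub_cancel]
  obtain ⟨w₀, hw₀⟩ := Cfsg.Agent.H696.GmnTwE6.neg_graph hp6 cs6
  have h1 : rp w₀ (R k) = -R k := by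
    have h2 := hw₀ (R k)
    have h3 : permE rho6 (R k) = R k := by
      funext i
      show R k (rho6.symm i) = R k i
      have h4 : ∀ k i, R k (rho6.symm i) = R k i := by decide +kernel
      exact h4 k i
    rw [h3] at h2
    exact (neg_eq_iff_eq_neg.2 h2).symm
  refine ⟨u * w₀ * u⁻¹, fun a => ?_⟩
  have h2 : rp (u * w₀ * u⁻¹) (rp u (R k)) = -rp u (R k) := by
    rw [← rp_mul, inv_mul_cancel_right, rp_mul, h1, rp_neg]
  have h3 := (c3_ker he (u * w₀ * u⁻¹)).frm a
  have h4 := frm_dvd he a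
  have h5 : frm a (rp (u * w₀ * u⁻¹) d) + frm a d = frm a (rp (u * w₀ * u⁻¹) e) - frm a e + 2 * frm a e := by
    rw [hd, rp_add, h2, frm_add_right, frm_add_right]
    have h6 : frm a (-rp u (R k)) = -frm a (rp u (R k)) := by
      rw [← neg_one_smul ℤ, frm_smul_right, neg_one_mul]
    rw [h6]
    ring
  rw [h5]
  exact dvd_add h3 (Dvd.dvd.mul_left h4 _)

end Cfsg.Agent.H943.Car.W3
end

-- part: H943/Car/Cov
section
set_option linter.all false
open scoped Cfsg.Agent.FastGrp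

/-!
# Elements of order 3 of `E₆^ε(q)` and the Steinberg group (helper943)
-/

set_option autoImplicit false
set_option linter.unusedSectionVars false

namespace Cfsg.Agent.H943.Car.Cov

open CoxeterSystem Cfsg Cfsg.Lie Cfsg.Lie.ChevalleyDatum
open Cfsg.Agent.ChevalleyStructure Cfsg.Agent.ChevalleyStructure.Elts Cfsg.Agent.ChevalleyStructure.CoxeterGeom
  Cfsg.Agent.ChevalleyStructure.CoxeterGeomTypes Cfsg.Agent.ChevalleyStructure.NPerm
open Cfsg.Agent.Tits.Roots Cfsg.Agent.Tits.Core Cfsg.Agent.Nodes Cfsg.Agent.Nodes.Reps Cfsg.Agent.Nodes.BNOf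
  Cfsg.Agent.Nodes.RGDChev
open Cfsg.Agent.KFacts.RgdChevCoord
open Cfsg.Agent.BpExc Cfsg.Agent.BpExc.TorCent Cfsg.Agent.BpExc.TorChev Cfsg.Agent.BpExc.Tow
open Cfsg.Agent.BpExc.TowChev Cfsg.Agent.BpExc.Fr Cfsg.Agent.BpExc.LangFr
open Cfsg.Agent.ChevalleyStructure.StBasic Cfsg.Agent.ChevalleyStructure.StTheta
open Cfsg.Agent.H129.StCover
open Cfsg.Agent.H696.GmnToral Cfsg.Agent.H696.GmnUntw Cfsg.Agent.H696.GmnThree Cfsg.Agent.H720.TwFr
open Cfsg.Agent.H607.Car Cfsg.Agent.H943.Car.W3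

variable {k : Type} [Field k] [IsAlgClosed k]

/-- the powers of a unit -/
def ex (ζ : kˣ) (d : Fin 6 → ℤ) : Fin chevE6.rank → kˣ := fun i => ζ ^ d i

theorem ex_apply (ζ : kˣ) (d : Fin 6 → ℤ) (i : Fin 6) : ex ζ d i = ζ ^ d i := rfl

theorem of_ex_eq {ζ : kˣ} (h3 : orderOf ζ = 3) {d d' : Fin 6 → ℤ} (h : ex ζ d = ex ζ d') : C3 d d' := by
  refine c3_of fun i => ?_
  have h1 : ζ ^ d i = ζ ^ d' i := congrFun h i
  have h2 : ζ ^ (d i - d' i) = 1 := by rw [zpow_sub, h1, mul_inv_cancel]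
  have h4 := orderOf_dvd_iff_zpow_eq_one.2 h2
  rwa [h3] at h4

theorem symm_cartan : ∀ i m : Fin 6, chevE6.cartan m (chevE6.simple i) = chevE6.cartan i (chevE6.simple m) := by
  decide +kernel

theorem sAct_ex (ζ : kˣ) (i : Fin 6) (d : Fin 6 → ℤ) :
    sAct chevE6 k i (ex ζ d) = ex ζ (rp (cs6.simple i) d) := by
  rw [rp_simple]
  have h1 : ∏ m : Fin chevE6.rank, ex ζ d m ^ chevE6.cartan m (chevE6.simple i) = ζ ^ pairing Ca i d := by
    have h2 : ∀ m : Fin 6, ex ζ d m ^ chevE6.cartan m (chevE6.simple i) = ζ ^ (cartanOf chevE6 6 i m * d m) := by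
      intro m
      rw [ex_apply, ← zpow_mul, symm_cartan, mul_comm]
      rfl
    show ∏ m : Fin 6, ex ζ d m ^ chevE6.cartan m (chevE6.simple i) = ζ ^ ∑ m, cartanOf chevE6 6 i m * d m
    rw [← prod_zpow_sum]
    exact Finset.prod_congr rfl fun m _ => h2 m
  refine funext fun (j : Fin 6) => ?_
  show (if j = i then ex ζ d j * (∏ m : Fin chevE6.rank, ex ζ d m ^ chevE6.cartan m (chevE6.simple i))⁻¹ else ex ζ d j) =
    ζ ^ ((d - pairing Ca i d • sr i) j)
  rw [h1]
  by_cases hj : j = i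
  · subst hj
    rw [if_pos rfl, Pi.sub_apply, Pi.smul_apply, sr_self, smul_eq_mul, mul_one, zpow_sub]
    rfl
  · rw [if_neg hj, Pi.sub_apply, Pi.smul_apply, sr_ne hj, smul_zero, sub_zero]
    rfl

variable {Φ : (Fin chevE6.rank → kˣ) →* chevE6.SteinbergGroup k} (hΦ : IsPhi Φ)

include hΦ in
theorem nW_ex (ω : List (Fin 6)) (ζ : kˣ) (d : Fin 6 → ℤ) :
    nW chevE6 k ω * Φ (ex ζ d) * (nW chevE6 k ω)⁻¹ = Φ (ex ζ (rp (cs6.wordProd ω) d)) := by
  induction ω with
  | nil =>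
    rw [wordProd_nil, rp_one]
    simp [nW]
  | cons i ω ih =>
    rw [nW_cons, wordProd_cons, rp_mul]
    have e : stn chevE6 (chevE6.simple (i : ℕ)) (1 : k) * nW chevE6 k ω * Φ (ex ζ d) *
        (stn chevE6 (chevE6.simple (i : ℕ)) (1 : k) * nW chevE6 k ω)⁻¹ =
        stn chevE6 (chevE6.simple (i : ℕ)) (1 : k) * (nW chevE6 k ω * Φ (ex ζ d) * (nW chevE6 k ω)⁻¹) *
          (stn chevE6 (chevE6.simple (i : ℕ)) (1 : k))⁻¹ := by group
    rw [e, ih, ← sAct_ex]
    exact conj_n_phi hp6.inList hΦ i _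

include hΦ in
theorem theta_single (i : Fin chevE6.rank) (x : kˣ) :
    theta hp6.inList k (Φ (Pi.mulSingle i x)) = hc hp6 i (x : k) := by
  rw [hΦ.single]
  apply Subtype.ext
  apply Units.ext
  rw [theta_sth (theta hp6.inList k) (fun r t _ => StTheta.theta_stGen hp6.inList r t)]
  exact (coe_hG hp6.inList _ _).symm

section Ch

variable (hk : LocFin k) (r : ℕ) [Fact r.Prime] [CharP k r]

include hΦ hk r in
/-- the characters of the image of the torus -/
theorem ch_phi {a : Fin 6 → ℤ} (ha : IsRoot cs6 hp6.isCartan a) (b : Fin chevE6.rank → kˣ) :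
    ch hp6 a (theta hp6.inList k (Φ b)) = ((∏ i : Fin 6, (b i) ^ pairing Ca i a : kˣ) : k) := by
  have key : ∀ s : Finset (Fin chevE6.rank), ch hp6 a (theta hp6.inList k (Φ (∏ i ∈ s, Pi.mulSingle i (b i)))) =
      ((∏ i ∈ s, (b i) ^ pairing Ca i a : kˣ) : k) := by
    classical
    intro s
    induction s using Finset.induction_on with
    | empty =>
      rw [Finset.prod_empty, Finset.prod_empty, map_one, map_one, ch_one hp6 cs6 hk r ha, Units.val_one]
    | insert i s hi ih =>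
      rw [Finset.prod_insert hi, Finset.prod_insert hi, map_mul, map_mul,
        ch_mul hp6 cs6 hk r ha (theta_phi_mem hp6.inList hΦ _) (theta_phi_mem hp6.inList hΦ _), ih,
        theta_single hΦ, ch_hc' hp6 hk r cs6 (Units.ne_zero _) i ha, Units.val_mul, Units.val_zpow_eq_zpow_val]
  have h1 := key Finset.univ
  rw [Finset.univ_prod_mulSingle] at h1
  exact h1

include hΦ hk r in
theorem ch_ex {a : Fin 6 → ℤ} (ha : IsRoot cs6 hp6.isCartan a) (ζ : kˣ) (d : Fin 6 → ℤ) :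
    ch hp6 a (theta hp6.inList k (Φ (ex ζ d))) = (ζ : k) ^ frm a d := by
  rw [ch_phi hΦ hk r ha, frm_comm, frm_def, ← Units.val_zpow_eq_zpow_val, ← prod_zpow_sum]
  congr 1
  exact Finset.prod_congr rfl fun i _ => by rw [ex_apply, ← zpow_mul]

end Ch

/-! ### the cover -/

/-- the Steinberg group as a cover of the pair `(E₆(k), σ)`: the elements of `X` lift to fixed elements -/
structure Cover (σ : MulAut ↥(chevE6.group k)) {X : Type} [Group X] (ι : X →* ↥(chevE6.group k)) (v : W6)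
    (Φ : (Fin chevE6.rank → kˣ) →* chevE6.SteinbergGroup k)
    (Ψ : chevE6.SteinbergGroup k →* chevE6.SteinbergGroup k) : Prop where
  isPhi : IsPhi Φ
  thPsi : ∀ x, theta hp6.inList k (Ψ x) = σ (theta hp6.inList k x)
  phi : ∀ ζ : kˣ, ζ ^ 3 = 1 → ∀ d, Ψ (Φ (ex ζ d)) = Φ (ex ζ (rp v d))
  lift : ∀ x : X, ∃ x', Ψ x' = x' ∧ theta hp6.inList k x' = ι x

/-- elements with the same image -/
theorem exists_cen {x y : chevE6.SteinbergGroup k}
    (h : theta hp6.inList k x = theta hp6.inList k y) : ∃ κ ∈ Subgroup.center (chevE6.SteinbergGroup k), y = x * κ := by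
  refine ⟨x⁻¹ * y, ?_, by group⟩
  rw [← ker_theta hp6.inList, MonoidHom.mem_ker, map_mul, map_inv, h, inv_mul_cancel]

include hΦ in
theorem cen_pow {κ : chevE6.SteinbergGroup k} (hκ : κ ∈ Subgroup.center (chevE6.SteinbergGroup k)) : κ ^ 3 = 1 := by
  obtain ⟨a, rfl⟩ := hΦ.center_le hκ
  have h1 := (hΦ.mem_iff a).1 hκ
  rw [← map_pow]
  have h2 : a ^ 3 = 1 := by
    funext i
    exact Cfsg.Agent.H129.StTwT.cen_cube h1 i
  rw [h2, map_one]

section Main

variable (hk : LocFin k) (r : ℕ) [Fact r.Prime] [CharP k r]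

include hΦ hk r in
/-- the lifts of the elements of the class of the coroot lattice have order 3 -/
theorem cube {y : ↥(chevE6.group k)} {x' : chevE6.SteinbergGroup k} (hx' : theta hp6.inList k x' = y)
    {z t : ↥(chevE6.group k)} (ht : t ∈ TT chevE6 k) (hz : z⁻¹ * y * z = t) {ω : kˣ} (hω : ω ^ 3 = 1)
    {c : Fin 6 → ZMod 3} (hc : ∀ i, ch hp6 (sr i) t = (ω : k) ^ (c i).val) (h0 : cl3 c = 0) : x' ^ 3 = 1 := by
  have hZ : Subgroup.center ↥(chevE6.group k) = ⊥ := center_eq_bot_of_simple (S1054.result chevE6 (by simp))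
  obtain ⟨u, j, hj⟩ := orb c h0
  obtain ⟨d, hd⟩ : ∃ d, d = rp u (R j) := ⟨_, rfl⟩
  rw [← hd] at hj
  have hs : theta hp6.inList k (Φ (ex ω d)) ∈ TT chevE6 k := theta_phi_mem hp6.inList hΦ _
  have h1 : theta hp6.inList k (Φ (ex ω d)) = t := by
    refine ext_TT hp6 cs6 hk r hZ hs ht fun a ha => ?_
    rw [ch_prod hp6 hk r cs6 hs ha, ch_prod hp6 hk r cs6 ht ha]
    refine Finset.prod_congr rfl fun i _ => ?_
    congr 1
    rw [hc i, ch_ex hΦ hk r (isRoot_sr _ _ i), frm_sr, ← zpow_natCast, ← Units.val_zpow_eq_zpow_val,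
      ← Units.val_zpow_eq_zpow_val]
    congr 1
    have h2 := hj i
    have h3 : (3 : ℤ) ∣ pairing Ca i d - ((c i).val : ℤ) := by
      have h4 : (3 : ℤ) = ((3 : ℕ) : ℤ) := rfl
      rw [h4, ← ZMod.intCast_eq_intCast_iff_dvd_sub, ← h2]
      simp
    obtain ⟨m, hm⟩ := h3
    have h4 : pairing Ca i d = ((c i).val : ℤ) + 3 * m := by omega
    have h5 : ω ^ (3 : ℤ) = 1 := by exact_mod_cast hω
    rw [h4, zpow_add, zpow_mul, h5, one_zpow, mul_one]
  obtain ⟨z', rfl⟩ := theta_surjective hp6.inList z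
  have h2 : theta hp6.inList k x' = theta hp6.inList k (z' * Φ (ex ω d) * z'⁻¹) := by
    rw [hx', map_mul, map_mul, map_inv, h1, ← hz]
    group
  obtain ⟨κ, hκ, h3⟩ := exists_cen h2.symm
  have h4 : (z' * Φ (ex ω d) * z'⁻¹) ^ 3 = 1 := by
    rw [conj_pow, ← map_pow]
    have h5 : (ex ω d) ^ 3 = 1 := by
      funext i
      show (ω ^ d i) ^ 3 = 1
      rw [← zpow_natCast, ← zpow_mul, mul_comm, zpow_mul, zpow_natCast, hω, one_zpow]
    rw [h5, map_one, mul_one, mul_inv_cancel]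
  have h5 : Commute (z' * Φ (ex ω d) * z'⁻¹) κ := Subgroup.mem_center_iff.1 hκ _
  rw [h3, h5.mul_pow, h4, cen_pow hΦ hκ, mul_one]

include hk r in
/-- **Frames**: the element of the Weyl group fixes the class in the coroot lattice modulo 3. -/
theorem frame_of_cover {σ : MulAut ↥(chevE6.group k)} {X : Type} [Group X] {ι : X →* ↥(chevE6.group k)} {v : W6}
    {Ψ : chevE6.SteinbergGroup k →* chevE6.SteinbergGroup k} (C : Cover σ ι v Φ Ψ)
    {y : ↥(chevE6.group k)} {x' : chevE6.SteinbergGroup k} (hx' : theta hp6.inList k x' = y) (hfix : Ψ x' = x')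
    (h3 : x' ^ 3 = 1) {z t n : ↥(chevE6.group k)} (ht : t ∈ TT chevE6 k) (hz : z⁻¹ * y * z = t)
    (hn : z⁻¹ * σ z = n) {T' : Subgroup ↥(chevE6.group k)} (hT' : T' = TT chevE6 k)
    {hN : NSys CoxeterMatrix.E₆ T' (nc hp6 k)} {w : W6} (hw : Rp cs6 hN w n)
    {ζ : kˣ} (hζ : orderOf ζ = 3) :
    ∃ d : Fin 6 → ℤ, (∀ a, IsRoot cs6 hp6.isCartan a → ch hp6 a t = (ζ : k) ^ frm a d) ∧ C3 (rp w (rp v d)) d := by
  have hζ3 : ζ ^ 3 = 1 := by rw [← hζ]; exact pow_orderOf_eq_one ζ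
  have hΦ := C.isPhi
  obtain ⟨b, hb⟩ := exists_theta_phi hΦ hp6 ht
  obtain ⟨z', rfl⟩ := theta_surjective hp6.inList z
  have h1 : theta hp6.inList k (z' * Φ b * z'⁻¹) = theta hp6.inList k x' := by
    rw [hx', map_mul, map_mul, map_inv, hb, ← hz]
    group
  obtain ⟨κ, hκ, h2⟩ := exists_cen h1
  obtain ⟨a, ha⟩ := hΦ.center_le hκ
  -- absorb the central factor
  obtain ⟨b', hb'⟩ : ∃ b', b' = b * a := ⟨_, rfl⟩
  have h4 : x' = z' * Φ b' * z'⁻¹ := by
    rw [h2, hb', map_mul, ha, mul_assoc _ z'⁻¹ κ, Subgroup.mem_center_iff.1 hκ z'⁻¹]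
    group
  have h5 : theta hp6.inList k (Φ b') = t := by
    have h6 : theta hp6.inList k κ = 1 := by
      rw [← MonoidHom.mem_ker, ker_theta hp6.inList]; exact hκ
    rw [hb', map_mul, map_mul, ha, h6, mul_one, hb]
  have h6 : b' ^ 3 = 1 := by
    apply hΦ.inj
    have h7 := h3
    rw [h4, conj_pow, conj_eq_one_iff] at h7
    rw [map_pow, map_one, h7]
  -- coordinates
  have h7 : ∀ i : Fin 6, ∃ m : ℤ, b' i = ζ ^ m := by
    intro i
    have h8 : (b' i) ^ 3 = 1 := congrFun h6 i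
    have h8' : ((b' i : kˣ) : k) ^ 3 = 1 := by rw [← Units.val_pow_eq_pow_val, h8, Units.val_one]
    have h9 : IsPrimitiveRoot ζ 3 := by rw [← hζ]; exact IsPrimitiveRoot.orderOf ζ
    have h9' : IsPrimitiveRoot (ζ : k) 3 := IsPrimitiveRoot.coe_units_iff.2 h9
    obtain ⟨m, -, hm⟩ := h9'.eq_pow_of_pow_eq_one h8'
    exact ⟨m, Units.ext (by rw [zpow_natCast, Units.val_pow_eq_pow_val]; exact hm.symm)⟩
  choose d hd using h7
  have h8 : b' = ex ζ d := funext fun i => hd i
  subst h8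
  refine ⟨d, fun a ha => by rw [← h5, ch_ex hΦ hk r ha], ?_⟩
  -- the representative
  obtain ⟨ω, rfl⟩ := cs6.wordProd_surjective w
  have hrp : Rp cs6 hN (cs6.wordProd ω) (theta hp6.inList k (nW chevE6 k ω)) := by
    clear hw
    induction ω with
    | nil =>
      rw [wordProd_nil]
      have : theta hp6.inList k (nW chevE6 k ([] : List (Fin 6))) = 1 := by simp [nW]
      rw [this]
      exact rp_one
    | cons i ω ih =>
      rw [wordProd_cons, nW_cons, map_mul, theta_stn_simple hp6]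
      exact (rp_simple cs6 hN i).mul ih
  have ht0 : (theta hp6.inList k (nW chevE6 k ω))⁻¹ * n ∈ TT chevE6 k := by
    rw [← hT']; exact hrp.unique hw
  obtain ⟨a', ha'⟩ := exists_theta_phi hΦ hp6 ht0
  have hθn : theta hp6.inList k (nW chevE6 k ω * Φ a') = theta hp6.inList k (z'⁻¹ * Ψ z') := by
    rw [map_mul, ha', map_mul, map_inv, C.thPsi, hn]
    group
  obtain ⟨κ', hκ', h9⟩ := exists_cen hθn
  have h10 : Ψ z' = z' * (nW chevE6 k ω * Φ a' * κ') := by rw [← h9]; group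
  have hκc : ∀ x : chevE6.SteinbergGroup k, κ' * x * κ'⁻¹ = x := fun x => by
    rw [← Subgroup.mem_center_iff.1 hκ' x, mul_inv_cancel_right]
  have h11 : Φ a' * Φ (ex ζ (rp v d)) * (Φ a')⁻¹ = Φ (ex ζ (rp v d)) := by
    rw [← map_mul, ← map_inv, ← map_mul]
    congr 1
    exact mul_inv_cancel_comm _ _
  have h12 : z' * Φ (ex ζ (rp (cs6.wordProd ω) (rp v d))) * z'⁻¹ = z' * Φ (ex ζ d) * z'⁻¹ := by
    rw [← h4]
    conv_rhs => rw [← hfix, h4, map_mul, map_mul, map_inv, h10, C.phi ζ hζ3]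
    rw [← nW_ex hΦ]
    conv_lhs => rw [← h11, ← hκc (Φ (ex ζ (rp v d)))]
    group
  have h13 := mul_left_cancel (mul_right_cancel h12)
  exact of_ex_eq hζ (hΦ.inj h13)

end Main

end Cfsg.Agent.H943.Car.Cov
end

-- part: H943/Car/Three
section
prune_inst 0x14303d040722000000180000a0003f12ba000092004b8801c9400a0004c0880220018e210ce013020022881820040068135c0030422000000a0004004005040108aa5206f3c9a104640006800006400000000000000000000000000000000000200000000
set_option linter.all false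
open scoped Cfsg.Agent.FastGrp

/-!
# Elements of order 3 of `E₆^ε(q)`, `3 ∣ q - ε` (S3852, T4; helper943)

`three_of` : the statement `ThreeSt` from the data of the cover; `threeSt_untw`, `threeSt_tw` : both groups.
-/

set_option autoImplicit false
set_option linter.unusedSectionVars false

namespace Cfsg.Agent.H943.Car.Three

open CoxeterSystem Cfsg Cfsg.Lie Cfsg.Lie.ChevalleyDatum
open Cfsg.Agent.ChevalleyStructure Cfsg.Agent.ChevalleyStructure.Elts Cfsg.Agent.ChevalleyStructure.CoxeterGeom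
  Cfsg.Agent.ChevalleyStructure.CoxeterGeomTypes Cfsg.Agent.ChevalleyStructure.NPerm
open Cfsg.Agent.Tits.Roots Cfsg.Agent.Tits.Core Cfsg.Agent.Nodes Cfsg.Agent.Nodes.Reps Cfsg.Agent.Nodes.BNOf
  Cfsg.Agent.Nodes.RGDChev Cfsg.Agent.Nodes.Bruhat
open Cfsg.Agent.KFacts.RgdField Cfsg.Agent.KFacts.RgdChevCoord
open Cfsg.Agent.BpExc Cfsg.Agent.BpExc.TorCent Cfsg.Agent.BpExc.TorChev Cfsg.Agent.BpExc.Tow
open Cfsg.Agent.BpExc.TowChev Cfsg.Agent.BpExc.Fr Cfsg.Agent.BpExc.LangFr Cfsg.Agent.BpExc.HX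
open Cfsg.Agent.BpExc.NChev Cfsg.Agent.BpExc.NInst Cfsg.Agent.BpExc.Pair Cfsg.Agent.BpExc.FamUntw
open Cfsg.Agent.ChevalleyStructure.StBasic Cfsg.Agent.ChevalleyStructure.StTheta
open Cfsg.Agent.H129.StCover
open Cfsg.Agent.H696.GmnToral Cfsg.Agent.H696.GmnUntw Cfsg.Agent.H696.GmnThree Cfsg.Agent.H720.TwFr
open Cfsg.Agent.H607.Car Cfsg.Agent.H943.Car.W3 Cfsg.Agent.H943.Car.Cov

section Lang

variable {r : ℕ} [Fact r.Prime]

/-- the torus -/
local notation "kk" => Kb r

/-- **The reflections of the roots centralising `t` are represented in the centraliser; the Lang step.** -/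
theorem lang_step (hk : LocFin (Kb r)) {n : ℕ} (hn0 : 0 < n) {σ : MulAut (Yb r)}
    {g' : (Fin 6 → ℤ) ≃+ (Fin 6 → ℤ)} {z t m : Yb r} (hσ : IsFrob r n (MulAut.conj m * σ))
    (F : Fr cs6 hp6.isCartan (Tb r) (XX chevE6 6 (Kb r)) (MulAut.conj m * σ) g')
    (ht : t ∈ Tb r) (htt : (MulAut.conj m * σ) t = t) (hm : z⁻¹ * σ z = m) {w₂ : W6}
    (hw₂ : w₂ ∈ Subgroup.closure {s | ∃ (v : W6) (i : Fin 6), s = v * cs6.simple i * v⁻¹ ∧
      ch hp6 (rp v (sr i)) t = 1}) :
    ∃ y m₁ : Yb r, y * t = t * y ∧ Rp cs6 (tow hp6 cs6 hk r (k := Kb r)).nsys w₂ m₁ ∧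
      (z * y)⁻¹ * σ (z * y) = m₁ * m := by
  have hfin : Finite W6 := finite_W hp6 cs6
  have hTL : TL (Tj hp6 (k := Kb r)) = TT chevE6 (Kb r) := TL_eq hp6 hk
  have hXL : XL (Xj hp6 (k := Kb r)) = XX chevE6 6 (Kb r) := XL_eq hp6 hk
  have C : Coords cs6 hp6.isCartan (TL (Tj hp6 (k := Kb r))) (nc hp6 (Kb r))
      (XL (Xj hp6 (k := Kb r))) (xc hp6) (ch hp6) := by
    rw [hTL, hXL]; exact coordsL hp6 cs6 hk r
  have hA : ChAdd cs6 hp6.isCartan (TL (Tj hp6 (k := Kb r))) (ch (K := Kb r) hp6) := by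
    rw [hTL]; exact chAddL hp6 cs6 hk r
  have H := tow hp6 cs6 hk r (k := Kb r)
  have ht' : t ∈ TL (Tj hp6 (k := Kb r)) := by rw [hTL]; exact ht
  -- the elements represented in `MM t`
  let V : Subgroup W6 :=
    { carrier := {v | ∃ m ∈ MM cs6 hp6.isCartan (XL (Xj hp6 (k := Kb r))) (ch hp6) t, Rp cs6 H.nsys v m}
      one_mem' := ⟨1, one_mem _, rp_one⟩
      mul_mem' := by
        rintro a b ⟨m, hm, hm'⟩ ⟨m', hm1, hm2⟩
        exact ⟨m * m', mul_mem hm hm1, hm'.mul hm2⟩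
      inv_mem' := by
        rintro a ⟨m, hm, hm'⟩
        exact ⟨m⁻¹, inv_mem hm, hm'.inv⟩ }
  have hV : w₂ ∈ V := by
    refine (Subgroup.closure_le V).2 ?_ hw₂
    rintro s ⟨v, i, rfl, h1⟩
    have ha : rp v (sr i) ∈ Sx cs6 hp6.isCartan (ch hp6) t := ⟨⟨v, i, rfl⟩, h1⟩
    obtain ⟨v', i', h2, m', hm', hm''⟩ := exists_rfl_MM H C hA ht' ha
    have h3 : v * cs6.simple i * v⁻¹ = v' * cs6.simple i' * v'⁻¹ := by
      refine rep_faithful hp6 cs6 fun b _ => ?_
      have h4 := rp_refl v i b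
      have h5 := rp_refl v' i' b
      have h6 : rp v (sr i) = rp v' (sr i') := h2
      rw [h6] at h4
      exact h4.trans h5.symm
    refine ⟨m', hm', ?_⟩
    rw [h3]
    exact hm''
  obtain ⟨m₁, hm₁, hR⟩ := hV
  have F1 : Fr cs6 hp6.isCartan (TL (Tj hp6 (k := Kb r))) (XL (Xj hp6 (k := Kb r))) (MulAut.conj m * σ) g' := by
    rw [hTL, hXL]; exact F
  obtain ⟨y, hy, hym⟩ : ∃ y ∈ MM cs6 hp6.isCartan (XL (Xj hp6 (k := Kb r))) (ch hp6) t,
      m₁ = y⁻¹ * (MulAut.conj m * σ) y := by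
    have h1 := fun a => F1.mem_Sx C ht' htt a
    have h2 := hm₁
    unfold MM at h2 ⊢
    rw [hXL] at h2 ⊢
    exact lang_fr hp6 cs6 hn0 hσ F (S := Sx cs6 hp6.isCartan (ch hp6) t) (fun a ha => ha.1)
      (fun a ha => (h1 a).2 ha) h2
  have hyt : y * t = t * y := by
    have := MM_le_centralizer C ht' hy
    rw [Subgroup.mem_centralizer_singleton_iff] at this
    exact this
  refine ⟨y, m₁, hyt, hR, ?_⟩
  have h1 : (MulAut.conj m * σ) y = m * σ y * m⁻¹ := rfl
  rw [hym, h1, map_mul]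
  calc (z * y)⁻¹ * (σ z * σ y) = y⁻¹ * (z⁻¹ * σ z) * σ y := by group
    _ = _ := by rw [hm]; group

end Lang

section Main

variable {r n : ℕ} [Fact r.Prime] {ε : ℤ} {X : Type} [Group X] {ι : X →* Yb r} {σ : MulAut (Yb r)}

theorem locFin : LocFin (Kb r) := locFin_of_isAlgebraic r (Kb r)

/-- **T4 from the cover.** -/
theorem three_of (hR : ReflZ) (S : Six r n ε ι σ) {v₀ : W6} {g : (Fin 6 → ℤ) ≃+ (Fin 6 → ℤ)}
    (Fσ : Fr cs6 hp6.isCartan (Tb r) (XX chevE6 6 (Kb r)) σ g) (hg : ∀ a, g a = ε • rp v₀ a)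
    {Φ : (Fin chevE6.rank → (Kb r)ˣ) →* chevE6.SteinbergGroup (Kb r)}
    {Ψ : chevE6.SteinbergGroup (Kb r) →* chevE6.SteinbergGroup (Kb r)} (Co : Cover σ ι v₀ Φ Ψ)
    (hdiv : (3 : ℤ) ∣ (r : ℤ) ^ n - ε) {x : X} {z t : Yb r} (ht : t ∈ Tb r)
    (hz : z⁻¹ * ι x * z = t) {ω : Kb r} {c : Fin 6 → ZMod 3} (hω : orderOf ω = 3)
    (hc : ∀ i, ch hp6 (sr i) t = ω ^ (c i).val) (h0 : cl3 c = 0) : IsConj x x⁻¹ := by
  have hfin : Finite W6 := finite_W hp6 cs6
  have hk : LocFin (Kb r) := locFin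
  have hZ : Subgroup.center (Yb r) = ⊥ := center_eq_bot_of_simple (S1054.result chevE6 (by simp))
  have hTL : TL (Tj hp6 (k := Kb r)) = TT chevE6 (Kb r) := TL_eq hp6 hk
  have hXL : XL (Xj hp6 (k := Kb r)) = XX chevE6 6 (Kb r) := XL_eq hp6 hk
  have C : Coords cs6 hp6.isCartan (TL (Tj hp6 (k := Kb r))) (nc hp6 (Kb r))
      (XL (Xj hp6 (k := Kb r))) (xc hp6) (ch hp6) := by
    rw [hTL, hXL]; exact coordsL hp6 cs6 hk r
  -- the unit
  have hω0 : ω ≠ 0 := by
    rintro rfl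
    have h1 := pow_orderOf_eq_one (0 : Kb r)
    rw [hω] at h1
    norm_num at h1
  obtain ⟨ζ, hζ⟩ : ∃ ζ : (Kb r)ˣ, (ζ : Kb r) = ω := ⟨Units.mk0 ω hω0, rfl⟩
  have hζ3 : orderOf ζ = 3 := by rw [← orderOf_units, hζ, hω]
  have hζ3' : ζ ^ 3 = 1 := by rw [← hζ3]; exact pow_orderOf_eq_one ζ
  -- the lift
  obtain ⟨x', hfix, hx'⟩ := Co.lift x
  have h3 : x' ^ 3 = 1 := cube Co.isPhi hk r hx' ht hz hζ3' (fun i => by rw [hζ]; exact hc i) h0
  -- the frame
  obtain ⟨z₁, t₁, m, g', w₁, ht₁, hz₁, hm, hF, F', htt, hw₁, hw₁a⟩ :=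
    frame_of_toral hp6 cs6 hk S.pos S.frob Fσ (S.fix x) (z := z) (by rw [hz]; exact ht)
  obtain ⟨d, hd, hd3⟩ := frame_of_cover hk r Co hx' hfix h3 ht₁ hz₁ hm hTL hw₁ hζ3
  have h4 : w₁ * v₀ ∈ Rf d := stab3 hR (by rw [rp_mul]; exact hd3)
  -- the reflections
  have h5 : (w₁ * v₀)⁻¹ ∈ Subgroup.closure {s | ∃ (v : W6) (i : Fin 6), s = v * cs6.simple i * v⁻¹ ∧
      ch hp6 (rp v (sr i)) t₁ = 1} := by
    refine inv_mem (Subgroup.closure_mono ?_ h4)
    rintro s ⟨v, i, hs, hdv⟩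
    refine ⟨v, i, hs, ?_⟩
    rw [hd _ ⟨v, i, rfl⟩]
    obtain ⟨m', hm'⟩ := hdv
    rw [hm', zpow_mul, ← Units.val_zpow_eq_zpow_val]
    have : ζ ^ (3 : ℤ) = 1 := by exact_mod_cast hζ3'
    rw [this, Units.val_one, one_zpow]
  obtain ⟨y, m₁, hyt, hm₁, hzy⟩ := lang_step hk S.pos hF F' ht₁ htt hm h5
  obtain ⟨v, hv⟩ : ∃ v, v = z₁ * y := ⟨_, rfl⟩
  rw [← hv] at hzy
  have hvx : v⁻¹ * ι x * v = t₁ := by
    rw [hv]
    calc (z₁ * y)⁻¹ * ι x * (z₁ * y) = y⁻¹ * (z₁⁻¹ * ι x * z₁) * y := by group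
      _ = y⁻¹ * (t₁ * y) := by rw [hz₁]; group
      _ = t₁ := by rw [← hyt]; group
  -- the good frame
  have F2 := Fr.conj (tow hp6 cs6 hk r (k := Kb r)) hm₁
  rw [hTL, hXL] at F2
  have F3 := F2.mul F'
  have hF3 : IsFrob r n (MulAut.conj m₁ * (MulAut.conj m * σ)) := hF.conj_mul m₁
  have e3 : MulAut.conj m₁ * (MulAut.conj m * σ) = MulAut.conj (m₁ * m) * σ := by
    rw [map_mul, mul_assoc]
  rw [e3] at F3 hF3
  have hg3 : ∀ a, IsRoot cs6 hp6.isCartan a → (g'.trans (repAut cs6 hp6.isCartan (w₁ * v₀)⁻¹)) a = ε • a := by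
    intro a ha
    show repAut cs6 hp6.isCartan (w₁ * v₀)⁻¹ (g' a) = ε • a
    rw [repAut_apply, hw₁a a ha, hg a]
    show rp (w₁ * v₀)⁻¹ (rp w₁ (ε • rp v₀ a)) = ε • a
    rw [rp_smul, rp_smul, ← rp_mul w₁ v₀, rp_inv]
  -- the element `-1`
  obtain ⟨w, hw⟩ := neg3 d
  obtain ⟨nw, hnw, hnwf⟩ := exists_fixed_rp hp6 cs6 hk hZ S.pos hF3 F3 (w := w) (fun a ha => by
    rw [hg3 a ha, hg3 _ (ha.act w), map_smul])
  have h6 : nw * t₁ * nw⁻¹ ∈ TT chevE6 (Kb r) := by
    have := (Subgroup.mem_normalizer_iff.1 hnw.mem_normalizer t₁).1 (by rw [hTL]; exact ht₁)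
    rwa [hTL] at this
  have h7 : nw * t₁ * nw⁻¹ = t₁⁻¹ := by
    refine ext_TT hp6 cs6 hk r hZ h6 (inv_mem ht₁) fun a ha => ?_
    have h8 := C.chi_rp _ hnw (ha.act w⁻¹) (t := t₁) (by rw [hTL]; exact ht₁)
    rw [rep_apply_inv] at h8
    rw [h8, ch_inv hp6 cs6 hk r ha ht₁, hd _ (ha.act w⁻¹), hd a ha, ← Units.val_zpow_eq_zpow_val,
      ← Units.val_zpow_eq_zpow_val, ← Units.val_inv_eq_inv_val]
    congr 1
    have h9 : frm (rep cs6 hp6.isCartan w⁻¹ a) d = frm a (rp w d) := by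
      have := frm_rp w (rp w⁻¹ a) d
      rw [rp_inv'] at this
      exact this.symm
    obtain ⟨m', hm'⟩ := hw a
    rw [h9, eq_inv_iff_mul_eq_one, ← zpow_add, hm', zpow_mul]
    have : ζ ^ (3 : ℤ) = 1 := by exact_mod_cast hζ3'
    rw [this, one_zpow]
  -- the element inverting `x`
  obtain ⟨y₀, hy₀⟩ : ∃ y₀, y₀ = v * nw * v⁻¹ := ⟨_, rfl⟩
  have hσy : σ y₀ = y₀ := by
    have h8 : σ v = v * (m₁ * m) := by rw [← hzy]; group
    have h9 : m₁ * m * σ nw * (m₁ * m)⁻¹ = nw := hnwf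
    rw [hy₀, map_mul, map_mul, map_inv, h8]
    calc v * (m₁ * m) * σ nw * (v * (m₁ * m))⁻¹ = v * (m₁ * m * σ nw * (m₁ * m)⁻¹) * v⁻¹ := by group
      _ = _ := by rw [h9]
  have hinv : y₀ * ι x * y₀⁻¹ = (ι x)⁻¹ := by
    have h8 : ι x = v * t₁ * v⁻¹ := by rw [← hvx]; group
    rw [h8, hy₀]
    calc v * nw * v⁻¹ * (v * t₁ * v⁻¹) * (v * nw * v⁻¹)⁻¹ = v * (nw * t₁ * nw⁻¹) * v⁻¹ := by group
      _ = v * t₁⁻¹ * v⁻¹ := by rw [h7]
      _ = _ := by group
  have hinv' : y₀ * (ι x)⁻¹ * y₀⁻¹ = ι x := by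
    calc y₀ * (ι x)⁻¹ * y₀⁻¹ = (y₀ * ι x * y₀⁻¹)⁻¹ := by group
      _ = ι x := by rw [hinv, inv_inv]
  have h8 : y₀ ^ 3 * ι x * (y₀ ^ 3)⁻¹ = (ι x)⁻¹ := by
    have e : y₀ ^ 3 * ι x * (y₀ ^ 3)⁻¹ = y₀ * (y₀ * (y₀ * ι x * y₀⁻¹) * y₀⁻¹) * y₀⁻¹ := by
      rw [pow_succ, pow_two]; group
    rw [e, hinv, hinv', hinv]
  obtain ⟨s, hs⟩ := S.desc y₀ hσy
  have h9 : Int.gcd 3 ((r : ℤ) ^ n - ε) = 3 := by exact_mod_cast Int.gcd_eq_left (by norm_num) hdiv
  rw [h9] at hs
  rw [isConj_iff]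
  refine ⟨s, S.inj ?_⟩
  rw [map_mul, map_mul, map_inv, hs, h8, map_inv]

end Main

/-! ### the covers -/

section Covers

variable {r n : ℕ} [Fact r.Prime]

/-- `E₆(q)` -/
theorem cover_untw {F : Type} [Field F] [Fintype F] (f : F →+* Kb r) (hq : Fintype.card F = r ^ n)
    (hdiv : (3 : ℤ) ∣ (r : ℤ) ^ n - 1) {Φ : (Fin chevE6.rank → (Kb r)ˣ) →* chevE6.SteinbergGroup (Kb r)}
    (hΦ : IsPhi Φ) :
    Cover (phi chevE6 (Kb r) r n) (GpExc.Field.emb hp6.inList f) 1 Φ (stMap chevE6 (iterateFrobenius (Kb r) r n)) where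
  isPhi := hΦ
  thPsi x := by
    rw [theta_stMap]
    apply Subtype.ext
    apply Units.ext
    rw [phi_coe, GpExc.Field.coe_emb]
    rfl
  phi ζ hζ d := by
    rw [stMap_phi hΦ, W3.rp_one]
    refine congrArg Φ (funext fun i => Units.ext ?_)
    show iterateFrobenius (Kb r) r n ((ex ζ d i : (Kb r)ˣ) : Kb r) = _
    rw [iterateFrobenius_def, ← Units.val_pow_eq_pow_val]
    congr 1
    show (ζ ^ (d : Fin 6 → ℤ) i) ^ r ^ n = ζ ^ (d : Fin 6 → ℤ) i
    obtain ⟨m, hm⟩ := hdiv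
    have h1 : ((r ^ n : ℕ) : ℤ) = 1 + 3 * m := by push_cast; omega
    rw [← zpow_natCast, h1, ← zpow_mul, mul_add, mul_one, zpow_add, mul_left_comm, zpow_mul]
    have h2 : ζ ^ (3 : ℤ) = 1 := by exact_mod_cast hζ
    rw [h2, one_zpow, mul_one]
  lift x := by
    obtain ⟨x₀, rfl⟩ := theta_surjective hp6.inList x
    refine ⟨stMap chevE6 f x₀, ?_, theta_stMap f hp6.inList x₀⟩
    rw [stMap_comp]
    congr 2
    ext a
    exact (H129.TorusUntw.frob_fix_iff f hq (f a)).2 ⟨a, rfl⟩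

open Cfsg.Agent.H129.StTw Cfsg.Agent.H129.StTwT in
/-- `²E₆(q)` -/
theorem cover_tw {K : Type} [Field K] [Fintype K] {q : ℕ} (f : K →+* Kb r) (hn0 : 0 < n) (hn : q = r ^ n)
    (hK : Fintype.card K = q ^ 2) (hdiv : (3 : ℤ) ∣ (r : ℤ) ^ n - (-1)) {v₀ : W6}
    (hv₀ : ∀ a, permE rho6 a = -rp v₀ a)
    {Φ : (Fin chevE6.rank → (Kb r)ˣ) →* chevE6.SteinbergGroup (Kb r)} (hΦ : IsPhi Φ) :
    Cover (sig6 (Kb r) r n) (em6 q f) v₀ Φ (stSg (iterateFrobenius (Kb r) r n)) where
  isPhi := hΦ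
  thPsi x := by
    rw [theta_stSg]
    apply Subtype.ext
    rw [H129.TwE6Fr.coe_tau, coe_sig6]
  phi ζ hζ d := by
    rw [stSg_phi hΦ]
    refine congrArg Φ (funext fun i => Units.ext ?_)
    show iterateFrobenius (Kb r) r n ((ex ζ d (nodR i) : (Kb r)ˣ) : Kb r) = _
    rw [iterateFrobenius_def, ← Units.val_pow_eq_pow_val]
    congr 1
    have h1 : rp v₀ d i = -d (nodR i) := by
      have h2 := congrFun (hv₀ d) i
      have h3 : permE rho6 d i = d (nodR i) := by
        show d (rho6.symm i) = d (nodR i)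
        congr 1
      rw [h3] at h2
      have h4 : (-rp v₀ d) i = -(rp v₀ d i) := rfl
      rw [h4] at h2
      omega
    show (ζ ^ (d : Fin 6 → ℤ) (nodR i)) ^ r ^ n = ζ ^ (rp v₀ d i)
    rw [h1]
    obtain ⟨m, hm⟩ := hdiv
    have h2 : ((r ^ n : ℕ) : ℤ) = -1 + 3 * m := by push_cast; omega
    rw [← zpow_natCast, h2, ← zpow_mul, mul_add, mul_neg_one, zpow_add, mul_left_comm, zpow_mul]
    have h3 : ζ ^ (3 : ℤ) = 1 := by exact_mod_cast hζ
    rw [h3, one_zpow, mul_one]
  lift x := by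
    have hq : IsPrimePow q := (isPrimePow_nat_iff _).2 ⟨r, n, Fact.out, hn0, hn.symm⟩
    obtain ⟨x', h1, h2⟩ := lift_tw (k := Kb r) f hn hq hK x
    refine ⟨x', h1, h2.trans (Subtype.ext ?_)⟩
    rw [H129.TwE6Fr.coe_embT]
    rfl

end Covers

/-! ### both groups -/

section Both

variable {r n : ℕ} [Fact r.Prime]

/-- **T4 for `E₆(q)`.** -/
theorem threeSt_untw (hR : ReflZ) {F : Type} [Field F] [Fintype F] (f : F →+* Kb r) (hq : Fintype.card F = r ^ n)
    (S : Six r n 1 (GpExc.Field.emb hp6.inList f) (phi chevE6 (Kb r) r n)) :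
    ThreeSt r n 1 (GpExc.Field.emb hp6.inList f) := by
  intro _ hdiv x hx
  by_contra H
  rw [not_or] at H
  obtain ⟨H1, H2⟩ := H
  apply H2
  intro z t ht hz ω c hω hc h0
  obtain ⟨Φ, hΦ⟩ := H129.PhiE.isPhi_E6 (Kb r)
  exact H1 (three_of hR S (Cfsg.Agent.BpExc.FamInst.phi_fr hp6 cs6 r locFin n) (v₀ := 1) (fun a => by rw [W3.rp_one, one_smul]; rfl)
    (cover_untw f hq hdiv hΦ) hdiv ht hz hω hc h0)

/-- **T4 for `²E₆(q)`.** -/
theorem threeSt_tw (hR : ReflZ) {K : Type} [Field K] [Fintype K] {q : ℕ} (f : K →+* Kb r) (hn : q = r ^ n)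
    (hK : Fintype.card K = q ^ 2) (S : Six r n (-1) (em6 q f) (sig6 (Kb r) r n)) :
    ThreeSt r n (-1) (em6 q f) := by
  intro _ hdiv x hx
  by_contra H
  rw [not_or] at H
  obtain ⟨H1, H2⟩ := H
  apply H2
  intro z t ht hz ω c hω hc h0
  obtain ⟨Φ, hΦ⟩ := H129.PhiE.isPhi_E6 (Kb r)
  obtain ⟨v₀, hv₀⟩ := H696.GmnTwE6.neg_graph hp6 cs6
  exact H1 (three_of hR S (fr_sig6 locFin r hp6 cs6 n) (v₀ := v₀) (fun a => by rw [hv₀ a, neg_one_smul])
    (cover_tw f S.pos hn hK hdiv hv₀ hΦ) hdiv ht hz hω hc h0)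

end Both

end Cfsg.Agent.H943.Car.Three
end

-- part: H310/Car/E6Oc_mg
section
prune_inst 0x101009000722000000000000a00005123c000000000008000020010004808c0000028020000011020000000000340020024c00000000000000000000000405011000000080080100200000000000400000000000000000000000000000000000200000000
set_option linter.all false
open scoped Cfsg.Agent.FastGrp

namespace Cfsg.Agent.H90F

private noncomputable def frc {α : Type} (x : ℕ) (f : ℕ → α) : α := Nat.rec (f 0) (fun k _ => f (Nat.succ k)) x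

private theorem frc_eq {α : Type} (x : ℕ) (f : ℕ → α) : frc x f = f x := by cases x <;> rfl

private noncomputable def nth {α : Type} (d : α) (l : List α) : ℕ → α :=
  List.rec (fun _ => d) (fun a _ ih n => Nat.rec a (fun k _ => ih k) n) l

private theorem nth_eq {α : Type} (d : α) (l : List α) (n : ℕ) : nth d l n = l.getD n d := by
  induction l generalizing n with
  | nil => rfl
  | cons a l ih => cases n with
    | zero => rfl
    | succ k => exact ih k

private theorem nth_arr {α : Type} (d : α) (a : Array α) (n : ℕ) : a.getD n d = nth d a.toList n := by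
  rw [nth_eq, List.getD_eq_getElem?_getD, Array.getD_eq_getD_getElem?, Array.getElem?_toList]

private noncomputable def row (D : Cfsg.Lie.ChevalleyDatum) (r : ℕ) : List (ℕ × Array (ℕ × ℤ)) := (nth #[] D.chain.toList r).toList

private noncomputable def fnd (s : ℕ) (l : List (ℕ × Array (ℕ × ℤ))) : List (ℕ × ℤ) :=
  List.rec [] (fun e _ ih => Bool.rec ih e.2.toList (Nat.beq e.1 s)) l

private theorem ce_eq0 (D : Cfsg.Lie.ChevalleyDatum) (r s : ℕ) : D.chainEntry r s = fnd s (row D r) := by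
  unfold Cfsg.Lie.ChevalleyDatum.chainEntry row
  rw [nth_arr]
  generalize (nth #[] D.chain.toList r).toList = l
  induction l with
  | nil => rfl
  | cons e l ih =>
    show _ = (Bool.rec (fnd s l) e.2.toList (Nat.beq e.1 s) : List (ℕ × ℤ))
    by_cases h : e.1 = s
    · rw [List.find?_cons_of_pos (by simpa using h), Nat.beq_eq.mpr h]
    · rw [List.find?_cons_of_neg (by simpa using h), ih, Bool.eq_false_iff.2 fun h1 => h (Nat.eq_of_beq_eq_true h1)]

private noncomputable def fce (D : Cfsg.Lie.ChevalleyDatum) (r s : ℕ) : List (ℕ × ℤ) := frc r fun r => frc s fun s => fnd s (row D r)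

private theorem ce_eq (D : Cfsg.Lie.ChevalleyDatum) : D.chainEntry = fce D := by
  funext r s
  rw [fce, frc_eq, frc_eq, ce_eq0]

private noncomputable def fcr (D : Cfsg.Lie.ChevalleyDatum) (r s i : ℕ) : Option ℕ := ((fce D r s)[i - 1]?).map Prod.fst

private theorem cr_eq (D : Cfsg.Lie.ChevalleyDatum) : D.chainRoot = fcr D := by
  funext r s i
  rw [fcr, ← ce_eq]; rfl

private noncomputable def fcm (D : Cfsg.Lie.ChevalleyDatum) (r s i : ℕ) : ℤ := (((fce D r s)[i - 1]?).map Prod.snd).getD 0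

private theorem cm_eq (D : Cfsg.Lie.ChevalleyDatum) : D.chainM = fcm D := by
  funext r s i
  rw [fcm, ← ce_eq]; rfl

private noncomputable def gct (cr : ℕ → ℕ → ℕ → Option ℕ) (cm : ℕ → ℕ → ℕ → ℤ) (r s : ℕ) : List (ℕ × ℤ × ℕ × ℕ) :=
  ([(cr r s 1, cm r s 1, 1, 1), (cr r s 2, cm r s 2, 2, 1), (cr s r 2, cm s r 2, 1, 2), (cr r s 3, cm r s 3, 3, 1),
      (cr s r 3, - cm s r 3, 1, 3),
      ((cr r s 3).bind fun k => cr k s 1, ((cr r s 1).map fun k => cm k r 2 / 3).getD 0, 3, 2),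
      ((cr s r 3).bind fun k => cr k r 1, ((cr r s 1).map fun k => -2 * cm k s 2 / 3).getD 0, 2, 3)] :
    List (Option ℕ × ℤ × ℕ × ℕ)).filterMap fun c => c.1.map fun k => (k, c.2)

private theorem gct_eq (D : Cfsg.Lie.ChevalleyDatum) (r s : ℕ) : D.commTerms r s = gct (fcr D) (fcm D) r s := by
  rw [← cr_eq, ← cm_eq]; rfl

private noncomputable def msk (l : List (ℕ × Array (ℕ × ℤ))) : ℕ := List.rec 0 (fun e _ ih => Nat.lor ih (Nat.shiftLeft 1 e.1)) l

private theorem fnd_nil {s : ℕ} {l : List (ℕ × Array (ℕ × ℤ))} (h : (msk l).testBit s = false) : fnd s l = [] := by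
  induction l with
  | nil => rfl
  | cons e l ih =>
    have h1 : (msk l ||| 1 <<< e.1).testBit s = false := h
    rw [Nat.testBit_or, Bool.or_eq_false_iff, Nat.one_shiftLeft, Nat.testBit_two_pow] at h1
    show (Bool.rec (fnd s l) e.2.toList (Nat.beq e.1 s) : List (ℕ × ℤ)) = []
    rw [Bool.eq_false_iff.2 fun h2 => of_decide_eq_false h1.2 (Nat.eq_of_beq_eq_true h2)]
    exact ih h1.1

private noncomputable def fc2 (D : Cfsg.Lie.ChevalleyDatum) (r s : ℕ) : List (ℕ × ℤ) → List (ℕ × ℤ) → List (ℕ × ℤ × ℕ × ℕ)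
  | [x], [_] => [(x.1, x.2, 1, 1)]
  | _, _ => gct (fcr D) (fcm D) r s

private noncomputable def fct (D : Cfsg.Lie.ChevalleyDatum) (r s : ℕ) : List (ℕ × ℤ × ℕ × ℕ) :=
  frc r fun r => frc s fun s =>
    Bool.rec (fc2 D r s (fnd s (row D r)) (fnd r (row D s))) []
      (Nat.beq (Nat.land (Nat.lor (Nat.shiftRight (msk (row D r)) s) (Nat.shiftRight (msk (row D s)) r)) 1) 0)

private theorem ct_eq (D : Cfsg.Lie.ChevalleyDatum) : D.commTerms = fct D := by
  funext r s
  rw [fct, frc_eq, frc_eq]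
  cases h : Nat.beq (Nat.land (Nat.lor (Nat.shiftRight (msk (row D r)) s) (Nat.shiftRight (msk (row D s)) r)) 1) 0
  · show _ = fc2 D r s _ _
    rw [← ce_eq0, ← ce_eq0]
    unfold fc2
    split
    · rename_i h1 h2
      unfold Cfsg.Lie.ChevalleyDatum.commTerms Cfsg.Lie.ChevalleyDatum.chainRoot Cfsg.Lie.ChevalleyDatum.chainM
      rw [h1, h2]; rfl
    · exact gct_eq D r s
  · have h1 : ((msk (row D r) >>> s ||| msk (row D s) >>> r)).testBit 0 = false := by
      have h2 : (msk (row D r) >>> s ||| msk (row D s) >>> r) &&& 1 = 0 := Nat.eq_of_beq_eq_true h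
      rw [Nat.and_one_is_mod] at h2
      rw [Nat.testBit_zero, h2]; rfl
    rw [Nat.testBit_or, Bool.or_eq_false_iff, Nat.testBit_shiftRight, Nat.testBit_shiftRight, Nat.add_zero, Nat.add_zero] at h1
    show _ = []
    unfold Cfsg.Lie.ChevalleyDatum.commTerms Cfsg.Lie.ChevalleyDatum.chainRoot Cfsg.Lie.ChevalleyDatum.chainM
    rw [ce_eq0 D r s, ce_eq0 D s r, fnd_nil h1.1, fnd_nil h1.2]; rfl

private theorem ct_fun : Cfsg.Lie.ChevalleyDatum.commTerms = fct := funext ct_eq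

private noncomputable def fng (D : Cfsg.Lie.ChevalleyDatum) (r : ℕ) : ℕ := frc r (nth 0 D.negIdx.toList)

private theorem ng_eq (D : Cfsg.Lie.ChevalleyDatum) : D.neg = fng D := by
  funext r
  rw [fng, frc_eq]
  exact nth_arr _ _ _

private noncomputable def fsi (D : Cfsg.Lie.ChevalleyDatum) (i : ℕ) : ℕ := frc i (nth 0 D.simpleIdx.toList)

private theorem si_eq (D : Cfsg.Lie.ChevalleyDatum) : D.simple = fsi D := by
  funext r
  rw [fsi, frc_eq]
  exact nth_arr _ _ _

private noncomputable def fca (D : Cfsg.Lie.ChevalleyDatum) (i s : ℕ) : ℤ :=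
  frc i fun i => frc s (nth 0 (nth #[] D.cartanSR.toList i).toList)

private theorem ca_eq (D : Cfsg.Lie.ChevalleyDatum) : D.cartan = fca D := by
  funext i s
  rw [fca, frc_eq, frc_eq, ← nth_arr, ← nth_arr]
  rfl

private noncomputable def frr (D : Cfsg.Lie.ChevalleyDatum) (i s : ℕ) : ℕ :=
  frc i fun i => frc s fun s => frc (fsi D i) fun p => frc (fng D p) fun q =>
    Bool.rec (Bool.rec
      (Int.rec (fun a => Nat.rec s (fun k _ => (fcr D q s (Nat.succ k)).getD s) a)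
        (fun k => (fcr D p s (Nat.succ k)).getD s) (fca D i s))
      p (Nat.beq s q)) q (Nat.beq s p)

private theorem rr_eq (D : Cfsg.Lie.ChevalleyDatum) : D.reflectRoot = frr D := by
  funext i s
  rw [frr, frc_eq, frc_eq, frc_eq, frc_eq, ← cr_eq, ← ng_eq, ← si_eq, ← ca_eq]
  unfold Cfsg.Lie.ChevalleyDatum.reflectRoot
  dsimp only
  by_cases h1 : s = D.simple i
  · rw [if_pos h1, Nat.beq_eq.mpr h1]
  rw [if_neg h1, Bool.eq_false_iff.2 fun h => h1 (Nat.eq_of_beq_eq_true h)]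
  by_cases h2 : s = D.neg (D.simple i)
  · rw [if_pos h2, Nat.beq_eq.mpr h2]
  rw [if_neg h2, Bool.eq_false_iff.2 fun h => h2 (Nat.eq_of_beq_eq_true h)]
  generalize D.cartan i s = A
  rcases A with (_ | k) | k
  · rfl
  · exact if_pos (Int.ofNat_succ_pos k)
  · rw [if_neg (Int.negSucc_lt_zero k).not_gt, if_pos (Int.negSucc_lt_zero k)]; rfl

private theorem rr_fun : Cfsg.Lie.ChevalleyDatum.reflectRoot = frr := funext rr_eq

private theorem ng_fun : Cfsg.Lie.ChevalleyDatum.neg = fng := funext ng_eq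

private theorem ca_fun : Cfsg.Lie.ChevalleyDatum.cartan = fca := funext ca_eq

private noncomputable def fvc {α : Type} {n : ℕ} (h : α) (t : Fin n → α) (i : Fin n.succ) : α :=
  Nat.rec (motive := fun k => k < n.succ → α) (fun _ => h) (fun k _ hk => t ⟨k, Nat.lt_of_succ_lt_succ hk⟩) i.1 i.2

private theorem vc_fun : @Matrix.vecCons.{0} = @fvc := by
  funext α n h t i
  rcases i with ⟨_ | k, hk⟩ <;> rfl

private noncomputable def fal {α : Type} (l : List α) (p : α → Bool) : Bool :=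
  List.rec true (fun a _ ih => Bool.rec false ih (p a)) l

private theorem al_fun : @List.all.{0} = @fal := by
  funext α l p
  induction l with
  | nil => rfl
  | cons a l ih => rw [List.all_cons, ih]; show _ = (Bool.rec false (fal l p) (p a) : Bool); cases p a <;> rfl

private noncomputable def fan {α : Type} (l : List α) (p : α → Bool) : Bool :=
  List.rec false (fun a _ ih => Bool.rec ih true (p a)) l

private theorem an_fun : @List.any.{0} = @fan := by
  funext α l p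
  induction l with
  | nil => rfl
  | cons a l ih => rw [List.any_cons, ih]; show _ = (Bool.rec (fan l p) true (p a) : Bool); cases p a <;> rfl

private noncomputable def ffr {α β : Type} (f : α → β → β) (b : β) (l : List α) : β := List.rec b (fun a _ ih => f a ih) l

private theorem fr_fun : @List.foldr.{0, 0} = @ffr := by
  funext α β f b l
  induction l with
  | nil => rfl
  | cons a l ih => rw [List.foldr_cons, ih]; rfl

end Cfsg.Agent.H90F

-- part: H310/Car/E6Oc
section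
/-!
# `OCSt` for `E₆^ε(q)` from `GoodSt` (helper310, for S3852)

`z` good: if some root character is trivial at `z`, the reflection is represented in `C_X(z)` (even order); otherwise
`C_X(z)` is the torus and its normaliser maps onto `W(E₆)`.
-/

set_option autoImplicit false
set_option linter.unusedSectionVars false

namespace Cfsg.Agent.H310.E6

open CoxeterSystem Subgroup Cfsg Cfsg.Lie Cfsg.Lie.ChevalleyDatum
open Cfsg.Agent.ChevalleyStructure Cfsg.Agent.ChevalleyStructure.Elts Cfsg.Agent.ChevalleyStructure.CoxeterGeom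
  Cfsg.Agent.ChevalleyStructure.CoxeterGeomTypes Cfsg.Agent.ChevalleyStructure.NPerm
open Cfsg.Agent.Tits.Roots Cfsg.Agent.Tits.Core Cfsg.Agent.Nodes Cfsg.Agent.Nodes.Reps Cfsg.Agent.Nodes.BNOf
  Cfsg.Agent.Nodes.RGDChev Cfsg.Agent.Nodes.Bruhat
open Cfsg.Agent.KFacts.RgdField Cfsg.Agent.KFacts.RgdChevCoord
open Cfsg.Agent.BpExc Cfsg.Agent.BpExc.TorCent Cfsg.Agent.BpExc.TorChev Cfsg.Agent.BpExc.Tow
open Cfsg.Agent.BpExc.TowChev Cfsg.Agent.BpExc.Fr Cfsg.Agent.BpExc.LangFr
open Cfsg.Agent.BpExc.FamUntw Cfsg.Agent.Nodes.Coroot Cfsg.Agent.Nodes.SubComb Cfsg.Agent.Tits.RootComb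
open Cfsg.Agent.H696.GmnToral Cfsg.Agent.H720.TwFr Cfsg.Agent.H607.Car
open scoped commutatorElement

/-! ### the Weyl group is not solvable -/

/-- a criterion -/
theorem not_solvable_of_key {G : Type*} [Group G] {x y z : G} (hx : x ≠ 1) (key : x = z * ⁅x, y * x * y⁻¹⁆ * z⁻¹) :
    ¬ Group.IsSolvable G := by
  refine not_isSolvable_of_mem_derivedSeries hx fun n => ?_
  induction n with
  | zero => exact mem_top x
  | succ n ih =>
    rw [key, (derivedSeries_normal _ _).mem_comm_iff, inv_mul_cancel_left]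
    exact commutator_mem_commutator ih ((derivedSeries_normal _ _).conj_mem _ ih _)

theorem W6_not_solvable : ¬ Group.IsSolvable W6 := by
  have key : cs6.wordProd [0, 2] =
      cs6.wordProd ([2, 3, 2] ++ [0, 2] ++ [2, 0, 3, 2, 0, 4, 3, 2] ++ [0, 2] ++ [2, 3, 4, 0, 2, 3, 0, 2] ++ [2, 0] ++
        [2, 0, 3, 2, 0, 4, 3, 2] ++ [2, 0] ++ [2, 3, 4, 0, 2, 3, 0, 2] ++ [2, 3, 2]) :=
    Cfsg.Agent.H560.RealWE6.eq_of_eqv cs6 (by decide +kernel)
  have e1 : cs6.wordProd [2, 0] = (cs6.wordProd [0, 2])⁻¹ := by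
    rw [← wordProd_reverse]; rfl
  have e2 : cs6.wordProd [2, 3, 4, 0, 2, 3, 0, 2] = (cs6.wordProd [2, 0, 3, 2, 0, 4, 3, 2])⁻¹ := by
    rw [← wordProd_reverse]; rfl
  have e3 : (cs6.wordProd [2, 3, 2])⁻¹ = cs6.wordProd [2, 3, 2] := by
    rw [← wordProd_reverse]; rfl
  refine not_solvable_of_key (x := cs6.wordProd [0, 2]) (y := cs6.wordProd [2, 0, 3, 2, 0, 4, 3, 2])
    (z := cs6.wordProd [2, 3, 2]) ?_ ?_
  · intro h
    have h1 : cs6.wordProd [0, 2] = cs6.simple 0 * cs6.simple 2 := by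
      rw [wordProd_cons, wordProd_singleton]
    rw [h1, mul_eq_one_iff_eq_inv, cs6.inv_simple] at h
    have h2 := congrArg (fun w => rep cs6 hp6.isCartan w (sr 0) 0) h
    simp only [rep_simple_sr, rep_simple_eq, Pi.sub_apply, Pi.smul_apply, Pi.neg_apply, sr_self] at h2
    rw [sr_ne (by decide : (0 : Fin 6) ≠ 2), smul_zero, sub_zero] at h2
    exact absurd h2 (by decide)
  · rw [e3, commutatorElement_def]
    rw [wordProd_append, wordProd_append, wordProd_append, wordProd_append, wordProd_append, wordProd_append,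
      wordProd_append, wordProd_append, wordProd_append, e1, e2] at key
    rw [mul_inv_rev, mul_inv_rev, inv_inv]
    simp only [mul_assoc] at key ⊢
    exact key

/-! ### centralisers -/

section

variable {r : ℕ} [Fact r.Prime]

/-- representatives determine the element of the Weyl group -/
theorem rb_unique {w w' : W6} {g : Yb r} (h : Rb r w g) (h' : Rb r w' g) : w = w' := by
  have hfin : Finite W6 := finite_W hp6 cs6
  obtain ⟨j, hj⟩ := (tow hp6 cs6 (locFin_of_isAlgebraic r (Kb r)) r (k := Kb r)).rp_down h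
  obtain ⟨j', hj'⟩ := (tow hp6 cs6 (locFin_of_isAlgebraic r (Kb r)) r (k := Kb r)).rp_down h'
  obtain ⟨m, h1, h2⟩ := (tow hp6 cs6 (locFin_of_isAlgebraic r (Kb r)) r (k := Kb r)).dir j j'
  have e1 := (tow hp6 cs6 (locFin_of_isAlgebraic r (Kb r)) r (k := Kb r)).rp_mono h1 hj
  have e2 := (tow hp6 cs6 (locFin_of_isAlgebraic r (Kb r)) r (k := Kb r)).rp_mono h2 hj'
  have e3 := e1.inv.mul e2
  rw [inv_mul_cancel] at e3
  have e4 := RGD.eq_one_of_mem_B ((tow hp6 cs6 (locFin_of_isAlgebraic r (Kb r)) r (k := Kb r)).rgd m) e3 (one_mem _)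
  exact (inv_mul_eq_one.1 e4)

/-- a representative of `w` commutes with `t`, if `w` fixes the characters of `t` -/
theorem comm_of_fix {t : Yb r} (ht : t ∈ Tb r) {w : W6} {g : Yb r} (hg : Rb r w g)
    (hw : ∀ a, IsRoot cs6 hp6.isCartan a → ch hp6 (rp w a) t = ch hp6 a t) : g * t * g⁻¹ = t := by
  have hk : LocFin (Kb r) := locFin_of_isAlgebraic r _
  have hZ : center (Yb r) = ⊥ := Cfsg.Agent.H696.GmnUntw.center_eq_bot_of_simple (S1054.result chevE6 (by simp))
  have hTL : TL (Tj hp6 (k := Kb r)) = Tb r := TL_eq hp6 hk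
  have hXL : XL (Xj hp6 (k := Kb r)) = XX chevE6 6 (Kb r) := XL_eq hp6 hk
  have C : Coords cs6 hp6.isCartan (TL (Tj hp6 (k := Kb r))) (nc hp6 (Kb r)) (XL (Xj hp6 (k := Kb r))) (xc hp6)
      (ch hp6) := by
    rw [hTL, hXL]; exact coordsL hp6 cs6 hk r
  have h3 : g * t * g⁻¹ ∈ Tb r := by
    have := (Subgroup.mem_normalizer_iff.1 hg.mem_normalizer t).1 (by rw [hTL]; exact ht)
    rwa [hTL] at this
  refine ext_TT hp6 cs6 hk r hZ h3 ht fun a ha => ?_
  have h5 := C.chi_rp _ hg (ha.act w⁻¹) (t := t) (by rw [hTL]; exact ht)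
  rw [rep_apply_inv] at h5
  have h6 := hw _ (ha.act w⁻¹)
  have h7 : rp w (rep cs6 hp6.isCartan w⁻¹ a) = a := rep_apply_inv cs6 hp6.isCartan w a
  rw [h7] at h6
  rw [h5, h6]

/-- an element commuting with a torus element without trivial root characters is a representative -/
theorem exists_rb_of_comm {t : Yb r} (ht : t ∈ Tb r) (hne : ∀ a, IsRoot cs6 hp6.isCartan a → ch hp6 a t ≠ 1)
    {c : Yb r} (hc : c * t = t * c) : ∃ w, Rb r w c ∧
      ∀ a, IsRoot cs6 hp6.isCartan a → ch hp6 (rp w a) t = ch hp6 a t := by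
  have hfin : Finite W6 := finite_W hp6 cs6
  have hk : LocFin (Kb r) := locFin_of_isAlgebraic r _
  have hTL : TL (Tj hp6 (k := Kb r)) = Tb r := TL_eq hp6 hk
  have hXL : XL (Xj hp6 (k := Kb r)) = XX chevE6 6 (Kb r) := XL_eq hp6 hk
  have C : Coords cs6 hp6.isCartan (TL (Tj hp6 (k := Kb r))) (nc hp6 (Kb r)) (XL (Xj hp6 (k := Kb r))) (xc hp6)
      (ch hp6) := by
    rw [hTL, hXL]; exact coordsL hp6 cs6 hk r
  have ht' : t ∈ TL (Tj hp6 (k := Kb r)) := by rw [hTL]; exact ht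
  obtain ⟨m, hm, w, k, hk', hkt, rfl⟩ := Fr.exists_form (tow hp6 cs6 hk r (k := Kb r)) C ht' ht' (c := c)
    (by rw [GG_eq_top hp6 cs6 hk]; exact Subgroup.mem_top _) hc
  have hm1 : m = 1 := by
    have h1 : MM cs6 hp6.isCartan (XL (Xj hp6 (k := Kb r))) (ch hp6) t ≤ ⊥ :=
      RGD.Sup_le fun a ha => absurd ha.2 (hne a ha.1)
    exact Subgroup.mem_bot.1 (h1 hm)
  rw [hm1, one_mul]
  refine ⟨w, hk', fun a ha => ?_⟩
  have h5 := C.chi_rp _ hk' ha (t := t) ht'
  have h6 : k * t * k⁻¹ = t := by rw [hkt]; group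
  rwa [h6] at h5

/-- the torus is commutative -/
theorem Tb_comm {s t : Yb r} (hs : s ∈ Tb r) (ht : t ∈ Tb r) : s * t = t * s := by
  have hk : LocFin (Kb r) := locFin_of_isAlgebraic r _
  have hZ : center (Yb r) = ⊥ := Cfsg.Agent.H696.GmnUntw.center_eq_bot_of_simple (S1054.result chevE6 (by simp))
  refine ext_TT hp6 cs6 hk r hZ (mul_mem hs ht) (mul_mem ht hs) fun a ha => ?_
  rw [ch_mul hp6 cs6 hk r ha hs ht, ch_mul hp6 cs6 hk r ha ht hs, mul_comm]

variable {n : ℕ} {ε : ℤ} {X : Type} [Group X] {ι : X →* Yb r} {σ : MulAut (Yb r)}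

theorem val_add {A : Type*} [AddCommGroup A] (c : Fin 6 → A) (a b : Fin 6 → ℤ) : val c (a + b) = val c a + val c b := by
  unfold val
  rw [← Finset.sum_add_distrib]
  exact Finset.sum_congr rfl fun i _ => by rw [Pi.add_apply, add_smul]

theorem val_zsmul {A : Type*} [AddCommGroup A] (c : Fin 6 → A) (k : ℤ) (a : Fin 6 → ℤ) : val c (k • a) = k • val c a := by
  unfold val
  rw [Finset.smul_sum]
  exact Finset.sum_congr rfl fun i _ => by rw [Pi.smul_apply, smul_eq_mul, mul_smul]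

/-- **Good elements.** -/
theorem oc_of_good (hι : Function.Injective ι) {z : X} {v t : Yb r} {m : Fin 6 → ℤ} (g : GoodAt r n ε ι σ z v t m) :
    Even (Nat.card (Subgroup.centralizer ({z} : Set X))) ∨
    ¬ Group.IsSolvable (Subgroup.normalizer ((Subgroup.centralizer ({z} : Set X) : Subgroup X) : Set X)) := by
  have hfin : Finite W6 := finite_W hp6 cs6
  have hk : LocFin (Kb r) := locFin_of_isAlgebraic r _
  have hTL : TL (Tj hp6 (k := Kb r)) = Tb r := TL_eq hp6 hk
  have hcomm : ∀ x : X, x ∈ centralizer ({z} : Set X) ↔ (v⁻¹ * ι x * v) * t = t * (v⁻¹ * ι x * v) := by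
    intro x
    rw [mem_centralizer_singleton_iff]
    constructor
    · intro h
      have h1 := congrArg ι h
      rw [map_mul, map_mul, g.eq] at h1
      calc (v⁻¹ * ι x * v) * t = v⁻¹ * (ι x * (v * t * v⁻¹)) * v := by group
        _ = _ := by rw [h1]; group
    · intro h
      apply hι
      rw [map_mul, map_mul, g.eq]
      calc ι x * (v * t * v⁻¹) = v * ((v⁻¹ * ι x * v) * t) * v⁻¹ := by group
        _ = _ := by rw [h]; group
  by_cases hA : ∃ a, IsRoot cs6 hp6.isCartan a ∧ ch hp6 a t = 1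
  · left
    obtain ⟨a, ha, hat⟩ := hA
    obtain ⟨w, i, hwi⟩ := id ha
    have hma : val m a = 0 := (g.ker a ha).1 hat
    obtain ⟨s, hs⟩ : ∃ s : W6, s = rfl' cs6 w i := ⟨_, rfl⟩
    have hs1 : s ≠ 1 := by
      intro h1
      have h2 : rep cs6 hp6.isCartan s (rep cs6 hp6.isCartan w (sr i)) = - rep cs6 hp6.isCartan w (sr i) := by
        rw [hs]
        change rep cs6 hp6.isCartan (w * cs6.simple i * w⁻¹) _ = _
        rw [rep_mul_apply, rep_mul_apply, rep_inv_apply, rep_simple_sr, map_neg]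
      rw [h1, map_one, Module.End.one_apply, ← hwi] at h2
      have h3 := ha.neg
      rcases ha.pos_or_neg with h4 | h4
      · exact ha.not_pos_neg h4 (by rw [h2]; exact neg_nonpos.2 h4)
      · exact ha.not_pos_neg (by rw [h2]; exact neg_nonneg.2 h4) h4
    have hss : s * s = 1 := by
      rw [hs]
      change (w * cs6.simple i * w⁻¹) * (w * cs6.simple i * w⁻¹) = 1
      have h1 : (w * cs6.simple i * w⁻¹) * (w * cs6.simple i * w⁻¹) = w * (cs6.simple i * cs6.simple i) * w⁻¹ := by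
        group
      rw [h1, cs6.simple_mul_simple_self, mul_one, mul_inv_cancel]
    have hFix : FixW m s := by
      intro b
      have h1 : rp s b = b - cpr cs6 hp6.isCartan b a • a := by
        change rep cs6 hp6.isCartan s b = _
        rw [hs, rep_rfl'_eq, ← hwi]
      rw [h1, sub_eq_add_neg, ← neg_smul, val_add, val_zsmul, hma, smul_zero, add_zero]
    obtain ⟨x, hx⟩ := g.rep s
    have hxc : x ∈ centralizer ({z} : Set X) := by
      rw [hcomm]
      have h1 := comm_of_fix g.mem hx (g.fixt s hFix)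
      rw [mul_inv_eq_iff_eq_mul] at h1
      exact h1
    have hpow : ∀ k : ℕ, Rb r (s ^ k) (v⁻¹ * ι (x ^ k) * v) := by
      intro k
      induction k with
      | zero => rw [pow_zero, pow_zero, map_one, mul_one, inv_mul_cancel]; exact rp_one
      | succ k ih =>
        have e : v⁻¹ * ι (x ^ (k + 1)) * v = (v⁻¹ * ι (x ^ k) * v) * (v⁻¹ * ι x * v) := by
          rw [pow_succ, map_mul]; group
        rw [e, pow_succ]
        exact ih.mul hx
    have heven : Even (orderOf x) := by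
      rw [← Nat.not_odd_iff_even]
      rintro ⟨k, hk'⟩
      have h1 := hpow (orderOf x)
      rw [pow_orderOf_eq_one, map_one, mul_one, inv_mul_cancel, hk', pow_succ, pow_mul, pow_two, hss, one_pow,
        one_mul] at h1
      exact hs1 (rb_unique h1 rp_one)
    have h2 : orderOf x ∣ Nat.card (centralizer ({z} : Set X)) := by
      have h3 : orderOf (⟨x, hxc⟩ : centralizer ({z} : Set X)) = orderOf x := Subgroup.orderOf_mk x hxc
      rw [← h3]
      exact _root_.orderOf_dvd_natCard _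
    exact heven.trans_dvd h2
  · right
    push Not at hA
    -- the centraliser is the torus
    have hcent : ∀ x : X, x ∈ centralizer ({z} : Set X) ↔ v⁻¹ * ι x * v ∈ Tb r := by
      intro x
      rw [hcomm]
      constructor
      · intro h
        obtain ⟨w, hw, hfix⟩ := exists_rb_of_comm g.mem hA h
        have h1 := g.fixm w hfix
        have h2 : w = 1 := by
          refine BpExc.Fix.eq_one_of_fix (cs := cs6) (h := hp6.isCartan)
            { toFun := val m, map_zero' := by simp [val], map_add' := val_add m } (fun a ha h3 => ?_) (fun a => h1 a)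
          exact hA a ha ((g.ker a ha).2 h3)
        rw [h2] at hw
        have h3 := hw.mem_of_one
        rwa [hTL] at h3
      · intro h
        exact Tb_comm h g.mem
    -- the representatives normalise it
    have hnorm : ∀ x : X, v⁻¹ * ι x * v ∈ normalizer (Tb r : Set (Yb r)) →
        x ∈ normalizer ((centralizer ({z} : Set X) : Subgroup X) : Set X) := by
      intro x hx
      rw [mem_normalizer_iff]
      intro y
      rw [hcent, hcent]
      have e : v⁻¹ * ι (x * y * x⁻¹) * v = (v⁻¹ * ι x * v) * (v⁻¹ * ι y * v) * (v⁻¹ * ι x * v)⁻¹ := by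
        rw [map_mul, map_mul, map_inv]; group
      rw [e]
      exact (mem_normalizer_iff.1 hx) _
    intro hsol
    apply W6_not_solvable
    rw [← hTL] at hcent hnorm
    let θ : X →* Yb r := (MulAut.conj v⁻¹).toMonoidHom.comp ι
    have hθ : ∀ x, θ x = v⁻¹ * ι x * v := by
      intro x
      change v⁻¹ * ι x * v⁻¹⁻¹ = _
      rw [inv_inv]
    let N : Subgroup X := (normalizer ((TL (Tj hp6 (k := Kb r)) : Subgroup (Yb r)) : Set (Yb r))).comap θ
    have hN : ∀ x : X, x ∈ N ↔ v⁻¹ * ι x * v ∈ normalizer ((TL (Tj hp6 (k := Kb r)) : Subgroup (Yb r)) : Set (Yb r)) := by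
      intro x
      rw [← hθ]; rfl
    have hle : N ≤ normalizer ((centralizer ({z} : Set X) : Subgroup X) : Set X) := fun x hx => hnorm x ((hN x).1 hx)
    haveI := hsol
    haveI hNs : Group.IsSolvable N := Group.isSolvable_of_isSolvable_injective (inclusion_injective hle)
    let φ0 : N →* ↥(normalizer ((TL (Tj hp6 (k := Kb r)) : Subgroup (Yb r)) : Set (Yb r))) :=
      (θ.comp N.subtype).codRestrict _ (fun x => x.2)
    let φ : N →* Quo (TL (Tj hp6 (k := Kb r))) := (QuotientGroup.mk' _).comp φ0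
    haveI hφs : Group.IsSolvable φ.range := Group.isSolvable_of_surjective φ.rangeRestrict_surjective
    let ψ := wq cs6 (tow hp6 cs6 (locFin_of_isAlgebraic r (Kb r)) r (k := Kb r)).nsys
    have hψ : Function.Injective ψ := by
      rw [injective_iff_map_eq_one]
      intro w hw
      have h1 : Rb r w (1 : Yb r) := ⟨one_mem _, hw⟩
      exact rb_unique h1 rp_one
    have hψr : ∀ w, ψ w ∈ φ.range := by
      intro w
      obtain ⟨x, hx⟩ := g.rep w
      obtain ⟨h1, h2⟩ := id hx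
      refine ⟨⟨x, (hN x).2 h1⟩, ?_⟩
      refine Eq.trans ?_ h2.symm
      change (QuotientGroup.mk _ : Quo (TL (Tj hp6 (k := Kb r)))) = QuotientGroup.mk _
      exact congrArg _ (Subtype.ext (hθ x))
    exact Group.isSolvable_of_isSolvable_injective (f := ψ.codRestrict φ.range hψr) fun a b h =>
      hψ (congrArg Subtype.val h)

end

end Cfsg.Agent.H310.E6
end

-- part: H607/Car/E6Frame
section
/-!
# `E₆(q)`, `²E₆(q)`: elements of the good torus (S3852, helper607)

* `exists_frame` : a toral `σ`-fixed element `x = x ^ (ε q)` whose stabiliser in the Weyl group is generated by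
  reflections lies in a torus `v T v⁻¹` on which `σ` acts as `s ↦ s ^ (ε q)`.
-/

set_option autoImplicit false
set_option linter.unusedSectionVars false

namespace Cfsg.Agent.H607.Car

open CoxeterSystem Subgroup Cfsg Cfsg.Lie Cfsg.Lie.ChevalleyDatum
open Cfsg.Agent.ChevalleyStructure Cfsg.Agent.ChevalleyStructure.Elts Cfsg.Agent.ChevalleyStructure.CoxeterGeom
  Cfsg.Agent.ChevalleyStructure.CoxeterGeomTypes Cfsg.Agent.ChevalleyStructure.NPerm
open Cfsg.Agent.Tits.Roots Cfsg.Agent.Tits.Core Cfsg.Agent.Nodes Cfsg.Agent.Nodes.Reps Cfsg.Agent.Nodes.BNOf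
  Cfsg.Agent.Nodes.RGDChev Cfsg.Agent.Nodes.Bruhat Cfsg.Agent.Nodes.SubComb
open Cfsg.Agent.KFacts.RgdField Cfsg.Agent.KFacts.RgdChevCoord
open Cfsg.Agent.BpExc Cfsg.Agent.BpExc.TorCent Cfsg.Agent.BpExc.TorChev Cfsg.Agent.BpExc.Tow
open Cfsg.Agent.BpExc.TowChev Cfsg.Agent.BpExc.Fr Cfsg.Agent.BpExc.LangFr Cfsg.Agent.BpExc.Pair
open Cfsg.Agent.BpExc.FamUntw Cfsg.Agent.BpExc.RowsUntw Cfsg.Agent.Nodes.Coroot
open Cfsg.Agent.H696.GmnToral Cfsg.Agent.H696.GmnTor Cfsg.Agent.H696.GmnUntw Cfsg.Agent.H696.GmnTwE6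
  Cfsg.Agent.H720.TwFr

variable {r n : ℕ} [Fact r.Prime] {ε : ℤ} {X : Type} [Group X] {ι : X →* Yb r} {σ : MulAut (Yb r)}

section Basic

theorem finW : Finite W6 := finite_W hp6 cs6

theorem hkb (r : ℕ) [Fact r.Prime] : LocFin (Kb r) := locFin_of_isAlgebraic r (Kb r)

theorem hZb (r : ℕ) [Fact r.Prime] : center (Yb r) = ⊥ := center_eq_bot_of_simple (S1054.result chevE6 (by simp))

theorem TLb (r : ℕ) [Fact r.Prime] : TL (Tj hp6 (k := Kb r)) = Tb r := TL_eq hp6 (hkb r)

theorem XLb (r : ℕ) [Fact r.Prime] : XL (Xj hp6 (k := Kb r)) = XX chevE6 6 (Kb r) := XL_eq hp6 (hkb r)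

theorem coordsb (r : ℕ) [Fact r.Prime] : Coords cs6 hp6.isCartan (TL (Tj hp6 (k := Kb r))) (nc hp6 (Kb r))
    (XL (Xj hp6 (k := Kb r))) (xc hp6) (ch hp6) := by
  rw [TLb, XLb]; exact coordsL hp6 cs6 (hkb r) r

theorem chAddb (r : ℕ) [Fact r.Prime] : ChAdd cs6 hp6.isCartan (TL (Tj hp6 (k := Kb r))) (ch (K := Kb r) hp6) := by
  rw [TLb]; exact chAddL hp6 cs6 (hkb r) r

/-- `w` fixes `t` -/
def FixT (t : Yb r) (w : W6) : Prop := ∀ a, IsRoot cs6 hp6.isCartan a → ch hp6 (rp w a) t = ch hp6 a t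

/-- the reflections of `t` generate the stabiliser -/
def ReflT (t : Yb r) : Prop := ∀ w, FixT t w → w ∈ Subgroup.closure
  {s | ∃ (v : W6) (i : Fin 6), s = rfl' cs6 v i ∧ ch hp6 (rp v (sr i)) t = 1}

/-- elements of the reflection subgroup of `t` are represented in `MM t` -/
theorem exists_MM {t : Yb r} (ht : t ∈ Tb r) {w : W6} (hw : w ∈ Subgroup.closure
    {s | ∃ (v : W6) (i : Fin 6), s = rfl' cs6 v i ∧ ch hp6 (rp v (sr i)) t = 1}) :
    ∃ m ∈ MM cs6 hp6.isCartan (XX chevE6 6 (Kb r)) (ch hp6) t, Rb r w m := by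
  have := finW
  have ht' : t ∈ TL (Tj hp6 (k := Kb r)) := by rw [TLb]; exact ht
  induction hw using Subgroup.closure_induction with
  | mem s hs =>
    obtain ⟨v, i, rfl, h1⟩ := hs
    have ha : rp v (sr i) ∈ Sx cs6 hp6.isCartan (ch hp6) t := ⟨⟨v, i, rfl⟩, h1⟩
    obtain ⟨w', i', e, m, hm, hm'⟩ := exists_rfl_MM (tow hp6 cs6 (hkb r) r) (coordsb r) (chAddb r) ht' ha
    rw [XLb] at hm
    refine ⟨m, hm, ?_⟩
    have e1 : rfl' cs6 w' i' = rfl' cs6 v i := by
      refine rep_faithful hp6 cs6 fun b hb => ?_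
      rw [Nodes.Coroot.rep_rfl'_eq, Nodes.Coroot.rep_rfl'_eq, ← e]
    rwa [e1] at hm'
  | one => exact ⟨1, one_mem _, rp_one⟩
  | mul a b _ _ ha hb =>
    obtain ⟨m, hm, hm'⟩ := ha
    obtain ⟨m', hm1, hm2⟩ := hb
    exact ⟨m * m', mul_mem hm hm1, hm'.mul hm2⟩
  | inv a _ ha =>
    obtain ⟨m, hm, hm'⟩ := ha
    exact ⟨m⁻¹, inv_mem hm, hm'.inv⟩

/-! #### values -/

theorem val_add {A : Type*} [AddCommGroup A] (c : Fin 6 → A) (a b : Fin 6 → ℤ) : val c (a + b) = val c a + val c b := by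
  unfold val
  rw [← Finset.sum_add_distrib]
  exact Finset.sum_congr rfl fun i _ => by rw [Pi.add_apply, add_smul]

theorem val_smul {A : Type*} [AddCommGroup A] (c : Fin 6 → A) (m : ℤ) (a : Fin 6 → ℤ) : val c (m • a) = m • val c a := by
  unfold val
  rw [Finset.smul_sum]
  exact Finset.sum_congr rfl fun i _ => by rw [Pi.smul_apply, smul_eq_mul, mul_smul]

theorem val_sub {A : Type*} [AddCommGroup A] (c : Fin 6 → A) (a b : Fin 6 → ℤ) : val c (a - b) = val c a - val c b := by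
  have h := val_add c (a - b) b
  rw [sub_add_cancel] at h
  rw [h, add_sub_cancel_right]

theorem val_zmod {l : ℕ} {c : Fin 6 → ZMod l} {m : Fin 6 → ℤ} {u : ZMod l} (h : ∀ i, c i = u * (m i : ZMod l))
    (a : Fin 6 → ℤ) : val c a = u * ((val m a : ℤ) : ZMod l) := by
  unfold val
  push_cast
  rw [Finset.mul_sum]
  refine Finset.sum_congr rfl fun i _ => ?_
  rw [h i, zsmul_eq_mul, smul_eq_mul]
  push_cast
  ring

/-- the reflections -/
theorem val_refl {A : Type*} [AddCommGroup A] (c : Fin 6 → A) (v : W6) (i : Fin 6) (x : Fin 6 → ℤ) :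
    val c (rp (rfl' cs6 v i) x) = val c x - cpr cs6 hp6.isCartan x (rp v (sr i)) • val c (rp v (sr i)) := by
  have := finW
  show val c (rep cs6 hp6.isCartan (rfl' cs6 v i) x) = _
  rw [Nodes.Coroot.rep_rfl'_eq, val_sub, val_smul]

theorem prod_zpow {F ι' : Type*} [Field F] {w : F} (hw : w ≠ 0) (s : Finset ι') (f : ι' → ℤ) :
    ∏ i ∈ s, w ^ f i = w ^ ∑ i ∈ s, f i := by
  classical
  induction s using Finset.induction_on with
  | empty => simp
  | insert a s ha ih => rw [Finset.prod_insert ha, Finset.sum_insert ha, ih, zpow_add₀ hw]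

/-- characters in terms of exponents -/
theorem ch_iff {t : Yb r} (ht : t ∈ Tb r) {l : ℕ} [NeZero l] {ω : Kb r} (hω : IsPrimitiveRoot ω l)
    {c : Fin 6 → ZMod l} (hc : ∀ i, ch hp6 (sr i) t = ω ^ (c i).val) {a b : Fin 6 → ℤ}
    (ha : IsRoot cs6 hp6.isCartan a) (hb : IsRoot cs6 hp6.isCartan b) :
    ch hp6 a t = ch hp6 b t ↔ val c a = val c b := by
  have hω0 : ω ≠ 0 := hω.ne_zero (NeZero.ne l)
  have key : ∀ a, IsRoot cs6 hp6.isCartan a → ch hp6 a t = ω ^ (∑ i, a i * ((c i).val : ℤ)) := by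
    intro a ha
    rw [← H129.TorusChar.cX_root hp6 cs6 ht ha]
    unfold H129.TorusChar.cX
    rw [← prod_zpow hω0]
    refine Finset.prod_congr rfl fun i _ => ?_
    rw [hc i, ← zpow_natCast, ← zpow_mul, mul_comm]
  have key2 : ∀ a : Fin 6 → ℤ, ((∑ i, a i * ((c i).val : ℤ) : ℤ) : ZMod l) = val c a := by
    intro a
    unfold val
    push_cast
    refine Finset.sum_congr rfl fun i _ => ?_
    rw [zsmul_eq_mul, ZMod.natCast_zmod_val]
  rw [key a ha, key b hb, ← key2, ← key2, ZMod.intCast_eq_intCast_iff_dvd_sub]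
  rw [← div_eq_one_iff_eq (zpow_ne_zero _ hω0), ← zpow_sub₀ hω0, hω.zpow_eq_one_iff_dvd]
  rw [dvd_sub_comm]

theorem exists_prim (r : ℕ) [Fact r.Prime] {l : ℕ} (hl : l.Prime) (hlr : l ≠ r) : ∃ ω : Kb r, IsPrimitiveRoot ω l := by
  have h0 : NeZero ((l : ℕ) : Kb r) := ⟨by
    rw [Ne, CharP.cast_eq_zero_iff (Kb r) r]
    intro h
    exact hlr ((Nat.prime_dvd_prime_iff_eq Fact.out hl).1 h).symm⟩
  obtain ⟨ω, hω⟩ := IsAlgClosed.exists_root (Polynomial.cyclotomic l (Kb r)) (by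
    rw [Polynomial.degree_cyclotomic]
    have := Nat.totient_pos.2 hl.pos
    exact_mod_cast this.ne')
  exact ⟨ω, Polynomial.isRoot_cyclotomic_iff.1 hω⟩

theorem exists_exp {t : Yb r} (ht : t ∈ Tb r) {l : ℕ} [NeZero l] {ω : Kb r} (hω : IsPrimitiveRoot ω l)
    (htl : t ^ l = 1) : ∃ c : Fin 6 → ZMod l, ∀ i, ch hp6 (sr i) t = ω ^ (c i).val := by
  have h1 : ∀ i : Fin 6, ∃ c : ZMod l, ch hp6 (sr i) t = ω ^ c.val := by
    intro i
    have hr := isRoot_sr cs6 hp6.isCartan i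
    have h2 : ch hp6 (sr i) t ^ l = 1 := by
      rw [← ch_pow hp6 cs6 (hkb r) r hr ht, htl, ch_one hp6 cs6 (hkb r) r hr]
    obtain ⟨j, hj, e⟩ := hω.eq_pow_of_pow_eq_one h2
    exact ⟨(j : ZMod l), by rw [ZMod.val_natCast_of_lt hj, e]⟩
  choose c hc using h1
  exact ⟨c, hc⟩

/-- `m` has the stabiliser and the roots of `t` -/
structure MData (t : Yb r) (m : Fin 6 → ℤ) : Prop where
  odd : ∃ i, Odd (m i)
  fixm : ∀ w, FixT t w → FixW m w
  fixt : ∀ w, FixW m w → FixT t w
  ker : ∀ a, IsRoot cs6 hp6.isCartan a → (ch hp6 a t = 1 ↔ val m a = 0)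

theorem fixT_iff {t : Yb r} (ht : t ∈ Tb r) {l : ℕ} [NeZero l] {ω : Kb r} (hω : IsPrimitiveRoot ω l)
    {c : Fin 6 → ZMod l} (hc : ∀ i, ch hp6 (sr i) t = ω ^ (c i).val) (w : W6) : FixT t w ↔ FixW c w := by
  constructor
  · intro h a
    have e1 : a = ∑ i, a i • (sr i : Fin 6 → ℤ) := H129.TorusChar.IsMC.eq_sum_sr a
    have hsum : ∀ (f : Fin 6 → Fin 6 → ℤ), val c (∑ i, a i • f i) = ∑ i, a i • val c (f i) := by
      intro f
      have h2 : ∀ s : Finset (Fin 6), val c (∑ i ∈ s, a i • f i) = ∑ i ∈ s, a i • val c (f i) := by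
        intro s
        induction s using Finset.induction_on with
        | empty => simp [val]
        | insert b s hb ih => rw [Finset.sum_insert hb, Finset.sum_insert hb, val_add, val_smul, ih]
      exact h2 _
    have e2 : rp w a = ∑ i, a i • rp w (sr i) := by
      show rep cs6 hp6.isCartan w a = _
      conv_lhs => rw [e1]
      rw [map_sum]
      exact Finset.sum_congr rfl fun i _ => map_zsmul _ _ _
    rw [e2, hsum]
    conv_rhs => rw [e1, hsum]
    refine Finset.sum_congr rfl fun i _ => ?_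
    have hr := isRoot_sr cs6 hp6.isCartan i
    rw [(ch_iff ht hω hc (hr.act w) hr).1 (h _ hr)]
  · intro h a ha
    exact (ch_iff ht hω hc (ha.act w) ha).2 (h a)

theorem ch_one_iff {t : Yb r} (ht : t ∈ Tb r) {l : ℕ} [NeZero l] {ω : Kb r} (hω : IsPrimitiveRoot ω l)
    {c : Fin 6 → ZMod l} (hc : ∀ i, ch hp6 (sr i) t = ω ^ (c i).val) {a : Fin 6 → ℤ}
    (ha : IsRoot cs6 hp6.isCartan a) : ch hp6 a t = 1 ↔ val c a = 0 := by
  have h1 := ch_iff (one_mem (Tb r)) hω (c := 0) (fun i => by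
    rw [ch_one hp6 cs6 (hkb r) r (isRoot_sr cs6 hp6.isCartan i)]; simp) ha ha
  have hω0 : ω ≠ 0 := hω.ne_zero (NeZero.ne l)
  have key : ch hp6 a t = ω ^ (∑ i, a i * ((c i).val : ℤ)) := by
    rw [← H129.TorusChar.cX_root hp6 cs6 ht ha]
    unfold H129.TorusChar.cX
    rw [← prod_zpow hω0]
    refine Finset.prod_congr rfl fun i _ => ?_
    rw [hc i, ← zpow_natCast, ← zpow_mul, mul_comm]
  have key2 : ((∑ i, a i * ((c i).val : ℤ) : ℤ) : ZMod l) = val c a := by
    unfold val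
    push_cast
    refine Finset.sum_congr rfl fun i _ => ?_
    rw [zsmul_eq_mul, ZMod.natCast_zmod_val]
  rw [key, hω.zpow_eq_one_iff_dvd, ← key2, ZMod.intCast_zmod_eq_zero_iff_dvd]

theorem mdata {t : Yb r} (ht : t ∈ Tb r) {l : ℕ} (hl : l.Prime) {ω : Kb r} (hω : IsPrimitiveRoot ω l)
    {c : Fin 6 → ZMod l} (hc : ∀ i, ch hp6 (sr i) t = ω ^ (c i).val) {m : Fin 6 → ℤ} {u : ZMod l} (hodd : ∃ i, Odd (m i))
    (hm : ∀ i, c i = u * (m i : ZMod l)) (hst : ∀ w, FixW c w → FixW m w) : MData t m := by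
  have : NeZero l := ⟨hl.ne_zero⟩
  have := finW
  refine ⟨hodd, fun w hw => hst w ((fixT_iff ht hω hc w).1 hw), fun w hw => (fixT_iff ht hω hc w).2 fun a => ?_,
    fun a ha => ?_⟩
  · rw [val_zmod hm, val_zmod hm, hw a]
  · rw [ch_one_iff ht hω hc ha]
    constructor
    · intro h0
      obtain ⟨v, i, rfl⟩ := id ha
      have h1 : FixW c (rfl' cs6 v i) := fun x => by
        rw [val_refl]
        show val c x - _ • val c (rep cs6 hp6.isCartan v (sr i)) = _
        rw [h0, smul_zero, sub_zero]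
      have h2 := hst _ h1 (rep cs6 hp6.isCartan v (sr i))
      rw [val_refl] at h2
      have h3 : cpr cs6 hp6.isCartan (rp v (sr i)) (rp v (sr i)) = 2 := Nodes.Coroot.cpr_self cs6 hp6.isCartan ha
      rw [h3] at h2
      have h4 : (2 : ℤ) • val m (rp v (sr i)) = 0 := by
        have := sub_eq_self.1 h2
        exact this
      have h5 := (smul_eq_zero.1 h4).resolve_left two_ne_zero
      exact h5
    · intro h0
      rw [val_zmod hm, h0, Int.cast_zero, mul_zero]

end Basic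

/-! ### the frame -/

section Frame

/-- **The good torus.** -/
theorem exists_frame (h : Six r n ε ι σ) {x : Yb r} (hσx : σ x = x) (hz : ∃ z, z⁻¹ * x * z ∈ Tb r)
    (hpow : x ^ (ε * (r : ℤ) ^ n) = x) (hrefl : ∀ t ∈ Tb r, (∃ z, z⁻¹ * x * z = t) → ReflT t) :
    ∃ v t : Yb r, t ∈ Tb r ∧ x = v * t * v⁻¹ ∧
      (∀ s ∈ Tb r, σ (v * s * v⁻¹) = v * s ^ (ε * (r : ℤ) ^ n) * v⁻¹) ∧
      ∀ w, ∃ x : X, Rb r w (v⁻¹ * ι x * v) := by
  have := finW
  obtain ⟨g, v₀, Fσ, hg⟩ := h.fr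
  obtain ⟨z, hz⟩ := hz
  obtain ⟨z', t, k', g', w₁, ht, h1, h2, hF, F', htt, hw₁, hw₁a⟩ :=
    frame_of_toral hp6 cs6 (hkb r) h.pos h.frob Fσ hσx hz
  have hεε : ε * ε = 1 := by rcases h.eps with h0 | h0 <;> rw [h0] <;> norm_num
  -- `w₂ = w₁ v₀` fixes `t`
  have hg' : ∀ a, IsRoot cs6 hp6.isCartan a → g' a = ε • rp (w₁ * v₀) a := by
    intro a ha
    rw [hw₁a a ha, hg, map_zsmul]
    show _ = ε • rep cs6 hp6.isCartan (w₁ * v₀) a
    rw [rep_mul_apply]
  have htpow : t ^ (ε * (r : ℤ) ^ n) = t := by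
    rw [← h1]
    have h3 := conj_zpow (i := ε * (r : ℤ) ^ n) (a := z'⁻¹) (b := x)
    rw [inv_inv] at h3
    rw [h3, hpow]
  have hfix : FixT t (w₁ * v₀) := by
    intro a ha
    have h3 := fr_ch hp6 cs6 (hkb r) hF F' ha ht
    rw [htt, hg' a ha] at h3
    have h4 : ch hp6 a t = ch hp6 a t ^ (ε * (r : ℤ) ^ n) := by
      rw [← ch_zpow hp6 cs6 (hkb r) r ha ht, htpow]
    have h5 : ch hp6 a t ^ (r ^ n : ℕ) = ch hp6 a t ^ ((r : ℤ) ^ n) := by
      push_cast [← zpow_natCast]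
      rfl
    rw [h5] at h3
    rcases h.eps with h0 | h0
    · rw [h0, one_smul] at h3
      rw [h0, one_mul] at h4
      exact h3.trans h4.symm
    · rw [h0, neg_smul, one_smul, ch_neg hp6 cs6 (hkb r) r (ha.act _) ht] at h3
      rw [h0, neg_one_mul, zpow_neg] at h4
      rw [h4, ← h3, inv_inv]
  obtain ⟨m, hm, hmw⟩ := exists_MM ht (hrefl t ht ⟨z', h1⟩ _ hfix)
  -- Lang
  have hS : ∀ a ∈ Sx cs6 hp6.isCartan (ch hp6) t, g' a ∈ Sx cs6 hp6.isCartan (ch hp6) t := by
    have ht' : t ∈ TL (Tj hp6 (k := Kb r)) := by rw [TLb]; exact ht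
    have F3 : Fr cs6 hp6.isCartan (TL (Tj hp6 (k := Kb r))) (XL (Xj hp6 (k := Kb r))) (MulAut.conj k' * σ) g' := by
      rw [TLb, XLb]; exact F'
    have h3 := fun a => F3.mem_Sx (coordsb r) ht' htt a
    intro a ha
    exact (h3 a).2 ha
  obtain ⟨y, hy, hym⟩ := lang_fr hp6 cs6 h.pos hF F' (S := Sx cs6 hp6.isCartan (ch hp6) t) (fun a ha => ha.1) hS
    (inv_mem hm)
  have hyt : t * y = y * t := by
    have h3 := MM_le_centralizer (coordsL hp6 cs6 (hkb r) r) ht hy
    rw [Subgroup.mem_centralizer_singleton_iff] at h3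
    exact h3.symm
  -- the new frame
  have F0 := Fr.conj (tow hp6 cs6 (hkb r) r (k := Kb r)) hmw.inv
  rw [TLb, XLb] at F0
  have F2 := F0.mul F'
  have hF2 : IsFrob r n (MulAut.conj m⁻¹ * (MulAut.conj k' * σ)) := hF.conj_mul m⁻¹
  set τ := MulAut.conj m⁻¹ * (MulAut.conj k' * σ) with hτ
  have hg2 : ∀ a, IsRoot cs6 hp6.isCartan a → (g'.trans (repAut cs6 hp6.isCartan (w₁ * v₀)⁻¹)) a = ε • a := by
    intro a ha
    show repAut cs6 hp6.isCartan (w₁ * v₀)⁻¹ (g' a) = ε • a
    rw [repAut_apply, hg' a ha, map_zsmul]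
    congr 1
    show rep cs6 hp6.isCartan (w₁ * v₀)⁻¹ (rep cs6 hp6.isCartan (w₁ * v₀) a) = a
    rw [← rep_mul_apply, inv_mul_cancel, map_one, Module.End.one_apply]
  set v := z' * y with hv
  have hσv : σ v = v * (m⁻¹ * k') := by
    have e1 : σ z' = z' * k' := by rw [← h2]; group
    have e2 : m⁻¹ = y⁻¹ * (k' * σ y * k'⁻¹) := hym
    rw [hv, map_mul, e1, e2]
    group
  have hconj : ∀ s, σ (v * s * v⁻¹) = v * τ s * v⁻¹ := by
    intro s
    rw [map_mul, map_mul, map_inv, hσv]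
    show _ = v * (m⁻¹ * (k' * σ s * k'⁻¹) * m⁻¹⁻¹) * v⁻¹
    group
  have hact : ∀ s ∈ Tb r, τ s = s ^ (ε * (r : ℤ) ^ n) := by
    intro s hs
    refine ext_TT hp6 cs6 (hkb r) r (hZb r) ((F2.tor s).2 hs) (zpow_mem hs _) fun a ha => ?_
    have h3 := fr_ch hp6 cs6 (hkb r) hF2 F2 ha hs
    have h5 : ch hp6 a s ^ (r ^ n : ℕ) = ch hp6 a s ^ ((r : ℤ) ^ n) := by
      push_cast [← zpow_natCast]
      rfl
    rw [hg2 a ha, h5] at h3
    rw [ch_zpow hp6 cs6 (hkb r) r ha hs]
    rcases h.eps with h0 | h0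
    · rw [h0, one_smul] at h3
      rw [h0, one_mul]
      exact h3
    · rw [h0, neg_smul, one_smul, ch_neg hp6 cs6 (hkb r) r ha ((F2.tor s).2 hs)] at h3
      rw [h0, neg_one_mul, zpow_neg, ← h3, inv_inv]
  -- lifts of the simple reflections
  have hodd : Odd (Int.gcd 3 ((r : ℤ) ^ n - ε)) := by
    have h3 : Int.gcd 3 ((r : ℤ) ^ n - ε) ∣ 3 := Int.gcd_dvd_natAbs_left _ _
    rcases (Nat.dvd_prime Nat.prime_three).1 h3 with h4 | h4 <;> rw [h4] <;> decide
  have hsimple : ∀ i : Fin 6, ∃ s : X, Rb r (cs6.simple i) (v⁻¹ * ι s * v) := by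
    intro i
    obtain ⟨q, hq, hqf⟩ := exists_fixed_rp hp6 cs6 (hkb r) (hZb r) h.pos hF2 F2 (w := cs6.simple i) (fun a ha => by
      rw [hg2 a ha, hg2 _ (ha.act _), map_zsmul])
    obtain ⟨s, hs⟩ := h.desc (v * q * v⁻¹) (by rw [hconj, hqf])
    refine ⟨s, ?_⟩
    have h3 : v⁻¹ * ι s * v = q ^ Int.gcd 3 ((r : ℤ) ^ n - ε) := by
      rw [hs, conj_pow]; group
    rw [h3]
    obtain ⟨c, hc⟩ := hodd
    have h4 : ∀ c : ℕ, Rb r (cs6.simple i) (q ^ (2 * c + 1)) := by
      intro c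
      induction c with
      | zero => rw [mul_zero, zero_add, pow_one]; exact hq
      | succ c ih =>
        have h5 := (ih.mul hq).mul hq
        rw [mul_assoc (cs6.simple i), cs6.simple_mul_simple_self, mul_one] at h5
        have e : q ^ (2 * (c + 1) + 1) = q ^ (2 * c + 1) * q * q := by
          rw [show 2 * (c + 1) + 1 = 2 * c + 1 + 1 + 1 by ring, pow_succ, pow_succ]
        rwa [e]
    rw [hc]
    exact h4 c
  refine ⟨v, t, ht, ?_, fun s hs => by rw [hconj, hact s hs], fun w => ?_⟩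
  · have e1 : x = z' * t * z'⁻¹ := by rw [← h1]; group
    rw [hv, e1]
    calc z' * t * z'⁻¹ = z' * (t * y) * y⁻¹ * z'⁻¹ := by group
      _ = _ := by rw [hyt]; group
  · obtain ⟨ω, rfl⟩ := cs6.wordProd_surjective w
    induction ω with
    | nil => exact ⟨1, by rw [wordProd_nil, map_one, mul_one, inv_mul_cancel]; exact rp_one⟩
    | cons i ω ih =>
      obtain ⟨s, hs⟩ := ih
      obtain ⟨s', hs'⟩ := hsimple i
      refine ⟨s' * s, ?_⟩
      have e : v⁻¹ * ι (s' * s) * v = (v⁻¹ * ι s' * v) * (v⁻¹ * ι s * v) := by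
        rw [map_mul]; group
      rw [wordProd_cons, e]
      exact hs'.mul hs

end Frame

end Cfsg.Agent.H607.Car
end

-- part: H607/Car/E6Good
section
/-!
# `E₆(q)`, `²E₆(q)`: rigid elements are good (S3852, helper607)

* `goodSt` : `GoodSt` from `LiftSt`, `LiftThreeSt`, `ReflZ`, `ConnSt`, `ThreeSt`.
-/

set_option autoImplicit false
set_option linter.unusedSectionVars false

namespace Cfsg.Agent.H607.Car

open CoxeterSystem Subgroup Cfsg Cfsg.Lie Cfsg.Lie.ChevalleyDatum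
open Cfsg.Agent.ChevalleyStructure Cfsg.Agent.ChevalleyStructure.Elts Cfsg.Agent.ChevalleyStructure.CoxeterGeom
  Cfsg.Agent.ChevalleyStructure.CoxeterGeomTypes Cfsg.Agent.ChevalleyStructure.NPerm
open Cfsg.Agent.Tits.Roots Cfsg.Agent.Tits.Core Cfsg.Agent.Nodes Cfsg.Agent.Nodes.Reps Cfsg.Agent.Nodes.BNOf
  Cfsg.Agent.Nodes.RGDChev Cfsg.Agent.Nodes.Bruhat Cfsg.Agent.Nodes.SubComb
open Cfsg.Agent.KFacts.RgdField Cfsg.Agent.KFacts.RgdChevCoord
open Cfsg.Agent.BpExc Cfsg.Agent.BpExc.TorCent Cfsg.Agent.BpExc.TorChev Cfsg.Agent.BpExc.Tow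
open Cfsg.Agent.BpExc.TowChev Cfsg.Agent.BpExc.Fr Cfsg.Agent.BpExc.LangFr Cfsg.Agent.BpExc.Pair
open Cfsg.Agent.BpExc.FamUntw Cfsg.Agent.BpExc.RowsUntw Cfsg.Agent.Nodes.Coroot
open Cfsg.Agent.H696.GmnToral Cfsg.Agent.H696.GmnTor Cfsg.Agent.H696.GmnUntw Cfsg.Agent.H696.GmnTwE6
  Cfsg.Agent.H720.TwFr

variable {r n : ℕ} [Fact r.Prime] {ε : ℤ} {X : Type} [Group X] {ι : X →* Yb r} {σ : MulAut (Yb r)}

/-- **T5.** -/
theorem goodSt (h : Six r n ε ι σ) (hL : LiftSt) (hL3 : LiftThreeSt) (hR : ReflZ) (hC : ConnSt r ι σ)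
    (hT : ThreeSt r n ε ι) : GoodSt r n ε ι σ := by
  intro z hl hl2 hlr hz
  obtain ⟨l, hl0⟩ : ∃ l, l = orderOf z := ⟨_, rfl⟩
  rw [← hl0] at hl hl2 hlr
  have : NeZero l := ⟨hl.ne_zero⟩
  have hιl : ι z ^ l = 1 := by rw [← map_pow, hl0, pow_orderOf_eq_one, map_one]
  obtain ⟨z0, hz0⟩ := TorAll.exists_toral' hp6 r hl hlr hιl
  obtain ⟨g, v₀, Fσ, hg⟩ := h.fr
  have hz1 : z ≠ 1 := by
    intro h1
    rw [h1, orderOf_one] at hl0
    exact hl.one_lt.ne' hl0
  -- fusion
  obtain ⟨y, hy, hyz⟩ : ∃ y, σ y = y ∧ y⁻¹ * ι z * y = ι z ^ (ε * (r : ℤ) ^ n) := by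
    rcases h.eps with h0 | h0
    · obtain ⟨y, hy, hyz⟩ := conj_pow_of_mem hp6 cs6 (hkb r) (hZb r) h.pos h.frob Fσ (h.fix z) hz0
        ⟨v₀, fun a _ => by rw [hg a, h0, one_smul]⟩
      exact ⟨y, hy, by rw [hyz, h0, one_mul]⟩
    · obtain ⟨y, hy, hyz⟩ := conj_pow_of_neg_mem hp6 cs6 (hkb r) (hZb r) h.pos h.frob Fσ (h.fix z) hz0
        ⟨v₀, fun a _ => by rw [hg a, h0, neg_smul, one_smul]⟩
      exact ⟨y, hy, by rw [hyz, h0, neg_one_mul]⟩
  have hz2 : ¬ IsConj z z⁻¹ := by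
    intro hc
    obtain ⟨g, hg⟩ := isConj_iff.1 hc
    have h1 := hz g (by rw [hg]; exact inv_mem (mem_zpowers z))
    rw [hg] at h1
    have h2 : z ^ 2 = 1 := by rw [sq]; nth_rw 1 [← h1]; exact inv_mul_cancel z
    have h3 := orderOf_dvd_of_pow_eq_one h2
    rw [← hl0] at h3
    exact hl2 ((Nat.prime_dvd_prime_iff_eq hl Nat.prime_two).1 h3)
  have hpow : z ^ (ε * (r : ℤ) ^ n) = z := by
    have key : IsConj z (z ^ (ε * (r : ℤ) ^ n)) → z ^ (ε * (r : ℤ) ^ n) = z := by
      intro hc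
      obtain ⟨g, hg⟩ := isConj_iff.1 hc
      have h1 := hz g (by rw [hg]; exact zpow_mem (mem_zpowers z) _)
      rwa [hg] at h1
    by_cases h3 : l = 3
    · by_cases h4 : (3 : ℤ) ∣ (r : ℤ) ^ n - ε
      · obtain ⟨k, hk⟩ := h4
        have e1 : ε * (r : ℤ) ^ n = 1 + 3 * (ε * k) := by
          have e2 : (r : ℤ) ^ n = ε + 3 * k := by rw [← hk]; ring
          have e3 : ε * ε = 1 := by rcases h.eps with h0 | h0 <;> rw [h0] <;> norm_num
          rw [e2, mul_add, e3]; ring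
        have e4 : z ^ (3 : ℤ) = 1 := by
          have := pow_orderOf_eq_one z
          rw [← hl0, h3] at this
          exact_mod_cast this
        rw [e1, zpow_add, zpow_one, zpow_mul, e4, one_zpow, mul_one]
      · have h5 : Int.gcd 3 ((r : ℤ) ^ n - ε) = 1 := by
          have h6 : Int.gcd 3 ((r : ℤ) ^ n - ε) ∣ 3 := Int.gcd_dvd_natAbs_left _ _
          rcases (Nat.dvd_prime Nat.prime_three).1 h6 with h7 | h7
          · exact h7
          · exfalso
            apply h4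
            have h8 := Int.gcd_dvd_right (a := 3) (b := (r : ℤ) ^ n - ε)
            rw [h7] at h8
            exact h8
        obtain ⟨x, hx⟩ := h.desc y hy
        rw [h5, pow_one] at hx
        apply key
        rw [isConj_iff]
        refine ⟨x⁻¹, h.inj ?_⟩
        rw [inv_inv, map_mul, map_mul, map_inv, hx, hyz, map_zpow]
    · exact key (hC z _ (by rw [← hl0]; exact hl) (by rw [← hl0]; exact h3) (by rw [← hl0]; exact hlr) y⁻¹
        (by rw [map_inv, hy]) (by rw [inv_inv, hyz, map_zpow]))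
  have hιpow : ι z ^ (ε * (r : ℤ) ^ n) = ι z := by rw [← map_zpow, hpow]
  obtain ⟨ω, hω⟩ := exists_prim r hl hlr
  have key : ∀ t ∈ Tb r, (∃ z', z'⁻¹ * ι z * z' = t) → ∃ m, MData t m := by
    rintro t ht ⟨z', hz'⟩
    have htl : t ^ l = 1 := by
      have h1 := conj_pow (i := l) (a := z'⁻¹) (b := ι z)
      rw [inv_inv, hz', hιl, mul_one] at h1
      rw [h1]; group
    obtain ⟨c, hc⟩ := exists_exp ht hω htl
    have hc0 : c ≠ 0 := by
      rintro rfl
      have h1 : t = 1 := by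
        refine eq_one_TT hp6 cs6 (hkb r) r (hZb r) ht fun a ha => ?_
        rw [ch_one_iff ht hω hc ha]
        unfold val
        simp
      rw [← hz'] at h1
      have h2 : ι z = 1 := by
        have : ι z = z' * (z'⁻¹ * ι z * z') * z'⁻¹ := by group
        rw [this, h1]; group
      exact hz1 (h.inj (by rw [h2, map_one]))
    by_cases h3 : l = 3
    · subst h3
      have h4 : (3 : ℤ) ∣ (r : ℤ) ^ n - ε := by
        have e3 : ε * ε = 1 := by rcases h.eps with h0 | h0 <;> rw [h0] <;> norm_num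
        have h5 : z ^ (ε * (r : ℤ) ^ n - 1) = 1 := by rw [zpow_sub, hpow, zpow_one, mul_inv_cancel]
        have h6 := orderOf_dvd_iff_zpow_eq_one.2 h5
        rw [← hl0] at h6
        obtain ⟨k, hk⟩ := h6
        refine ⟨ε * k, ?_⟩
        have h7 : ε * (ε * (r : ℤ) ^ n - 1) = ε * (((3 : ℕ) : ℤ) * k) := by rw [hk]
        rw [mul_sub, ← mul_assoc, e3, one_mul, mul_one] at h7
        rw [h7]; push_cast; ring
      rcases hT hlr.symm h4 z hl0.symm with h5 | h5
      · exact absurd h5 hz2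
      · have h6 := h5 z' t ht hz' ω c hω.eq_orderOf.symm hc
        obtain ⟨m, u, -, hodd, hm, hst⟩ := hL3 c h6
        exact ⟨m, mdata ht hl hω hc hodd hm hst⟩
    · obtain ⟨m, u, -, hodd, hm, hst⟩ := hL l hl hl2 h3 c hc0
      exact ⟨m, mdata ht hl hω hc hodd hm hst⟩
  have hrefl : ∀ t ∈ Tb r, (∃ z', z'⁻¹ * ι z * z' = t) → ReflT t := by
    intro t ht hz'
    obtain ⟨m, hm⟩ := key t ht hz'
    intro w hw
    refine Subgroup.closure_mono ?_ (hR m w (hm.fixm w hw))
    rintro s ⟨v, i, rfl, h0⟩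
    exact ⟨v, i, rfl, (hm.ker _ ⟨v, i, rfl⟩).2 h0⟩
  obtain ⟨v, t, ht, e, hact, hrep⟩ := exists_frame h (h.fix z) ⟨z0, hz0⟩ hιpow hrefl
  obtain ⟨m, hm⟩ := key t ht ⟨v, by rw [e]; group⟩
  exact ⟨v, t, m, ht, e, hact, hrep, hm.odd, hm.fixm, hm.fixt, hm.ker⟩

end Cfsg.Agent.H607.Car
end

-- part: H518/Carter/T0
section
/-!
# The involution `t0 = h_θ(-1)` of `E₆^ε(q)`: common form (helper518, S3852)

`t0` is conjugate in `Y = E₆(k)` to the element `t` of the torus with `ch (α_i) t = -1` for `i = 1` (the node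
`α₂` of Bourbaki, joined to `-θ`) and `1` for the other nodes, i.e. `ch a t = (-1) ^ (a 1) = (-1) ^ ⟨a, θ^∨⟩`.
-/

set_option autoImplicit false

namespace Cfsg.Agent.H518.Carter

open CoxeterSystem Subgroup Cfsg Cfsg.Lie Cfsg.Lie.ChevalleyDatum
open Cfsg.Agent.ChevalleyStructure Cfsg.Agent.ChevalleyStructure.Elts Cfsg.Agent.ChevalleyStructure.CoxeterGeom
  Cfsg.Agent.ChevalleyStructure.CoxeterGeomTypes Cfsg.Agent.ChevalleyStructure.NPerm
open Cfsg.Agent.Tits.Roots Cfsg.Agent.Tits.Core Cfsg.Agent.Nodes Cfsg.Agent.Nodes.Reps Cfsg.Agent.Nodes.BNOf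
  Cfsg.Agent.Nodes.RGDChev Cfsg.Agent.Nodes.Bruhat
open Cfsg.Agent.KFacts.RgdField Cfsg.Agent.KFacts.RgdChevCoord
open Cfsg.Agent.BpExc Cfsg.Agent.BpExc.TorCent Cfsg.Agent.BpExc.TorChev Cfsg.Agent.BpExc.Tow
open Cfsg.Agent.BpExc.TowChev Cfsg.Agent.BpExc.Fr Cfsg.Agent.BpExc.LangFr
open Cfsg.Agent.BpExc.FamUntw
open Cfsg.Agent.H696.GmnToral Cfsg.Agent.H720.TwFr
open Cfsg.Agent.H607.Car

/-- `t0` is conjugate in `Y` to `h_θ(-1)` -/
def IsT0 (r : ℕ) [Fact r.Prime] {X : Type} [Group X] (ι : X →* Yb r) (t0 : X) : Prop :=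
  ∃ v t : Yb r, t ∈ Tb r ∧ ι t0 = v * t * v⁻¹ ∧ ∀ i : Fin 6, ch hp6 (sr i) t = if i = 1 then -1 else 1

end Cfsg.Agent.H518.Carter
end

-- part: H518/Carter/SixTor
section
/-!
# The involutions of the torus of `E₆(q)` (helper518, S3852, T9)

* `ext_TT` : the elements of the torus are separated by the characters;
* `t1 = h_{α₁}(-1)`, `t0 = h_θ(-1)`; `isConj_t1_t0`.
-/

set_option autoImplicit false
set_option linter.unusedSectionVars false

namespace Cfsg.Agent.H518.Carter.SixSplit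

open CoxeterSystem Subgroup Cfsg Cfsg.Lie Cfsg.Lie.ChevalleyDatum
open Cfsg.Agent.ChevalleyStructure Cfsg.Agent.ChevalleyStructure.Elts Cfsg.Agent.ChevalleyStructure.CoxeterGeom
  Cfsg.Agent.ChevalleyStructure.CoxeterGeomTypes Cfsg.Agent.ChevalleyStructure.NPerm
open Cfsg.Agent.Tits.Roots Cfsg.Agent.Tits.Core Cfsg.Agent.Nodes Cfsg.Agent.Nodes.Reps Cfsg.Agent.Nodes.BNOf
  Cfsg.Agent.Nodes.RGDChev Cfsg.Agent.Nodes.Bruhat
open Cfsg.Agent.KFacts.RgdField Cfsg.Agent.KFacts.RgdChevCoord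
open Cfsg.Agent.BpExc Cfsg.Agent.BpExc.TorCent Cfsg.Agent.BpExc.TorChev Cfsg.Agent.BpExc.Tow
open Cfsg.Agent.BpExc.TowChev Cfsg.Agent.BpExc.Fr Cfsg.Agent.BpExc.LangFr
open Cfsg.Agent.BpExc.FamUntw
open Cfsg.Agent.H696.GmnToral Cfsg.Agent.H720.TwFr
open Cfsg.Agent.H607.Car

theorem neg_ne {F : Type} [Field F] : (-1 : F) ≠ 0 := neg_ne_zero.2 one_ne_zero

variable {F : Type} [Field F] [Finite F] (p : ℕ) [Fact p.Prime] [CharP F p]

theorem isRoot_vec {r : ℕ} (hr : r < 72) : IsRoot cs6 hp6.isCartan (vec chevE6 6 r) :=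
  (isRoot_iff hp6 cs6 _).2 ⟨r, hr, rfl⟩

theorem center_bot : Subgroup.center ↥(chevE6.group F) = ⊥ := by
  obtain ⟨hs, hc⟩ := Cfsg.Agent.S1054.result (F := F) chevE6 (by simp)
  have := hs
  have hn : (Subgroup.center ↥(chevE6.group F)).Normal := inferInstance
  rcases hn.eq_bot_or_eq_top with h | h
  · exact h
  · exfalso
    apply hc
    exact ⟨⟨fun a b => (Subgroup.mem_center_iff.1 (by rw [h]; trivial : b ∈ Subgroup.center ↥(chevE6.group F)) a)⟩⟩

include p in
theorem ext_TT {s t : ↥(chevE6.group F)} (hs : s ∈ TT chevE6 F) (ht : t ∈ TT chevE6 F)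
    (h : ∀ r < 72, ch hp6 (vec chevE6 6 r) s = ch hp6 (vec chevE6 6 r) t) : s = t := by
  have C := coords (K := F) hp6 cs6 p
  have h1 : ∀ g : ↥(chevE6.group F), (s⁻¹ * t) * g = g * (s⁻¹ * t) := by
    intro g
    refine FamExt.group_induction hp6 (P := fun g => (s⁻¹ * t) * g = g * (s⁻¹ * t)) (by rw [mul_one, one_mul]) ?_ ?_ ?_ g
    · intro a b ha hb
      rw [← mul_assoc, ha, mul_assoc, hb, mul_assoc]
    · intro a ha
      rw [mul_inv_eq_iff_eq_mul, mul_assoc, ha, inv_mul_cancel_left]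
    · intro r hr x
      have hr' : r < 72 := hr
      have h2 := (C.coord _ (isRoot_vec hr')).act s hs x
      have h3 := (C.coord _ (isRoot_vec hr')).act t ht x
      rw [← h r hr', ← h2] at h3
      calc s⁻¹ * t * xc hp6 (vec chevE6 6 r) x = s⁻¹ * (t * xc hp6 (vec chevE6 6 r) x * t⁻¹) * t := by group
        _ = s⁻¹ * (s * xc hp6 (vec chevE6 6 r) x * s⁻¹) * t := by rw [h3]
        _ = xc hp6 (vec chevE6 6 r) x * (s⁻¹ * t) := by group
  have h2 : s⁻¹ * t ∈ Subgroup.center ↥(chevE6.group F) := Subgroup.mem_center_iff.2 fun g => (h1 g).symm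
  rw [center_bot, Subgroup.mem_bot] at h2
  exact inv_mul_eq_one.1 h2

/-- `h_{α₁}(-1)` -/
noncomputable def t1 (F : Type) [Field F] : ↥(chevE6.group F) := hc hp6 0 (-1)

/-- `h_θ(-1)` -/
noncomputable def t0 (F : Type) [Field F] : ↥(chevE6.group F) := hc hp6 0 (-1) * hc hp6 3 (-1) * hc hp6 5 (-1)

theorem t1_mem : t1 F ∈ TT chevE6 F := hc_mem hp6 0 neg_ne

theorem t0_mem : t0 F ∈ TT chevE6 F := mul_mem (mul_mem (hc_mem hp6 0 neg_ne) (hc_mem hp6 3 neg_ne)) (hc_mem hp6 5 neg_ne)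

theorem ch_t1 {r : ℕ} (hr : r < 72) : ch hp6 (vec chevE6 6 r) (t1 F) = (-1) ^ chevE6.cartan 0 r :=
  ch_hc hp6 0 neg_ne hr

include p in
theorem ch_t0 {r : ℕ} (hr : r < 72) : ch hp6 (vec chevE6 6 r) (t0 F) =
    (-1) ^ (chevE6.cartan 0 r + chevE6.cartan 3 r + chevE6.cartan 5 r) := by
  have C := (coords (K := F) hp6 cs6 p).coord _ (isRoot_vec hr)
  rw [t0, C.chi_mul (mul_mem (hc_mem hp6 0 neg_ne) (hc_mem hp6 3 neg_ne)) (hc_mem hp6 5 neg_ne),
    C.chi_mul (hc_mem hp6 0 neg_ne) (hc_mem hp6 3 neg_ne), ch_hc hp6 0 neg_ne hr, ch_hc hp6 3 neg_ne hr,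
    ch_hc hp6 5 neg_ne hr, zpow_add₀ neg_ne, zpow_add₀ neg_ne]
  rfl

/-- the action of a word on the roots -/
def rfw (w : List (Fin 6)) (r : ℕ) : ℕ := w.foldr (fun i s => chevE6.reflectRoot i s) r

/-- a word from `α₁` to `θ` -/
def w0 : List (Fin 6) := [1, 3, 4, 5, 2, 3, 4, 1, 3, 2]

theorem rfw_lt {w : List (Fin 6)} {r : ℕ} (hr : r < 72) : rfw w r < 72 := by
  induction w with
  | nil => exact hr
  | cons i w ih => exact reflectRoot_lt hp6.inList (lt_rank hp6 i) ih

include p in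
theorem exists_conj (w : List (Fin 6)) {t : ↥(chevE6.group F)} (ht : t ∈ TT chevE6 F) :
    ∃ g : ↥(chevE6.group F), g * t * g⁻¹ ∈ TT chevE6 F ∧
      ∀ r < 72, ch hp6 (vec chevE6 6 (rfw w r)) (g * t * g⁻¹) = ch hp6 (vec chevE6 6 r) t := by
  have R := rgd (K := F) hp6 cs6 p
  induction w with
  | nil => exact ⟨1, by simpa using ht, fun r hr => by simp only [rfw, _root_.List.pure_def, _root_.List.bind_eq_flatMap, _root_.List.flatMap_nil, _root_.List.foldr_nil, _root_.one_mul, _root_.inv_one, _root_.mul_one]⟩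
  | cons i w ih =>
    obtain ⟨g, hg, h⟩ := ih
    have h1 : nc hp6 F i * (g * t * g⁻¹) * (nc hp6 F i)⁻¹ ∈ TT chevE6 F :=
      (Subgroup.mem_normalizer_iff.1 (R.nsys.norm i) _).1 hg
    have e : nc hp6 F i * g * t * (nc hp6 F i * g)⁻¹ = nc hp6 F i * (g * t * g⁻¹) * (nc hp6 F i)⁻¹ := by group
    refine ⟨nc hp6 F i * g, by rw [e]; exact h1, fun r hr => ?_⟩
    rw [e]
    exact (chi_n hp6 (rfw_lt hr) hg h1).trans (h r hr)

/-- the table check -/
def chk : Bool := (List.range 72).all fun r => Nat.beq (rfw w0 (rfw w0.reverse r)) r &&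
  decide ((chevE6.cartan 0 r + chevE6.cartan 3 r + chevE6.cartan 5 r - chevE6.cartan 0 (rfw w0.reverse r)) % 2 = 0)

theorem chk_eq : chk = true := by (delta Cfsg.Agent.H518.Carter.SixSplit.chk Cfsg.Agent.H518.Carter.SixSplit.rfw; rewrite [H90F.rr_fun, H90F.ca_fun, H90F.al_fun, H90F.fr_fun]; decide +kernel)

theorem neg_one_zpow_of_even {a b : ℤ} (h : (a - b) % 2 = 0) : (-1 : F) ^ a = (-1) ^ b := by
  have h1 : a = b + (a - b) := by ring
  rw [h1, zpow_add₀ neg_ne, (Int.even_iff.2 h).neg_one_zpow, mul_one]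

include p in
theorem isConj_t1_t0 : IsConj (t1 F) (t0 F) := by
  obtain ⟨g, hg, h⟩ := exists_conj p w0 (t1_mem (F := F))
  rw [isConj_iff]
  refine ⟨g, ext_TT p hg t0_mem fun r hr => ?_⟩
  have h1 := List.all_eq_true.1 chk_eq r (List.mem_range.2 hr)
  simp only [Bool.and_eq_true, decide_eq_true_eq] at h1
  have h2 := h (rfw w0.reverse r) (rfw_lt hr)
  rw [Nat.eq_of_beq_eq_true h1.1] at h2
  rw [h2, ch_t1 (rfw_lt hr), ch_t0 p hr]
  exact (neg_one_zpow_of_even h1.2).symm

include p in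
theorem ch_sr (i : Fin 6) : ch hp6 (sr i) (t0 F) = if i = 1 then -1 else 1 := by
  rw [← vec_simple hp6 i, ch_t0 p (simple_lt hp6.inList (lt_rank hp6 i))]
  have h : ∀ i : Fin 6, (chevE6.cartan 0 (chevE6.simple i) + chevE6.cartan 3 (chevE6.simple i) +
      chevE6.cartan 5 (chevE6.simple i) - (if i = 1 then 1 else 0)) % 2 = 0 := by decide +kernel
  rw [neg_one_zpow_of_even (h i)]
  split_ifs <;> simp

end Cfsg.Agent.H518.Carter.SixSplit
end

-- part: H518/Carter/SixSplit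
section
/-!
# The component `SL₆(q)` of the centraliser of `t0` in `E₆(q)` (helper518, S3852, T9)

* `sixJ` : `SixJ (chevE6.group F) (t0 F)` for a finite field `F` of odd characteristic.
-/

set_option autoImplicit false
set_option linter.unusedSectionVars false

namespace Cfsg.Agent.H518.Carter.SixSplit

open CoxeterSystem Subgroup Cfsg Cfsg.Lie Cfsg.Lie.ChevalleyDatum
open Cfsg.Agent.ChevalleyStructure Cfsg.Agent.ChevalleyStructure.Elts Cfsg.Agent.ChevalleyStructure.CoxeterGeom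
  Cfsg.Agent.ChevalleyStructure.CoxeterGeomTypes Cfsg.Agent.ChevalleyStructure.NPerm
open Cfsg.Agent.Tits.Roots Cfsg.Agent.Tits.Core Cfsg.Agent.Nodes Cfsg.Agent.Nodes.Reps Cfsg.Agent.Nodes.BNOf
  Cfsg.Agent.Nodes.RGDChev Cfsg.Agent.Nodes.Bruhat
open Cfsg.Agent.KFacts.RgdField Cfsg.Agent.KFacts.RgdChevCoord
open Cfsg.Agent.BpExc Cfsg.Agent.BpExc.TorCent Cfsg.Agent.BpExc.TorChev
open Cfsg.Agent.H720.TwFr
open Cfsg.Agent.H607.Car
open Cfsg.Agent.H120.SLHom (rE6 sE6 a5_E6)
open Cfsg.Agent.H92.ExcSL2 (SL2 ph coe_ph phi_up phi_lo OrthB xG_commute commute_of_up_lo)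
open Cfsg.Agent.ChevalleyStructure.SL2Rep Cfsg.Agent.ChevalleyStructure.SL2Hom

variable {F : Type} [Field F] [Finite F]

/-- `SL₆(F)` -/
abbrev SL6 (F : Type) [Field F] : Type := Matrix.SpecialLinearGroup (Fin 6) F

/-- `π` is given by root elements on the transvections -/
def IsPi (π : SL6 F →* ↥(chevE6.group F)) : Prop := ∀ i j (hij : i ≠ j) a,
  ((π (Matrix.SpecialLinearGroup.transvection hij a) : ↥(chevE6.group F)) : GL chevE6.Idx F) =
    xG hp6.inList (rE6 i j) ((sE6 i j : F) * a)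

theorem exists_pi : ∃ π : SL6 F →* ↥(chevE6.group F), IsPi π ∧ π.ker ≤ Subgroup.center (SL6 F) := by
  obtain ⟨π, h1, h2⟩ := Cfsg.Agent.H120.SLHom.exists_hom_group (F := F) Cfsg.Agent.KFacts.En.Roots.ty_E6 a5_E6
  refine ⟨π, fun i j hij a => ?_, h2⟩
  rw [h1 i j hij a]
  exact Cfsg.Agent.H120.ChevSys.XG_vec Cfsg.Agent.KFacts.En.Roots.ty_E6 (a5_E6.a i j hij) _

theorem ss (i j : Fin 6) : ((sE6 i j : ℤ) : F) * (sE6 i j : F) = 1 := by
  rw [← Int.cast_mul, a5_E6.d, Int.cast_one]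

variable {π : SL6 F →* ↥(chevE6.group F)} (hπ : IsPi π)

include hπ in
/-- the image of `diag(-1, -1)` in two coordinates -/
theorem pi_diag {i j k : Fin 6} (hij : i ≠ j) (h1 : rE6 i j = chevE6.simple k) (h2 : rE6 j i = chevE6.neg (rE6 i j))
    (h3 : sE6 i j = 1) (h4 : sE6 j i = 1) :
    π (Matrix.SpecialLinearGroup.diag2n hij (-1) neg_ne) = hc hp6 k (-1) := by
  apply Subtype.ext
  have e : -(-1 : F)⁻¹ = 1 := by rw [inv_neg, inv_one, neg_neg]
  rw [Cfsg.Agent.LieClassical.SLGen.diag2n_decompose, e, map_mul, map_mul, map_mul, map_mul, map_mul, Subgroup.coe_mul,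
    Subgroup.coe_mul, Subgroup.coe_mul, Subgroup.coe_mul, Subgroup.coe_mul, hπ i j hij, hπ j i hij.symm,
    h3, h4, h2, h1, Int.cast_one, one_mul, one_mul]
  show _ = hG hp6.inList (chevE6.simple k) (-1)
  rw [hG_def, nG_def, e]
  simp only [mul_assoc]


/-- `-1` -/
noncomputable def z6 (F : Type) [Field F] : SL6 F :=
  Matrix.SpecialLinearGroup.diag2n (show (0 : Fin 6) ≠ 1 by decide) (-1) neg_ne *
    Matrix.SpecialLinearGroup.diag2n (show (2 : Fin 6) ≠ 3 by decide) (-1) neg_ne *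
    Matrix.SpecialLinearGroup.diag2n (show (4 : Fin 6) ≠ 5 by decide) (-1) neg_ne

theorem coe_z6 : (z6 F : Matrix (Fin 6) (Fin 6) F) = -1 := by
  rw [z6, Matrix.SpecialLinearGroup.coe_mul, Matrix.SpecialLinearGroup.coe_mul, Matrix.SpecialLinearGroup.diag2n_coe,
    Matrix.SpecialLinearGroup.diag2n_coe, Matrix.SpecialLinearGroup.diag2n_coe, Matrix.diagonal_mul_diagonal,
    Matrix.diagonal_mul_diagonal, ← Matrix.diagonal_one, Matrix.diagonal_neg]
  congr 1
  funext i
  (revert i; simp only [inv_neg, _root_.Fin.forall_fin_succ, Fin.isValue, _root_.inv_one, _root_.mul_ite, _root_.mul_neg, _root_.mul_one, Fin.reduceEq, ↓reduceIte, _root_.Fin.succ_ne_zero, _root_.Fin.succ_zero_eq_one, _root_.Fin.succ_one_eq_two, Fin.reduceSucc, _root_.IsEmpty.forall_iff, _root_.and_self])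

theorem z6_comm (u : SL6 F) : z6 F * u = u * z6 F := by
  apply Subtype.ext
  show (z6 F : Matrix (Fin 6) (Fin 6) F) * u.1 = u.1 * (z6 F : Matrix (Fin 6) (Fin 6) F)
  rw [coe_z6, neg_mul, one_mul, mul_neg, mul_one]

include hπ in
theorem pi_z6 : π (z6 F) = t0 F := by
  rw [z6, map_mul, map_mul, pi_diag hπ (k := 0) (by decide) (by decide +kernel) (by decide +kernel) (by decide) (by decide),
    pi_diag hπ (k := 3) (by decide) (by decide +kernel) (by decide +kernel) (by decide) (by decide),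
    pi_diag hπ (k := 5) (by decide) (by decide +kernel) (by decide +kernel) (by decide) (by decide)]
  rfl

include hπ in
theorem t0_comm (u : SL6 F) : t0 F * π u = π u * t0 F := by
  rw [← pi_z6 hπ, ← map_mul, ← map_mul, z6_comm]

include hπ in
theorem pi_t1 : π (Matrix.SpecialLinearGroup.diag2n (show (0 : Fin 6) ≠ 1 by decide) (-1) neg_ne) = t1 F :=
  pi_diag hπ (k := 0) (by decide) (by decide +kernel) (by decide +kernel) (by decide) (by decide)

/-! ### the root `θ` -/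

theorem l71 : 71 < chevE6.nroots := by decide

/-- the `SL₂` of the highest root -/
noncomputable abbrev pth (F : Type) [Field F] : SL2 F →* ↥(chevE6.group F) := ph hp6.inList l71

/-- the table check: the roots of type `A₅` are orthogonal to `±θ` -/
def chk2 : Bool := (List.finRange 6).all fun i => (List.finRange 6).all fun j =>
  decide (i = j) || (OrthB chevE6 (rE6 i j) 71 && OrthB chevE6 (rE6 i j) (chevE6.neg 71))

theorem chk2_eq : chk2 = true := by (delta Cfsg.Agent.H92.ExcSL2.OrthB Cfsg.Agent.H518.Carter.SixSplit.chk2 Cfsg.Agent.H120.SLHom.rE6; rewrite [H90F.ct_fun, H90F.ng_fun, H90F.vc_fun, H90F.al_fun]; decide +kernel)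

theorem lneg : chevE6.neg 71 < chevE6.nroots := by decide

include hπ in
theorem pi_comm (u : SL6 F) (g : SL2 F) : Commute (π u) (pth F g) := by
  have key : ∀ i j (hij : i ≠ j) a, Commute (π (Matrix.SpecialLinearGroup.transvection hij a)) (pth F g) := by
    intro i j hij a
    have h1 := List.all_eq_true.1 (List.all_eq_true.1 chk2_eq i (List.mem_finRange i)) j (List.mem_finRange j)
    simp only [Bool.or_eq_true, decide_eq_true_eq, hij, false_or, Bool.and_eq_true] at h1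
    refine (commute_of_up_lo (pth F) _ (fun t => ?_) (fun t => ?_) g).symm
    · refine Commute.symm (Subtype.ext ?_)
      show ((π (Matrix.SpecialLinearGroup.transvection hij a) : ↥(chevE6.group F)) : GL chevE6.Idx F) *
        phi _ F _ = phi _ F _ * _
      rw [hπ i j hij, phi_up hp6.inList l71]
      exact xG_commute hp6.inList (a5_E6.a i j hij) l71 h1.1 _ _
    · refine Commute.symm (Subtype.ext ?_)
      show ((π (Matrix.SpecialLinearGroup.transvection hij a) : ↥(chevE6.group F)) : GL chevE6.Idx F) *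
        phi _ F _ = phi _ F _ * _
      rw [hπ i j hij, phi_lo hp6.inList l71]
      exact xG_commute hp6.inList (a5_E6.a i j hij) lneg h1.2 _ _
  refine Cfsg.Agent.LieClassical.SLGen.transvection_induction (fun u => Commute (π u) (pth F g)) key ?_ u
  intro A B hA hB
  rw [map_mul]
  exact hA.mul_left hB

/-- the table check: the roots centralised by `t0` -/
def chk3 : Bool := (List.range 72).all fun r =>
  decide ((chevE6.cartan 0 r + chevE6.cartan 3 r + chevE6.cartan 5 r) % 2 ≠ 0) || Nat.beq r 71 || Nat.beq r (chevE6.neg 71) ||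
    (List.finRange 6).any fun i => (List.finRange 6).any fun j => decide (i ≠ j) && Nat.beq r (rE6 i j)

theorem chk3_eq : chk3 = true := by (delta Cfsg.Agent.H518.Carter.SixSplit.chk3 Cfsg.Agent.H120.SLHom.rE6; rewrite [H90F.ng_fun, H90F.ca_fun, H90F.vc_fun, H90F.al_fun, H90F.an_fun]; decide +kernel)

variable (p : ℕ) [Fact p.Prime] [CharP F p] (h2 : (2 : F) ≠ 0)

include hπ p h2 in
theorem MM_le : MM cs6 hp6.isCartan (XX chevE6 6 F) (ch hp6) (t0 F) ≤ π.range ⊔ (pth F).range := by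
  refine RGD.Sup_le fun z hz => ?_
  obtain ⟨hz1, hz2⟩ := hz
  obtain ⟨r, hr, rfl⟩ := (isRoot_iff hp6 cs6 z).1 hz1
  have hr' : r < 72 := hr
  intro u hu
  obtain ⟨c, rfl⟩ := (((coords (K := F) hp6 cs6 p).coord _ hz1).mem u).1 hu
  have h1 := List.all_eq_true.1 chk3_eq r (List.mem_range.2 hr')
  simp only [Bool.or_eq_true, decide_eq_true_eq, List.any_eq_true, List.mem_finRange, true_and, Bool.and_eq_true] at h1
  rcases h1 with ((h1 | h1) | h1) | ⟨i, j, hij, h1⟩
  · exfalso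
    rw [ch_t0 p hr'] at hz2
    have h3 : Odd (chevE6.cartan 0 r + chevE6.cartan 3 r + chevE6.cartan 5 r) := by
      rw [Int.odd_iff]; omega
    rw [h3.neg_one_zpow] at hz2
    apply h2
    linear_combination -hz2
  · refine Subgroup.mem_sup_right ⟨SL2Hom.up c, Subtype.ext ?_⟩
    rw [Nat.eq_of_beq_eq_true h1, coe_xc hp6 l71]
    exact phi_up hp6.inList l71 c
  · refine Subgroup.mem_sup_right ⟨SL2Hom.lo c, Subtype.ext ?_⟩
    rw [Nat.eq_of_beq_eq_true h1, coe_xc hp6 lneg]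
    exact phi_lo hp6.inList l71 c
  · refine Subgroup.mem_sup_left ⟨Matrix.SpecialLinearGroup.transvection hij ((sE6 i j : F) * c), Subtype.ext ?_⟩
    rw [Nat.eq_of_beq_eq_true h1, coe_xc hp6 (a5_E6.a i j hij), hπ i j hij, ← mul_assoc, ss, one_mul]

/-! ### counting -/

/-- the first row of a unipotent matrix -/
noncomputable def uu (v : Fin 4 → F) : SL6 F :=
  Matrix.SpecialLinearGroup.transvection (show (0 : Fin 6) ≠ 1 by decide) (v 0) *
    Matrix.SpecialLinearGroup.transvection (show (0 : Fin 6) ≠ 2 by decide) (v 1) *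
    Matrix.SpecialLinearGroup.transvection (show (0 : Fin 6) ≠ 3 by decide) (v 2) *
    Matrix.SpecialLinearGroup.transvection (show (0 : Fin 6) ≠ 4 by decide) (v 3)

theorem coe_uu (v : Fin 4 → F) : (uu v : Matrix (Fin 6) (Fin 6) F) =
    1 + Matrix.single 0 1 (v 0) + Matrix.single 0 2 (v 1) + Matrix.single 0 3 (v 2) + Matrix.single 0 4 (v 3) := by
  show (1 + Matrix.single 0 1 (v 0)) * (1 + Matrix.single 0 2 (v 1)) * (1 + Matrix.single 0 3 (v 2)) *
    (1 + Matrix.single 0 4 (v 3)) = _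
  have h : ∀ (i j : Fin 6) (a b : F), i ≠ 0 →
      Matrix.single (0 : Fin 6) i a * Matrix.single (0 : Fin 6) j b = 0 := fun i j a b hi =>
    Matrix.single_mul_single_of_ne _ _ _ _ hi _
  simp only [mul_add, add_mul, one_mul, mul_one, h 1 2 _ _ (by decide), h 1 3 _ _ (by decide), h 2 3 _ _ (by decide),
    h 1 4 _ _ (by decide), h 2 4 _ _ (by decide), h 3 4 _ _ (by decide), add_zero]

theorem uu_inj {v w : Fin 4 → F} {c : F} (h : (uu v : Matrix (Fin 6) (Fin 6) F) = c • (uu w : Matrix (Fin 6) (Fin 6) F)) :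
    v = w := by
  rw [coe_uu, coe_uu] at h
  have h5 : (1 : F) = c := by
    have := congrFun (congrFun h 5) 5
    simpa [Matrix.add_apply, Matrix.smul_apply, Matrix.single_apply] using this
  subst h5
  rw [one_smul] at h
  funext k
  fin_cases k
  · have := congrFun (congrFun h 0) 1
    simpa [Matrix.add_apply, Matrix.single_apply] using this
  · have := congrFun (congrFun h 0) 2
    simpa [Matrix.add_apply, Matrix.single_apply] using this
  · have := congrFun (congrFun h 0) 3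
    simpa [Matrix.add_apply, Matrix.single_apply] using this
  · have := congrFun (congrFun h 0) 4
    simpa [Matrix.add_apply, Matrix.single_apply] using this

/-- a homomorphism of `SL₆` to a small group is trivial -/
theorem hom_trivial {Y : Type*} [Group Y] [Finite Y] (hY : Nat.card Y < Nat.card F ^ 4) (f : SL6 F →* Y) (g : SL6 F) :
    f g = 1 := by
  by_contra hg
  have hk := Cfsg.Agent.H321.Ker.ker_le_center (n := 6) (by norm_num) (ψ := f) ⟨g, hg⟩
  have hinj : Function.Injective (fun v : Fin 4 → F => f (uu v)) := by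
    intro v w hvw
    have h1 : uu v * (uu w)⁻¹ ∈ f.ker := by
      rw [MonoidHom.mem_ker, map_mul, map_inv]
      exact mul_inv_eq_one.2 hvw
    obtain ⟨c, -, hc⟩ := Matrix.SpecialLinearGroup.mem_center_iff.1 (hk h1)
    apply uu_inj (c := c)
    have h2 : (uu v : Matrix (Fin 6) (Fin 6) F) = ((uu v * (uu w)⁻¹ : SL6 F) : Matrix (Fin 6) (Fin 6) F) * (uu w).1 := by
      rw [← Matrix.SpecialLinearGroup.coe_mul, inv_mul_cancel_right]
    rw [h2, ← hc, Matrix.scalar_apply, ← Matrix.smul_one_eq_diagonal, Matrix.smul_mul, one_mul]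
  have h1 := Nat.card_le_card_of_injective _ hinj
  rw [Nat.card_fun, Nat.card_eq_fintype_card (α := Fin 4), Fintype.card_fin] at h1
  exact absurd h1 (not_le.2 hY)

theorem card_sl2 : Nat.card (SL2 F) < Nat.card F ^ 4 := by
  have : Fintype F := Fintype.ofFinite F
  have h1 : Nat.card (Matrix (Fin 2) (Fin 2) F) = Nat.card F ^ 4 := by
    show Nat.card (Fin 2 → Fin 2 → F) = _
    rw [Nat.card_fun, Nat.card_fun, Nat.card_eq_fintype_card (α := Fin 2), Fintype.card_fin, ← pow_mul]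
  rw [← h1]
  refine lt_of_le_of_ne (Nat.card_le_card_of_injective _ Subtype.val_injective) fun h2 => ?_
  have h3 : Function.Bijective (Subtype.val : SL2 F → Matrix (Fin 2) (Fin 2) F) :=
    (Nat.bijective_iff_injective_and_card _).2 ⟨Subtype.val_injective, h2⟩
  obtain ⟨g, hg⟩ := h3.2 0
  have h4 := g.2
  rw [show g.1 = 0 from hg, Matrix.det_zero] at h4
  exact zero_ne_one h4

/-! ### automorphisms -/

include hπ p h2 in
/-- **The automorphisms fixing `t0` preserve the image of `SL₆(F)`.** -/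
theorem map_mem {α : MulAut ↥(chevE6.group F)} (hα : α (t0 F) = t0 F) (u : SL6 F) : α (π u) ∈ π.range := by
  classical
  have hfin : Finite ↥(chevE6.group F) := inferInstance
  -- the hull `L * L_θ`
  let κ : SL6 F × SL2 F →* ↥(chevE6.group F) := MonoidHom.noncommCoprod π (pth F) (fun m n => pi_comm hπ m n)
  have hκ : κ.range = π.range ⊔ (pth F).range := MonoidHom.noncommCoprod_range _ _ _
  have hκa : ∀ x y, κ (x, y) = π x * pth F y := fun _ _ => rfl
  -- `α L` is perfect and centralises `t0`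
  let β : SL6 F →* ↥(chevE6.group F) := α.toMonoidHom.comp π
  have hβ : ∀ x, β x = α (π x) := fun _ => rfl
  have hJ : ⁅β.range, β.range⁆ = β.range := by
    rw [MonoidHom.range_eq_map, ← Subgroup.map_commutator, ← commutator_def,
      Cfsg.Agent.LieClassical.SLGen.commutator_eq_top (by rw [Fintype.card_fin]; norm_num)]
  have hJC : β.range ≤ centralizer {t0 F} := by
    rintro _ ⟨x, rfl⟩
    rw [mem_centralizer_singleton_iff, hβ]
    have h1 := congrArg α (t0_comm hπ x)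
    rw [map_mul, map_mul, hα] at h1
    exact h1.symm
  have ht2 : t0 F ^ 2 = 1 := by
    rw [← pi_z6 hπ, ← map_pow]
    have : z6 F ^ 2 = 1 := by
      apply Subtype.ext
      rw [Matrix.SpecialLinearGroup.coe_pow, coe_z6, neg_one_sq, Matrix.SpecialLinearGroup.coe_one]
    rw [this, map_one]
  have hM : β.range ≤ κ.range := by
    rw [hκ]
    exact (TorChev.perfect_le hp6 cs6 p t0_mem Nat.prime_two ht2 hJC hJ).trans (MM_le hπ p h2)
  -- the quotient
  let N : Subgroup κ.range := π.range.subgroupOf κ.range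
  have hN : N.Normal := by
    constructor
    rintro ⟨a, ha⟩ haN ⟨b, hb⟩
    rw [Subgroup.mem_subgroupOf] at haN ⊢
    obtain ⟨⟨x, y⟩, rfl⟩ := hb
    obtain ⟨z, hz⟩ := haN
    have hz' : π z = a := hz
    show κ (x, y) * a * (κ (x, y))⁻¹ ∈ π.range
    rw [← hz', hκa]
    have h1 : pth F y * π z = π z * pth F y := (pi_comm hπ z y).eq.symm
    refine ⟨x * z * x⁻¹, ?_⟩
    rw [map_mul, map_mul, map_inv]
    calc π x * π z * (π x)⁻¹ = π x * (π z * pth F y) * (pth F y)⁻¹ * (π x)⁻¹ := by group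
      _ = π x * (pth F y * π z) * (pth F y)⁻¹ * (π x)⁻¹ := by rw [h1]
      _ = _ := by group
  let q : SL6 F →* κ.range ⧸ N := (QuotientGroup.mk' N).comp
    (β.codRestrict κ.range fun x => hM ⟨x, rfl⟩)
  have hcard : Nat.card (κ.range ⧸ N) < Nat.card F ^ 4 := by
    refine lt_of_le_of_lt ?_ (card_sl2 (F := F))
    let s : SL2 F → κ.range ⧸ N := fun y => QuotientGroup.mk ⟨κ (1, y), ⟨(1, y), rfl⟩⟩
    have hs : Function.Surjective s := by
      intro x
      obtain ⟨⟨a, ha⟩, rfl⟩ := QuotientGroup.mk_surjective x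
      obtain ⟨⟨x, y⟩, rfl⟩ := ha
      refine ⟨y, ?_⟩
      rw [QuotientGroup.eq, Subgroup.mem_subgroupOf]
      show (κ (1, y))⁻¹ * κ (x, y) ∈ π.range
      refine ⟨x, ?_⟩
      rw [hκa, hκa, map_one, one_mul, (pi_comm hπ x y).eq, inv_mul_cancel_left]
    exact Nat.card_le_card_of_surjective s hs
  have h1 := hom_trivial hcard q u
  have h3 : (⟨β u, hM ⟨u, rfl⟩⟩ : κ.range) ∈ N := (QuotientGroup.eq_one_iff _).1 h1
  rw [Subgroup.mem_subgroupOf] at h3
  exact h3

/-- **T9, split.** -/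
theorem sixJ (hp2 : p ≠ 2) : SixJ ↥(chevE6.group F) (t0 F) := by
  have h2 : (2 : F) ≠ 0 := by
    intro h
    have h1 : ((2 : ℕ) : F) = 0 := by exact_mod_cast h
    rw [CharP.cast_eq_zero_iff F p] at h1
    exact hp2 ((Nat.prime_dvd_prime_iff_eq Fact.out Nat.prime_two).1 h1)
  obtain ⟨π, hπ, hker⟩ := exists_pi (F := F)
  have hE : CharP (H308.CA.Ex F) p := Cfsg.Agent.H206.CA.charP_ex.2 inferInstance
  refine ⟨p, Fact.out, hp2, H308.CA.Ex F, inferInstance, inferInstance, H308.CA.Good.lin F _ inferInstance, hE,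
    π.comp (Cfsg.Agent.H683.CA.toSL (ι := Fin 6) (F := F)).toMonoidHom, ?_, ?_, ?_, ?_⟩
  · intro u hu
    have h3 : Cfsg.Agent.H683.CA.toSL u ∈ center (SL6 F) := hker hu
    rw [mem_center_iff] at h3 ⊢
    intro g
    apply (Cfsg.Agent.H683.CA.toSL (ι := Fin 6) (F := F)).injective
    rw [map_mul, map_mul]
    exact h3 _
  · intro α hα u
    obtain ⟨v, hv⟩ := map_mem hπ p h2 hα (Cfsg.Agent.H683.CA.toSL u)
    refine ⟨(Cfsg.Agent.H683.CA.toSL (ι := Fin 6) (F := F)).symm v, ?_⟩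
    show α (π (Cfsg.Agent.H683.CA.toSL u)) = π (Cfsg.Agent.H683.CA.toSL (Cfsg.Agent.H683.CA.toSL.symm v))
    rw [MulEquiv.apply_symm_apply, hv]
  · intro u
    exact t0_comm hπ _
  · intro u hu
    have h3 : Cfsg.Agent.H683.CA.toSL u =
        Matrix.SpecialLinearGroup.diag2n (show (0 : Fin 6) ≠ 1 by decide) (-1) neg_ne := by
      apply Subtype.ext
      rw [Cfsg.Agent.H683.CA.coe_toSL, hu, Matrix.SpecialLinearGroup.diag2n_coe]
      ext i j
      show Cfsg.Agent.H683.CA.e1 (Matrix.diagonal _ i j) = _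
      by_cases hij : i = j
      · subst hij
        rw [Matrix.diagonal_apply_eq, Matrix.diagonal_apply_eq]
        (revert i; simp only [inv_neg, _root_.Fin.forall_fin_succ, _root_.Order.lt_two_iff, Fin.isValue, _root_.inv_one, _root_.Fin.coe_ofNat_eq_mod, _root_.Nat.zero_mod, _root_.zero_le, ↓reduceIte, _root_.map_neg, _root_.map_one, _root_.Fin.val_succ, _root_.add_le_iff_nonpos_left, _root_.nonpos_iff_eq_zero, _root_.Fin.val_eq_zero_iff, _root_.Fin.succ_ne_zero, _root_.Fin.succ_zero_eq_one, _root_.right_eq_ite_iff, _root_.Fin.succ_one_eq_two, Fin.reduceEq, _root_.IsEmpty.forall_iff, Fin.reduceSucc, _root_.and_self])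
      · rw [Matrix.diagonal_apply_ne _ hij, Matrix.diagonal_apply_ne _ hij, map_zero]
    have h4 : π (Cfsg.Agent.H683.CA.toSL u) = t1 F := by rw [h3, pi_t1 hπ]
    show IsConj (π (Cfsg.Agent.H683.CA.toSL u)) (t0 F) ∧ π (Cfsg.Agent.H683.CA.toSL u) ≠ t0 F
    rw [h4]
    refine ⟨isConj_t1_t0 p, fun h5 => ?_⟩
    have h6 := ch_sr (F := F) p 1
    rw [← h5, ← vec_simple hp6 1, ch_t1 (simple_lt hp6.inList (lt_rank hp6 1)), if_pos rfl,
      show chevE6.cartan 0 (chevE6.simple ((1 : Fin 6) : ℕ)) = 0 by decide +kernel, zpow_zero] at h6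
    apply h2
    linear_combination h6

end Cfsg.Agent.H518.Carter.SixSplit
end

private theorem dce_a3a1949b01b5 : _root_.True := by
  try have : _root_.True := by simp only [_root_.Cfsg.Agent.H518.Carter.SixSplit.rfw.eq_1]
  try have : _root_.True := by simp only [_root_.Cfsg.Agent.H518.Carter.SixSplit.z6.eq_1]
  try have : _root_.True := by simp only [_root_.Cfsg.Agent.H518.Carter.SixSplit.t0.eq_1]
  try have : _root_.True := by simp only [_root_.Cfsg.Agent.H607.Car.val.eq_1]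
  exact _root_.True.intro
end

-- part: H310/Car/InvZ
section
prune_inst 0x24303c040322000000180002a0003f729600009200488800c8200b400480ad222006a9203ce0111200208a5c203c0068135c0030420000000a000c00011d058118a81206e1c9a100600006800000400000000000000000000000000000000000200000000
set_option linter.all false
open scoped Cfsg.Agent.FastGrp

/-!
# T6: `InvZ` from `GoodSt` and `AutSt` (helper310, for S3852)
-/

set_option autoImplicit false
set_option linter.unusedSectionVars false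

namespace Cfsg.Agent.H310.E6

open CoxeterSystem Subgroup Cfsg Cfsg.Lie Cfsg.Lie.ChevalleyDatum
open Cfsg.Agent.ChevalleyStructure Cfsg.Agent.ChevalleyStructure.Elts Cfsg.Agent.ChevalleyStructure.CoxeterGeom
  Cfsg.Agent.ChevalleyStructure.CoxeterGeomTypes Cfsg.Agent.ChevalleyStructure.NPerm
open Cfsg.Agent.Tits.Roots Cfsg.Agent.Tits.Core Cfsg.Agent.Nodes Cfsg.Agent.Nodes.Reps Cfsg.Agent.Nodes.BNOf
  Cfsg.Agent.Nodes.RGDChev Cfsg.Agent.Nodes.Bruhat
open Cfsg.Agent.KFacts.RgdField Cfsg.Agent.KFacts.RgdChevCoord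
open Cfsg.Agent.BpExc Cfsg.Agent.BpExc.TorCent Cfsg.Agent.BpExc.TorChev Cfsg.Agent.BpExc.Tow
open Cfsg.Agent.BpExc.TowChev Cfsg.Agent.BpExc.Fr Cfsg.Agent.BpExc.LangFr
open Cfsg.Agent.BpExc.FamUntw Cfsg.Agent.Nodes.Coroot Cfsg.Agent.Nodes.SubComb Cfsg.Agent.Tits.RootComb
open Cfsg.Agent.BpExc.FamInst
open Cfsg.Agent.H696.GmnToral Cfsg.Agent.H696.GmnTor Cfsg.Agent.H720.TwFr Cfsg.Agent.H607.Car

section

variable {r : ℕ} [Fact r.Prime]

/-- the field automorphisms act on the torus by powers -/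
theorem phi_T (j : ℕ) {t : Yb r} (ht : t ∈ Tb r) : phi chevE6 (Kb r) r j t = t ^ r ^ j := by
  have hk : LocFin (Kb r) := locFin_of_isAlgebraic r _
  have hZ : center (Yb r) = ⊥ := Cfsg.Agent.H696.GmnUntw.center_eq_bot_of_simple (S1054.result chevE6 (by simp))
  have F : Fr cs6 hp6.isCartan (TT chevE6 (Kb r)) (XX chevE6 6 (Kb r)) (phi chevE6 (Kb r) r j) (AddEquiv.refl _) :=
    phi_fr hp6 cs6 r hk j
  refine ext_TT hp6 cs6 hk r hZ ((F.tor t).2 ht) (pow_mem ht _) fun a ha => ?_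
  have h1 := fr_ch hp6 cs6 hk (phi_isFrob (D := chevE6) (k := Kb r) (r := r) j) F ha ht
  rw [ch_pow hp6 cs6 hk r ha ht]
  exact h1

/-- a torus element with given characters -/
theorem exists_sign (m : Fin 6 → ℤ) : ∃ a0 ∈ Tb r, ∀ a, IsRoot cs6 hp6.isCartan a →
    ch hp6 a a0 = (-1 : Kb r) ^ (val m a) := by
  obtain ⟨t, ht, htc⟩ := exists_tt (k := Kb r) hp6 cs6 H129.TorusChar.invC_E6 (by norm_num)
    (fun i => (-1 : Kb r) ^ m i) (fun i => zpow_ne_zero _ (neg_ne_zero.2 one_ne_zero))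
  refine ⟨t, ht, fun a ha => ?_⟩
  rw [htc a ha, val]
  have h1 : ∀ s : Finset (Fin 6), ∏ i ∈ s, ((-1 : Kb r) ^ m i) ^ a i = (-1 : Kb r) ^ (∑ i ∈ s, a i • m i) := by
    intro s
    classical
    induction s using Finset.induction_on with
    | empty => simp
    | insert i s hi ih =>
      rw [Finset.prod_insert hi, Finset.sum_insert hi, ih, zpow_add₀ (neg_ne_zero.2 one_ne_zero), ← zpow_mul,
        smul_eq_mul, mul_comm (m i)]
  exact h1 _

variable {n : ℕ} {ε : ℤ} {X : Type} [Group X] {ι : X →* Yb r} {σ : MulAut (Yb r)}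

/-- the element `u` with `u (t ^ r ^ j) u⁻¹ = t` centralises `a0` -/
theorem comm_a0 (hι : Function.Injective ι) {z : X} {v t : Yb r} {m : Fin 6 → ℤ} (g : GoodAt r n ε ι σ z v t m)
    (hrig : Rigid z) {a0 : Yb r} (ha0 : a0 ∈ Tb r)
    (hch : ∀ a, IsRoot cs6 hp6.isCartan a → ch hp6 a a0 = (-1 : Kb r) ^ (val m a)) {u : Yb r} {k : ℕ}
    (hu : u * t ^ k * u⁻¹ = t) : u * a0 * u⁻¹ = a0 := by
  have hfin : Finite W6 := finite_W hp6 cs6
  have hk : LocFin (Kb r) := locFin_of_isAlgebraic r _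
  have hTL : TL (Tj hp6 (k := Kb r)) = Tb r := TL_eq hp6 hk
  have hXL : XL (Xj hp6 (k := Kb r)) = XX chevE6 6 (Kb r) := XL_eq hp6 hk
  have C : Coords cs6 hp6.isCartan (TL (Tj hp6 (k := Kb r))) (nc hp6 (Kb r)) (XL (Xj hp6 (k := Kb r))) (xc hp6)
      (ch hp6) := by
    rw [hTL, hXL]; exact coordsL hp6 cs6 hk r
  have ht' : t ∈ TL (Tj hp6 (k := Kb r)) := by rw [hTL]; exact g.mem
  obtain ⟨c, hc, w, b, hb, hbt, rfl⟩ := Fr.exists_form (tow hp6 cs6 hk r (k := Kb r)) C (pow_mem ht' k) ht' (c := u)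
    (by rw [GG_eq_top hp6 cs6 hk]; exact Subgroup.mem_top _) (mul_inv_eq_iff_eq_mul.1 hu)
  -- the element of `X`
  obtain ⟨x, hx⟩ := g.rep w
  have hTk : t ^ k ∈ Tb r := pow_mem g.mem k
  have h1 : (v⁻¹ * ι x * v) * t ^ k * (v⁻¹ * ι x * v)⁻¹ = t := by
    have h2 := hb.unique hx
    rw [hTL] at h2
    have h3 : v⁻¹ * ι x * v = b * (b⁻¹ * (v⁻¹ * ι x * v)) := by group
    obtain ⟨s, hs⟩ : ∃ s, s = b⁻¹ * (v⁻¹ * ι x * v) := ⟨_, rfl⟩
    rw [← hs] at h2 h3
    rw [h3]
    have h4 : s * t ^ k = t ^ k * s := Tb_comm h2 hTk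
    calc b * s * t ^ k * (b * s)⁻¹ = b * (s * t ^ k) * s⁻¹ * b⁻¹ := by group
      _ = b * t ^ k * b⁻¹ := by rw [h4]; group
      _ = t := by rw [hbt]; group
  have h2 : x * z ^ k * x⁻¹ = z := by
    apply hι
    rw [map_mul, map_mul, map_inv, map_pow, g.eq, conj_pow]
    calc ι x * (v * t ^ k * v⁻¹) * (ι x)⁻¹ = v * ((v⁻¹ * ι x * v) * t ^ k * (v⁻¹ * ι x * v)⁻¹) * v⁻¹ := by group
      _ = _ := by rw [h1]
  have h3 : x⁻¹ * z * x⁻¹⁻¹ = z ^ k := by
    rw [inv_inv]
    calc x⁻¹ * z * x = x⁻¹ * (x * z ^ k * x⁻¹) * x := by rw [h2]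
      _ = z ^ k := by group
  have h4 := hrig x⁻¹ (by rw [h3]; exact pow_mem (mem_zpowers z) k)
  rw [h3] at h4
  have h5 : t ^ k = t := by
    have h6 := congrArg ι h4
    rw [map_pow, g.eq, conj_pow] at h6
    exact mul_left_cancel (mul_right_cancel h6)
  rw [h5] at hbt
  -- the action on `a0`
  have hbt' : b * t * b⁻¹ = t := by rw [hbt]; group
  have h6 : ∀ a, IsRoot cs6 hp6.isCartan a → ch hp6 (rp w a) t = ch hp6 a t := by
    intro a ha
    have h7 := C.chi_rp _ hb ha (t := t) ht'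
    rwa [hbt'] at h7
  have hF := g.fixm w h6
  have h7 : b * a0 * b⁻¹ = a0 := by
    refine comm_of_fix ha0 hb fun a ha => ?_
    have h8 : IsRoot cs6 hp6.isCartan (rp w a) := ha.act w
    rw [hch _ h8, hch _ ha, hF a]
  have h8 : c * a0 = a0 * c := by
    have h9 : MM cs6 hp6.isCartan (XL (Xj hp6 (k := Kb r))) (ch hp6) t ≤ Subgroup.centralizer {a0} := by
      refine RGD.Sup_le fun a ha => ?_
      refine X_le_centralizer C (x := a0) (by rw [hTL]; exact ha0) ⟨ha.1, ?_⟩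
      rw [hch a ha.1, (g.ker a ha.1).1 ha.2, zpow_zero]
    exact mem_centralizer_singleton_iff.1 (h9 hc)
  calc c * b * a0 * (c * b)⁻¹ = c * (b * a0 * b⁻¹) * c⁻¹ := by group
    _ = c * a0 * c⁻¹ := by rw [h7]
    _ = a0 := by rw [h8]; group

/-- **T6** -/
theorem invZ (h : Six r n ε ι σ) (hr2 : r ≠ 2) (hG : GoodSt r n ε ι σ) (hA : AutSt r ι) : InvZ r X := by
  intro z hz hz2 hzr hrig
  obtain ⟨v, t, m, g⟩ := hG z hz hz2 hzr hrig
  have hk : LocFin (Kb r) := locFin_of_isAlgebraic r _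
  have hZ : center (Yb r) = ⊥ := Cfsg.Agent.H696.GmnUntw.center_eq_bot_of_simple (S1054.result chevE6 (by simp))
  obtain ⟨a0, ha0, hch⟩ := exists_sign (r := r) m
  have h2 : (2 : Kb r) ≠ 0 := by
    intro h2
    have h3 : ((2 : ℕ) : Kb r) = 0 := by exact_mod_cast h2
    have h4 := (CharP.cast_eq_zero_iff (Kb r) r 2).1 h3
    exact hr2 ((Nat.prime_dvd_prime_iff_eq (Fact.out : r.Prime) Nat.prime_two).1 h4)
  have hsq : a0 * a0 = 1 := by
    refine eq_one_TT hp6 cs6 hk r hZ (mul_mem ha0 ha0) fun a ha => ?_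
    rw [ch_mul hp6 cs6 hk r ha ha0 ha0, hch a ha, ← mul_zpow]
    norm_num
  have hne : a0 ≠ 1 := by
    intro h1
    obtain ⟨i, hi⟩ := g.odd
    have h3 := hch (sr i) (isRoot_sr cs6 hp6.isCartan i)
    have h4 : val m (sr i) = m i := by
      unfold val
      rw [Finset.sum_eq_single i]
      · rw [sr_self, one_smul]
      · intro j _ hj
        rw [sr_ne hj, zero_smul]
      · intro h; exact absurd (Finset.mem_univ _) h
    rw [h4, h1, ch_one hp6 cs6 hk r (isRoot_sr cs6 hp6.isCartan i), hi.neg_one_zpow] at h3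
    apply h2
    linear_combination h3
  have hpow : ∀ k : ℕ, Odd k → a0 ^ k = a0 := by
    rintro k ⟨c, rfl⟩
    rw [pow_succ, pow_mul, pow_two, hsq, one_pow, one_mul]
  have hrodd : Odd r := (Fact.out : r.Prime).odd_of_ne_two hr2
  -- `a` is fixed by `σ`
  have hfix : σ (v * a0 * v⁻¹) = v * a0 * v⁻¹ := by
    rw [g.act a0 ha0]
    have h3 : a0 ^ (ε * (r : ℤ) ^ n) = a0 := by
      have h4 : a0 ^ ((r : ℤ) ^ n) = a0 := by
        have h5 := hpow (r ^ n) hrodd.pow
        rw [← zpow_natCast] at h5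
        push_cast at h5
        exact h5
      rcases h.eps with h5 | h5 <;> rw [h5, mul_comm, zpow_mul, h4]
      · rw [zpow_one]
      · rw [zpow_neg, zpow_one]
        exact inv_eq_of_mul_eq_one_left hsq
    rw [h3]
  obtain ⟨x0, hx0⟩ := h.desc _ hfix
  have hodd3 : Odd (Int.gcd 3 ((r : ℤ) ^ n - ε)) := by
    have h3 : Int.gcd 3 ((r : ℤ) ^ n - ε) ∣ 3 := by
      have h4 := Int.gcd_dvd_left (3 : ℤ) ((r : ℤ) ^ n - ε)
      exact_mod_cast h4
    rcases (Nat.dvd_prime Nat.prime_three).1 h3 with h4 | h4 <;> rw [h4] <;> decide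
  rw [conj_pow, hpow _ hodd3] at hx0
  refine ⟨x0, ?_, ?_⟩
  · apply orderOf_eq_prime
    · apply h.inj
      rw [map_pow, hx0, conj_pow, pow_two, hsq, map_one]
      group
    · intro h3
      rw [h3, map_one] at hx0
      apply hne
      calc a0 = v⁻¹ * (v * a0 * v⁻¹) * v := by group
        _ = 1 := by rw [← hx0]; group
  · intro α hα hαz
    obtain ⟨s, j, hs⟩ := hA α hα
    apply h.inj
    have h3 := hs z
    rw [hαz, g.eq, map_mul, map_mul, map_inv, phi_T j g.mem] at h3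
    obtain ⟨u, hu⟩ : ∃ u, u = v⁻¹ * s * phi chevE6 (Kb r) r j v := ⟨_, rfl⟩
    have h4 : u * t ^ r ^ j * u⁻¹ = t := by
      rw [hu]
      calc v⁻¹ * s * phi chevE6 (Kb r) r j v * t ^ r ^ j * (v⁻¹ * s * phi chevE6 (Kb r) r j v)⁻¹
          = v⁻¹ * (s * (phi chevE6 (Kb r) r j v * t ^ r ^ j * (phi chevE6 (Kb r) r j v)⁻¹) * s⁻¹) * v := by group
        _ = t := by rw [← h3]; group
    have h5 := comm_a0 h.inj g hrig ha0 hch h4
    rw [hs, hx0, map_mul, map_mul, map_inv, phi_T j ha0, hpow _ hrodd.pow]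
    calc s * (phi chevE6 (Kb r) r j v * a0 * (phi chevE6 (Kb r) r j v)⁻¹) * s⁻¹
        = v * (u * a0 * u⁻¹) * v⁻¹ := by rw [hu]; group
      _ = v * a0 * v⁻¹ := by rw [h5]

end

end Cfsg.Agent.H310.E6
end

-- part: H518/Carter/SixT0
section
set_option linter.all false
open scoped Cfsg.Agent.FastGrp

/-!
# `t0` in common form, split case (helper518, S3852, T9)
-/

set_option autoImplicit false
set_option linter.unusedSectionVars false

namespace Cfsg.Agent.H518.Carter.SixSplit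

open CoxeterSystem Subgroup Cfsg Cfsg.Lie Cfsg.Lie.ChevalleyDatum
open Cfsg.Agent.ChevalleyStructure Cfsg.Agent.ChevalleyStructure.Elts Cfsg.Agent.ChevalleyStructure.CoxeterGeom
  Cfsg.Agent.ChevalleyStructure.CoxeterGeomTypes Cfsg.Agent.ChevalleyStructure.NPerm
open Cfsg.Agent.Tits.Roots Cfsg.Agent.Tits.Core Cfsg.Agent.Nodes Cfsg.Agent.Nodes.Reps Cfsg.Agent.Nodes.BNOf
  Cfsg.Agent.Nodes.RGDChev Cfsg.Agent.Nodes.Bruhat
open Cfsg.Agent.KFacts.RgdField Cfsg.Agent.KFacts.RgdChevCoord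
open Cfsg.Agent.BpExc Cfsg.Agent.BpExc.TorCent Cfsg.Agent.BpExc.TorChev Cfsg.Agent.BpExc.TowChev
open Cfsg.Agent.H720.TwFr Cfsg.Agent.GpExc.Field
open Cfsg.Agent.H607.Car

variable {F : Type} [Field F] [Finite F]

/-- `t0` has order two -/
theorem orderOf_t0 (p : ℕ) [Fact p.Prime] [CharP F p] (hp2 : p ≠ 2) : orderOf (t0 F) = 2 := by
  have : Fact (Nat.Prime 2) := ⟨Nat.prime_two⟩
  obtain ⟨π, hπ, -⟩ := exists_pi (F := F)
  apply orderOf_eq_prime
  · rw [← pi_z6 hπ, ← map_pow]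
    have : z6 F ^ 2 = 1 := by
      apply Subtype.ext
      rw [Matrix.SpecialLinearGroup.coe_pow, coe_z6, neg_one_sq, Matrix.SpecialLinearGroup.coe_one]
    rw [this, map_one]
  · intro h
    have h6 := ch_sr (F := F) p 1
    have C := (coords (K := F) hp6 cs6 p).coord _ (isRoot_sr cs6 hp6.isCartan 1)
    have h3 := C.chi_mul (one_mem (TT chevE6 F)) (one_mem _)
    rw [mul_one] at h3
    have h4 : ch hp6 (sr 1) (1 : ↥(chevE6.group F)) = 1 := (mul_eq_left₀ (C.chi_ne_zero (one_mem _))).1 h3.symm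
    rw [h, h4, if_pos rfl] at h6
    have h2 : ((2 : ℕ) : F) = 0 := by push_cast; linear_combination h6
    rw [CharP.cast_eq_zero_iff F p] at h2
    exact hp2 ((Nat.prime_dvd_prime_iff_eq Fact.out Nat.prime_two).1 h2)

end Cfsg.Agent.H518.Carter.SixSplit
end

-- part: H460/Car/TwoD
section
prune_inst 0x42038040000000000000012800023004c00019000208801d9a00f420006f7220002a9004c801d0210222208000000081000007000000000000004000001000098aa500473810104660007803007580c00000000000000000000000000041000000000000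
set_option linter.all false
open scoped Cfsg.Agent.FastGrp

-- part: H460/Car/Sol
section
/-!
# Gate systems and odd normal subgroups: the far involution (helper460, S3852)

`H` is a finite group whose Sylow `2`-subgroups form a chamber system with gates, `X` a normal nilpotent subgroup of odd
order, transitive on the chambers and such that `C_a(X) = 1`. Then a Sylow `2`-subgroup `a ≠ 1` contains exactly one
involution `e` with `C_X(e) = C_X(a)`.
-/

set_option autoImplicit false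
set_option linter.unusedSectionVars false

namespace Cfsg.Agent.H460.Car.Sol

open Cfsg.Agent.FixBN.Gates Cfsg.Agent.BpGate
open scoped Pointwise commutatorElement

variable {H : Type*} [Group H] {Pa : Set (Set (Sylow 2 H))} {d : Sylow 2 H → Sylow 2 H → ℕ}

/-- the intersection of the chambers of a panel -/
def Kr (S : Set (Sylow 2 H)) : Subgroup H := ⨅ e : S, ((e : Sylow 2 H) : Subgroup H)

theorem mem_Kr {S : Set (Sylow 2 H)} {u : H} : u ∈ Kr S ↔ ∀ e ∈ S, u ∈ e := by
  unfold Kr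
  rw [Subgroup.mem_iInf]
  exact ⟨fun h e he => h ⟨e, he⟩, fun h e => h e.1 e.2⟩

theorem Kr_le {S : Set (Sylow 2 H)} {a : Sylow 2 H} (ha : a ∈ S) : Kr S ≤ a := fun _ hu => mem_Kr.1 hu a ha

theorem mem_iff_Kr (hG : GSys Pa d) {S : Set (Sylow 2 H)} (hS : S ∈ Pa) {b : Sylow 2 H} : b ∈ S ↔ Kr S ≤ b := by
  constructor
  · exact fun hb => Kr_le hb
  · intro hb
    obtain ⟨K, hK⟩ := hG.ker S hS
    rw [hK]
    refine le_trans (fun u hu => mem_Kr.2 fun e he => (hK e).1 he hu) hb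

theorem mem_Kr_smul {S : Set (Sylow 2 H)} {g u : H} : u ∈ Kr (g • S) ↔ g⁻¹ * u * g ∈ Kr S := by
  rw [mem_Kr, mem_Kr]
  constructor
  · intro h e he
    exact mem_smul_iff.1 (h (g • e) (Set.smul_mem_smul_set he))
  · rintro h _ ⟨e, he, rfl⟩
    exact mem_smul_iff.2 (h e he)

section Basic

variable {X : Subgroup H} [hX : X.Normal] {a : Sylow 2 H} {S S' : Set (Sylow 2 H)}

include hX in
theorem smul_mem_iff (hG : GSys Pa d) (hd : ∀ b : Sylow 2 H, Disjoint X (b : Subgroup H)) (hS : S ∈ Pa) (ha : a ∈ S)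
    {x : H} (hx : x ∈ X) : x • a ∈ S ↔ x ∈ Subgroup.centralizer (Kr S : Set H) := by
  constructor
  · intro h k hk
    have h1 := comm_of_mem hd hx (Kr_le ha hk) (Kr_le h hk)
    exact h1.symm
  · intro h
    rw [mem_iff_Kr hG hS]
    intro k hk
    have h1 := h k hk
    show k ∈ (x • a : Sylow 2 H)
    rw [mem_smul_iff]
    have e1 : x⁻¹ * k * x = k := by
      rw [mul_assoc, h1]; group
    rw [e1]
    exact Kr_le ha hk

include hX in
/-- elements of `a` fixing a chamber `≠ a` of `S` lie in `Kr S` -/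
theorem mem_Kr_of (hI : BpGate.Inter Pa) (hS : S ∈ Pa) (ha : a ∈ S) {x : H} (hxS : x • a ∈ S) (hne : x • a ≠ a) {u : H}
    (hu : u ∈ a) (hux : u * x = x * u) : u ∈ Kr S := by
  have h1 : u ∈ (x • a : Sylow 2 H) := by
    rw [mem_smul_iff]
    have e1 : x⁻¹ * u * x = u := by rw [mul_assoc, hux]; group
    rw [e1]
    exact hu
  exact mem_Kr.2 fun e he => hI S hS a ha (x • a) hxS (Ne.symm hne) u hu h1 e he

include hX in
/-- two panels at `a` have only the chamber `a` in common -/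
theorem panel_eq (hG : GSys Pa d) (hI : BpGate.Inter Pa) (hS : S ∈ Pa) (hS' : S' ∈ Pa) (ha : a ∈ S) (ha' : a ∈ S')
    {b : Sylow 2 H} (hb : b ∈ S) (hb' : b ∈ S') (hne : b ≠ a) : S = S' := by
  have key : ∀ T ∈ Pa, a ∈ T → b ∈ T → Kr T = (a : Subgroup H) ⊓ b := by
    intro T hT h1 h2
    apply le_antisymm (le_inf (Kr_le h1) (Kr_le h2))
    rintro u ⟨hu, hu'⟩
    exact mem_Kr.2 fun e he => hI T hT a h1 b h2 (Ne.symm hne) u hu hu' e he
  ext e
  rw [mem_iff_Kr hG hS, mem_iff_Kr hG hS', key S hS ha hb, key S' hS' ha' hb']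

include hX in
/-- **The covering lemma.** -/
theorem cover (hG : GSys Pa d) (hI : BpGate.Inter Pa) (hd : ∀ b : Sylow 2 H, Disjoint X (b : Subgroup H))
    (htr : ∀ b : Sylow 2 H, ∃ x ∈ X, x • a = b) (hS : S ∈ Pa) (ha : a ∈ S) {v : H} (hv : v ∈ X) {w : H}
    (hw : w ∈ a) : ∃ u ∈ a, w⁻¹ * u ∈ Kr S ∧ v⁻¹ * (u * v * u⁻¹) ∈ X ∧
      v⁻¹ * (u * v * u⁻¹) ∈ Subgroup.centralizer (Kr S : Set H) := by
  obtain ⟨c, hc, hg⟩ := hG.gate (v • S) (hG.smul S hS v) a
  obtain ⟨g, hgX, rfl⟩ := htr c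
  have hy : (v⁻¹ * g) • a ∈ S := by
    rw [mul_smul, ← Set.mem_smul_set_iff_inv_smul_mem]
    exact hc
  have hyX : v⁻¹ * g ∈ X := mul_mem (inv_mem hv) hgX
  have hyc := (smul_mem_iff hG hd hS ha hyX).1 hy
  obtain ⟨b0, hb0, hb0a, -⟩ := hG.three S hS a ha a ha
  obtain ⟨z, hz, rfl⟩ := htr b0
  have hzc := (smul_mem_iff hG hd hS ha hz).1 hb0
  have hwS : w • S = S := hG.self S hS a ha w hw
  have hwa : w⁻¹ • a = a := inv_smul_self hw
  have hz'e : (w * z * w⁻¹) • a = w • (z • a) := by rw [mul_smul, mul_smul, hwa]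
  have hz'S : (w * z * w⁻¹) • a ∈ S := by
    rw [hz'e, ← hwS]
    exact Set.smul_mem_smul_set hb0
  have hz'X : w * z * w⁻¹ ∈ X := hX.conj_mem z hz w
  have hz'c := (smul_mem_iff hG hd hS ha hz'X).1 hz'S
  have hmem : ∀ t ∈ X, t ∈ Subgroup.centralizer (Kr S : Set H) → g • (t • a) ∈ v • S := by
    intro t ht htc
    rw [Set.mem_smul_set_iff_inv_smul_mem, ← mul_smul, ← mul_smul,
      smul_mem_iff hG hd hS ha (mul_mem hyX ht)]
    exact mul_mem hyc htc
  have hb1 := hmem z hz hzc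
  have hb2 := hmem _ hz'X hz'c
  have hne1 : g • (z • a) ≠ g • a := fun h => hb0a (smul_left_cancel g h)
  have hne2 : g • ((w * z * w⁻¹) • a) ≠ g • a := fun h => by
    have h1 := smul_left_cancel g h
    rw [hz'e] at h1
    apply hb0a
    have h2 : z • a = w⁻¹ • a := by
      conv_rhs => rw [← h1]
      rw [inv_smul_smul]
    rw [h2, hwa]
  obtain ⟨u, hu, huS, hub⟩ := hg.tr _ hb1 _ hb2 hne1 hne2
  have huc : u ∈ (g • a : Sylow 2 H) := mem_of_smul_eq hu (hg.fix u hu huS)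
  have hgu : g * u = u * g := comm_of_mem hd hgX hu huc
  have hua : u • a = a := smul_self hu
  refine ⟨u, hu, ?_, ?_, ?_⟩
  · have h1 : u • (z • a) = (w * z * w⁻¹) • a := by
      apply smul_left_cancel g
      rw [← hub, ← mul_smul, hgu, mul_smul]
    have h2 : (w⁻¹ * u) • (z • a) = z • a := by
      rw [mul_smul, h1, hz'e, inv_smul_smul]
    have h3 : w⁻¹ * u ∈ a := mul_mem (inv_mem hw) hu
    have h4 : w⁻¹ * u ∈ (z • a : Sylow 2 H) := mem_of_smul_eq h3 h2
    exact mem_Kr.2 fun e he => hI S hS a ha (z • a) hb0 (Ne.symm hb0a) _ h3 h4 e he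
  · exact mul_mem (inv_mem hv) (hX.conj_mem v hv u)
  · have h1 : v⁻¹ * (u * v * u⁻¹) ∈ X := mul_mem (inv_mem hv) (hX.conj_mem v hv u)
    rw [← smul_mem_iff hG hd hS ha h1]
    have h2 : (v⁻¹ * (u * v * u⁻¹)) • a = v⁻¹ • (u • (v • a)) := by
      rw [mul_smul, mul_smul, mul_smul, inv_smul_self hu]
    rw [h2, ← Set.mem_smul_set_iff_inv_smul_mem, ← huS]
    exact Set.smul_mem_smul_set (Set.smul_mem_smul_set ha)

include hX in
/-- `a = Kr S * Kr S'` for two panels at `a` -/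
theorem Kr_mul (hG : GSys Pa d) (hI : BpGate.Inter Pa) (hd : ∀ b : Sylow 2 H, Disjoint X (b : Subgroup H))
    (htr : ∀ b : Sylow 2 H, ∃ x ∈ X, x • a = b) (hS : S ∈ Pa) (hS' : S' ∈ Pa) (ha : a ∈ S) (ha' : a ∈ S')
    (hne : S ≠ S') {w : H} (hw : w ∈ a) : ∃ u ∈ Kr S, w⁻¹ * u ∈ Kr S' := by
  obtain ⟨b0, hb0, hb0a, -⟩ := hG.three S hS a ha a ha
  obtain ⟨z, hz, rfl⟩ := htr b0
  obtain ⟨u, hu, h1, h2, h3⟩ := cover hG hI hd htr hS' ha' hz hw
  refine ⟨u, ?_, h1⟩
  have h4 := (smul_mem_iff hG hd hS' ha' h2).2 h3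
  have hua : u⁻¹ • a = a := inv_smul_self hu
  have huS : u • S = S := hG.self S hS a ha u hu
  have h5 : (u * z * u⁻¹) • a ∈ S := by
    rw [mul_smul, mul_smul, hua, ← huS]
    exact Set.smul_mem_smul_set hb0
  have h6 : (z⁻¹ * (u * z * u⁻¹)) • a ∈ S := by
    rw [smul_mem_iff hG hd hS ha h2]
    exact mul_mem (inv_mem ((smul_mem_iff hG hd hS ha hz).1 hb0))
      ((smul_mem_iff hG hd hS ha (hX.conj_mem z hz u)).1 h5)
  have h7 : (z⁻¹ * (u * z * u⁻¹)) • a = a := by
    by_contra h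
    exact hne (panel_eq (X := X) hG hI hS hS' ha ha' h6 h4 h)
  have h8 : u • (z • a) = z • a := by
    have h9 : (u * z * u⁻¹) • a = z • a := by
      have e1 : u * z * u⁻¹ = z * (z⁻¹ * (u * z * u⁻¹)) := by group
      rw [e1, mul_smul, h7]
    rw [mul_smul, mul_smul, hua] at h9
    exact h9
  have h9 : u ∈ (z • a : Sylow 2 H) := mem_of_smul_eq hu h8
  exact mem_Kr.2 fun e he => hI S hS a ha (z • a) hb0 (Ne.symm hb0a) _ hu h9 e he

end Basic

/-! ### the action on `X / X'` -/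

section Ab

variable {X : Subgroup H} [hX : X.Normal]

/-- the action of `h` on the abelianization of `X` -/
noncomputable def A (X : Subgroup H) [X.Normal] (h : H) : Abelianization X →* Abelianization X :=
  Abelianization.map (MulAut.conjNormal h : MulAut X).toMonoidHom

theorem A_of (h : H) (x : X) : A X h (Abelianization.of x) = Abelianization.of (MulAut.conjNormal h x) := rfl

theorem A_mul (g h : H) (v : Abelianization X) : A X (g * h) v = A X g (A X h v) := by
  induction v using QuotientGroup.induction_on with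
  | H x =>
    change A X (g * h) (Abelianization.of x) = A X g (A X h (Abelianization.of x))
    rw [A_of, A_of, A_of, map_mul, MulAut.mul_apply]

theorem A_one (v : Abelianization X) : A X 1 v = v := by
  induction v using QuotientGroup.induction_on with
  | H x =>
    change A X 1 (Abelianization.of x) = Abelianization.of x
    rw [A_of, map_one, MulAut.one_apply]

theorem A_of_comm {h : H} {x : X} (hx : h * x = x * h) : A X h (Abelianization.of x) = Abelianization.of x := by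
  rw [A_of]
  congr 1
  apply Subtype.ext
  rw [MulAut.conjNormal_apply, hx]
  group

/-- the norm -/
noncomputable def N (X : Subgroup H) [X.Normal] (K : Subgroup H) [Fintype K] (v : Abelianization X) :
    Abelianization X := ∏ k : K, A X (k : H) v

variable {K : Subgroup H} [Fintype K]

theorem N_mul (v w : Abelianization X) : N X K (v * w) = N X K v * N X K w := by
  unfold N
  rw [← Finset.prod_mul_distrib]
  exact Finset.prod_congr rfl fun k _ => map_mul _ _ _

theorem N_one : N X K 1 = 1 := by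
  unfold N
  exact Finset.prod_eq_one fun k _ => map_one _

theorem N_prod {ι : Type*} (s : Finset ι) (f : ι → Abelianization X) :
    N X K (∏ i ∈ s, f i) = ∏ i ∈ s, N X K (f i) := by
  classical
  induction s using Finset.induction_on with
  | empty => rw [Finset.prod_empty, Finset.prod_empty, N_one]
  | insert i s hi ih => rw [Finset.prod_insert hi, Finset.prod_insert hi, N_mul, ih]

theorem N_fix {k : H} (hk : k ∈ K) (v : Abelianization X) : A X k (N X K v) = N X K v := by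
  unfold N
  rw [map_prod]
  refine Fintype.prod_equiv (Equiv.mulLeft (⟨k, hk⟩ : K)) _ _ fun x => ?_
  rw [← A_mul]
  rfl

theorem N_conj {u : H} (hu : u ∈ Subgroup.normalizer (K : Set H)) (v : Abelianization X) :
    A X u (N X K v) = N X K (A X u v) := by
  unfold N
  rw [map_prod]
  have hm : ∀ k : K, u * (k : H) * u⁻¹ ∈ K := fun k => (Subgroup.mem_normalizer_iff.1 hu k).1 k.2
  have hm' : ∀ k : K, u⁻¹ * (k : H) * u ∈ K := fun k => by
    have := (Subgroup.mem_normalizer_iff.1 (inv_mem hu) k).1 k.2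
    rwa [inv_inv] at this
  refine Fintype.prod_equiv (⟨fun k => ⟨_, hm k⟩, fun k => ⟨_, hm' k⟩, fun k => ?_, fun k => ?_⟩ : K ≃ K) _ _
    fun x => ?_
  · apply Subtype.ext
    show u⁻¹ * (u * (k : H) * u⁻¹) * u = k
    group
  · apply Subtype.ext
    show u * (u⁻¹ * (k : H) * u) * u⁻¹ = k
    group
  · show A X u (A X x v) = A X (u * (x : H) * u⁻¹) (A X u v)
    rw [← A_mul, ← A_mul]
    congr 1
    group

theorem N_pow {v : Abelianization X} (h : ∀ k ∈ K, A X k v = v) : N X K v = v ^ Fintype.card K := by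
  unfold N
  have h1 : ∀ k : K, A X (k : H) v = v := fun k => h k k.2
  rw [Finset.prod_congr rfl (fun k _ => h1 k), Finset.prod_const, Finset.card_univ]

theorem odd_ab [Finite H] (ho : Odd (Nat.card X)) {v : Abelianization X} {m : ℕ} (hv : v ^ 2 ^ m = 1) : v = 1 := by
  have h1 : orderOf v ∣ 2 ^ m := orderOf_dvd_of_pow_eq_one hv
  have h2 : orderOf v ∣ Nat.card X := by
    refine (orderOf_dvd_natCard v).trans ?_
    exact Subgroup.card_quotient_dvd_card _
  have h3 : Nat.Coprime (2 ^ m) (Nat.card X) := Nat.Coprime.pow_left m (Nat.coprime_two_left.2 ho)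
  exact orderOf_eq_one_iff.1 (Nat.eq_one_of_dvd_coprimes h3 h1 h2)

/-- if `u` moves `v` by a fixed element then `u` fixes `v` -/
theorem fix_of_fix [Finite H] (ho : Odd (Nat.card X)) {u : H} {m : ℕ} (hu : u ^ 2 ^ m = 1) {v c : Abelianization X}
    (h : A X u v = v * c) (hc : A X u c = c) : A X u v = v := by
  have key : ∀ n : ℕ, A X (u ^ n) v = v * c ^ n := by
    intro n
    induction n with
    | zero => rw [pow_zero, pow_zero, A_one, mul_one]
    | succ n ih =>
      rw [pow_succ', A_mul, ih, map_mul, map_pow, h, hc, pow_succ', mul_assoc]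
  have h1 := key (2 ^ m)
  rw [hu, A_one] at h1
  have h2 : c ^ 2 ^ m = 1 := by
    have := h1
    rw [eq_comm, mul_eq_left] at this
    exact this
  rw [h, odd_ab ho h2, mul_one]

/-- a `2`-power of a fixed element -/
theorem fix_of_pow [Finite H] (ho : Odd (Nat.card X)) {u : H} {v : Abelianization X} {m : ℕ}
    (h : A X u (v ^ 2 ^ m) = v ^ 2 ^ m) : A X u v = v := by
  have h1 : (A X u v * v⁻¹) ^ 2 ^ m = 1 := by
    rw [mul_pow, ← map_pow, h, ← mul_pow, mul_inv_cancel, one_pow]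
  have h2 := odd_ab ho h1
  exact mul_inv_eq_one.1 h2

end Ab

end Cfsg.Agent.H460.Car.Sol
end

-- part: H460/Car/SolB
section
/-!
# Gate systems and odd normal subgroups: the far involution, main part (helper460, S3852)
-/

set_option autoImplicit false
set_option linter.unusedSectionVars false

namespace Cfsg.Agent.H460.Car.Sol

open Cfsg.Agent.FixBN.Gates Cfsg.Agent.BpGate
open scoped Pointwise commutatorElement

theorem eq_top_of_sup_commutator {V : Type*} [Group V] [Finite V] [hn : Group.IsNilpotent V] {H : Subgroup V}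
    (hH : H ⊔ commutator V = ⊤) : H = ⊤ := by
  by_contra hne
  obtain ⟨M, hM, hHM⟩ := (eq_top_or_exists_le_coatom H).resolve_left hne
  have hMn : M.Normal := by
    refine Subgroup.NormalizerCondition.normal_of_coatom M ?_ hM
    exact Group.normalizerCondition_of_isNilpotent
  have hc : commutator V ≤ M := by
    have hnt : Nontrivial (V ⧸ M) := by
      rw [QuotientGroup.nontrivial_iff]
      exact hM.1
    have h0 := Group.IsSolvable.commutator_lt_top_of_nontrivial (V ⧸ M)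
    have h1 : ((commutator (V ⧸ M)).comap (QuotientGroup.mk' M)) = M := by
      have h2 : M ≤ (commutator (V ⧸ M)).comap (QuotientGroup.mk' M) := by
        intro m hm
        rw [Subgroup.mem_comap, QuotientGroup.mk'_apply, (QuotientGroup.eq_one_iff m).2 hm]
        exact one_mem _
      rcases h2.lt_or_eq with h5 | h5
      · exfalso
        have h6 := hM.2 _ h5
        apply h0.ne
        have := congrArg (Subgroup.map (QuotientGroup.mk' M)) h6
        rwa [Subgroup.map_comap_eq_self_of_surjective (QuotientGroup.mk'_surjective M),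
          Subgroup.map_top_of_surjective _ (QuotientGroup.mk'_surjective M)] at this
      · exact h5.symm
    rw [← h1, ← Subgroup.map_le_iff_le_comap, commutator_def, commutator_def, Subgroup.map_commutator]
    exact Subgroup.commutator_mono le_top le_top
  apply hM.1
  rw [eq_top_iff, ← hH]
  exact sup_le hHM hc

variable {H : Type*} [Group H] {Pa : Set (Set (Sylow 2 H))} {d : Sylow 2 H → Sylow 2 H → ℕ}
variable [Finite H] {X : Subgroup H} [hX : X.Normal]

section Lift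

/-- fixed points of a `2`-element lift to invariant subgroups -/
theorem lift (ho : Odd (Nat.card X)) {u : H} {m : ℕ} (hu : u ^ 2 ^ m = 1) {Y : Subgroup H}
    (hY : ∀ y ∈ Y, u * y * u⁻¹ ∈ Y) {y0 : X} (hy0 : (y0 : H) ∈ Y)
    (h : A X u (Abelianization.of y0) = Abelianization.of y0) :
    ∃ y : X, (y : H) ∈ Y ∧ Abelianization.of y = Abelianization.of y0 ∧ u * (y : H) = y * u := by
  let D : Subgroup H := Y ⊓ (commutator X).map X.subtype
  have hDX : D ≤ X := by
    rintro _ ⟨-, x, -, rfl⟩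
    exact x.2
  have hD : ¬ 2 ∣ Nat.card D := fun h2 =>
    (Nat.not_even_iff_odd.2 ho) (even_iff_two_dvd.2 (h2.trans (Subgroup.card_dvd_of_le hDX)))
  have hDu : ∀ d ∈ D, u * d * u⁻¹ ∈ D := by
    rintro _ ⟨hy, x, hx, rfl⟩
    refine ⟨hY _ hy, MulAut.conjNormal u x, ?_, by rw [Subgroup.coe_subtype, MulAut.conjNormal_apply]⟩
    have h1 : (commutator X).map (MulAut.conjNormal u : MulAut X).toMonoidHom ≤ commutator X := by
      rw [commutator_def, Subgroup.map_commutator]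
      exact Subgroup.commutator_mono le_top le_top
    exact h1 ⟨x, hx, rfl⟩
  have hy : (y0 : H)⁻¹ * (u * y0 * u⁻¹) ∈ D := by
    refine ⟨mul_mem (Y.inv_mem hy0) (hY _ hy0), y0⁻¹ * MulAut.conjNormal u y0, ?_, ?_⟩
    · rw [A_of] at h
      exact QuotientGroup.eq.1 h.symm
    · rw [Subgroup.coe_subtype, Subgroup.coe_mul, MulAut.conjNormal_apply]
      rfl
  obtain ⟨e, he, hue⟩ := Cfsg.Agent.SignalizersComponents.CoprimeBasic.exists_fixed_in_coset_of_pow u m hu D hD hDu
    (y0 : H) hy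
  obtain ⟨heY, x, hx, rfl⟩ := he
  refine ⟨y0 * x, mul_mem hy0 heY, ?_, hue⟩
  have h1 : (Abelianization.of x : Abelianization X) = 1 := (QuotientGroup.eq_one_iff x).2 hx
  rw [map_mul, h1, mul_one]

/-- a `2`-element trivial on `X / X'` centralises `X` -/
theorem triv (hn : Group.IsNilpotent X) (ho : Odd (Nat.card X)) {u : H} {m : ℕ} (hu : u ^ 2 ^ m = 1)
    (h : ∀ v : Abelianization X, A X u v = v) : ∀ x ∈ X, u * x = x * u := by
  have h1 : (Subgroup.centralizer {u}).subgroupOf X ⊔ commutator X = ⊤ := by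
    rw [eq_top_iff]
    intro x _
    obtain ⟨y, -, hy, huy⟩ := lift ho hu (Y := X) (fun y hy => hX.conj_mem y hy u) x.2 (h (Abelianization.of x))
    have h2 : y⁻¹ * x ∈ commutator X := QuotientGroup.eq.1 hy
    have e1 : x = y * (y⁻¹ * x) := by group
    rw [e1]
    refine mul_mem (Subgroup.mem_sup_left ?_) (Subgroup.mem_sup_right h2)
    rw [Subgroup.mem_subgroupOf, Subgroup.mem_centralizer_singleton_iff]
    exact huy.symm
  have h2 := eq_top_of_sup_commutator h1
  intro x hx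
  have h3 : (⟨x, hx⟩ : X) ∈ (Subgroup.centralizer {u}).subgroupOf X := by rw [h2]; trivial
  rw [Subgroup.mem_subgroupOf, Subgroup.mem_centralizer_singleton_iff] at h3
  exact h3.symm

/-- generation by the centralisers of the involutions of a four-group -/
theorem four (hn : Group.IsNilpotent X) (ho : Odd (Nat.card X)) {e t : H} (he : e ^ 2 = 1) (ht : t ^ 2 = 1)
    (het : e * t = t * e) (h1 : ∀ x ∈ X, e * x = x * e → t * x = x * t)
    (h2 : ∀ x ∈ X, (e * t) * x = x * (e * t) → t * x = x * t) : ∀ x ∈ X, t * x = x * t := by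
  have fixe : ∀ v : Abelianization X, A X e v = v → A X t v = v := by
    intro v hv
    obtain ⟨x, rfl⟩ : ∃ x : X, Abelianization.of x = v := QuotientGroup.mk_surjective v
    obtain ⟨y, -, hy, huy⟩ := lift (m := 1) ho (by rw [pow_one]; exact he) (Y := X)
      (fun y hy => hX.conj_mem y hy e) x.2 hv
    rw [← hy]
    exact A_of_comm (h1 y y.2 huy)
  have hs : (e * t) ^ 2 = 1 := by
    rw [(show Commute e t from het).mul_pow, he, ht, one_mul]
  have fixs : ∀ v : Abelianization X, A X (e * t) v = v → A X t v = v := by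
    intro v hv
    obtain ⟨x, rfl⟩ : ∃ x : X, Abelianization.of x = v := QuotientGroup.mk_surjective v
    obtain ⟨y, -, hy, huy⟩ := lift (m := 1) ho (by rw [pow_one]; exact hs) (Y := X)
      (fun y hy => hX.conj_mem y hy (e * t)) x.2 hv
    rw [← hy]
    exact A_of_comm (h2 y y.2 huy)
  refine triv hn ho (m := 1) (by rw [pow_one]; exact ht) fun v => ?_
  have inv : ∀ {g : H}, g ^ 2 = 1 → ∀ v : Abelianization X, A X g (A X g v) = v := by
    intro g hg v
    rw [← A_mul, ← pow_two, hg, A_one]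
  -- `w = v (t v)⁻¹` is inverted by `t`
  set! w : Abelianization X := v * (A X t v)⁻¹ with hw
  have hwt : A X t w = w⁻¹ := by
    rw [hw, map_mul, map_inv, inv ht, mul_inv, inv_inv, mul_comm]
  have hwe : A X t (w * A X e w) = w * A X e w := by
    refine fixe _ ?_
    rw [map_mul, inv he, mul_comm]
  have hws : A X t (w * A X (e * t) w) = w * A X (e * t) w := by
    refine fixs _ ?_
    rw [map_mul, inv hs, mul_comm]
  have h3 : A X (e * t) w = (A X e w)⁻¹ := by
    rw [A_mul, hwt, map_inv]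
  have h4 : (w * A X e w) * (w * A X (e * t) w) = w ^ 2 := by
    rw [h3, pow_two]
    calc w * A X e w * (w * (A X e w)⁻¹) = w * w * (A X e w * (A X e w)⁻¹) := by
          rw [mul_mul_mul_comm]
      _ = w * w := by rw [mul_inv_cancel, mul_one]
  have h5 : A X t (w ^ 2) = w ^ 2 := by rw [← h4, map_mul, hwe, hws]
  rw [map_pow, hwt, inv_pow] at h5
  have h6 : w ^ 2 ^ 2 = 1 := by
    have h7 : (w ^ 2) * (w ^ 2) = 1 := by
      nth_rewrite 1 [← h5]
      exact inv_mul_cancel _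
    rw [show 2 ^ 2 = 2 + 2 from rfl, pow_add]
    exact h7
  have h7 := odd_ab ho h6
  rw [hw] at h7
  exact (mul_inv_eq_one.1 h7).symm

end Lift

section Main

variable {a : Sylow 2 H} {S S' : Set (Sylow 2 H)}

omit [Finite H] in
theorem mem_normalizer_Kr (hG : GSys Pa d) (hS : S ∈ Pa) (ha : a ∈ S) {u : H} (hu : u ∈ a) :
    u ∈ Subgroup.normalizer (Kr S : Set H) := by
  have huS := hG.self S hS a ha u hu
  rw [Subgroup.mem_normalizer_iff]
  intro h
  constructor
  · intro hh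
    have h1 : u * h * u⁻¹ ∈ Kr (u • S) := by
      rw [mem_Kr_smul]
      have e1 : u⁻¹ * (u * h * u⁻¹) * u = h := by group
      rw [e1]
      exact hh
    rwa [huS] at h1
  · intro hh
    rw [← huS, mem_Kr_smul] at hh
    have e1 : u⁻¹ * (u * h * u⁻¹) * u = h := by group
    rwa [e1] at hh

theorem pow_of_mem {u : H} (hu : u ∈ a) : ∃ m : ℕ, u ^ 2 ^ m = 1 := by
  obtain ⟨m, hm⟩ := a.isPGroup' ⟨u, hu⟩
  exact ⟨m, congrArg Subtype.val hm⟩

/-- the hypotheses -/
structure Setup (Pa : Set (Set (Sylow 2 H))) (d : Sylow 2 H → Sylow 2 H → ℕ) (X : Subgroup H) [X.Normal]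
    (a : Sylow 2 H) : Prop where
  hG : GSys Pa d
  hI : BpGate.Inter Pa
  hn : Group.IsNilpotent X
  ho : Odd (Nat.card X)
  htr : ∀ b : Sylow 2 H, ∃ x ∈ X, x • a = b
  hf : ∀ u ∈ a, (∀ x ∈ X, u * x = x * u) → u = 1

theorem disj (ho : Odd (Nat.card X)) (b : Sylow 2 H) : Disjoint X (b : Subgroup H) :=
  BpGate.disjoint_of_coprime (Nat.coprime_two_right.2 ho) b

/-- the panels at `a` whose root subgroup is visible in `X / X'` -/
def J (Pa : Set (Set (Sylow 2 H))) (X : Subgroup H) (a : Sylow 2 H) : Set (Set (Sylow 2 H)) :=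
  {S | S ∈ Pa ∧ a ∈ S ∧ ∃ z : X, (z : H) ∈ Subgroup.centralizer (Kr S : Set H) ∧
    ∀ y : X, Abelianization.of y = Abelianization.of z → (y : H) ∉ Subgroup.centralizer (a : Set H)}

namespace Setup

variable (s : Setup Pa d X a)
include s

theorem cen_iff {x : H} (hx : x ∈ X) : x • a = a ↔ x ∈ Subgroup.centralizer (a : Set H) := by
  constructor
  · intro h
    rw [Subgroup.mem_centralizer_iff]
    intro k hk
    exact (comm_of_mem (disj s.ho) hx (a := a) hk (by rw [h]; exact hk)).symm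
  · intro h
    refine Sylow.smul_eq_iff_mem_normalizer.2 ?_
    exact Subgroup.centralizer_le_normalizer _ h

/-- an element of `a` in all `Kr S`, `S ∈ J`, is trivial on `X / X'` -/
theorem triv_ab {u : H} (hu : u ∈ a) (huJ : ∀ S ∈ J Pa X a, u ∈ Kr S) (x : X) :
    A X u (Abelianization.of x) = Abelianization.of x := by
  induction hn : d a ((x : H) • a) using Nat.strong_induction_on generalizing x with
  | _ n ih =>
    by_cases hxa : (x : H) • a = a
    · have h1 := (s.cen_iff x.2).1 hxa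
      exact A_of_comm (h1 u hu)
    obtain ⟨S, hS, hxS, c, hc, -, -, hlt⟩ := s.hG.desc a ((x : H) • a) (Ne.symm hxa)
    obtain ⟨g, hgX, rfl⟩ := s.htr c
    have h1 := ih _ (by rw [← hn]; exact hlt) ⟨g, hgX⟩ rfl
    set! T : Set (Sylow 2 H) := (x : H)⁻¹ • S with hT
    have hTP : T ∈ Pa := s.hG.smul S hS _
    have haT : a ∈ T := by
      rw [hT, Set.mem_smul_set_iff_inv_smul_mem, inv_inv]
      exact hxS
    have hyT : ((x : H)⁻¹ * g) • a ∈ T := by
      rw [mul_smul]
      exact Set.smul_mem_smul_set hc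
    have hyX : (x : H)⁻¹ * g ∈ X := mul_mem (inv_mem x.2) hgX
    have hyc := (smul_mem_iff s.hG (disj s.ho) hTP haT hyX).1 hyT
    set! y : X := x⁻¹ * ⟨g, hgX⟩ with hy
    have h2 : A X u (Abelianization.of y) = Abelianization.of y := by
      by_cases hTJ : T ∈ J Pa X a
      · exact A_of_comm (hyc u (huJ T hTJ))
      · have h3 : ∃ y' : X, Abelianization.of y' = Abelianization.of y ∧
            (y' : H) ∈ Subgroup.centralizer (a : Set H) := by
          by_contra h
          push Not at h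
          exact hTJ ⟨hTP, haT, y, hyc, h⟩
        obtain ⟨y', h4, h5⟩ := h3
        rw [← h4]
        exact A_of_comm (h5 u hu)
    have h3 : x = ⟨g, hgX⟩ * y⁻¹ := by rw [hy]; group
    rw [h3, map_mul, map_inv, map_mul, map_inv, h1, h2]

theorem eq_one_of_J {u : H} (hu : u ∈ a) (huJ : ∀ S ∈ J Pa X a, u ∈ Kr S) : u = 1 := by
  obtain ⟨m, hm⟩ := pow_of_mem hu
  refine s.hf u hu (triv s.hn s.ho hm fun v => ?_)
  obtain ⟨x, rfl⟩ : ∃ x : X, Abelianization.of x = v := QuotientGroup.mk_surjective v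
  exact s.triv_ab hu huJ x

/-- `a = Kr S * Kr S'` -/
theorem fix_all (hS : S ∈ Pa) (hS' : S' ∈ Pa) (ha : a ∈ S) (ha' : a ∈ S') (hne : S ≠ S')
    {v : Abelianization X} (h : ∀ k ∈ Kr S, A X k v = v) (h' : ∀ k ∈ Kr S', A X k v = v) {w : H}
    (hw : w ∈ a) : A X w v = v := by
  obtain ⟨u, hu, hwu⟩ := Kr_mul s.hG s.hI (disj s.ho) s.htr hS hS' ha ha' hne hw
  have e1 : w = u * (w⁻¹ * u)⁻¹ := by group
  rw [e1, A_mul, h' _ (inv_mem hwu), h u hu]

open scoped Classical in
theorem lemC {z : Set (Sylow 2 H) → X} {F : Finset (Set (Sylow 2 H))} (hF : ∀ S, S ∈ F ↔ S ∈ J Pa X a)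
    (hz : ∀ S ∈ J Pa X a, (z S : H) ∈ Subgroup.centralizer (Kr S : Set H) ∧
      ∀ y : X, Abelianization.of y = Abelianization.of (z S) → (y : H) ∉ Subgroup.centralizer (a : Set H))
    (hS : S ∈ J Pa X a) [Fintype (Kr S)] {u : H} (hu : u ∈ a) {c : Abelianization X}
    (hc : A X u (∏ T ∈ F, Abelianization.of (z T)) = (∏ T ∈ F, Abelianization.of (z T)) * c)
    (hNc : A X u (N X (Kr S) c) = N X (Kr S) c) : u ∈ Kr S := by
  obtain ⟨hSP, haS, -⟩ := id hS
  obtain ⟨m, hm⟩ := pow_of_mem hu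
  have huN := mem_normalizer_Kr s.hG hSP haS hu
  -- the norm of the product
  have h1 : A X u (N X (Kr S) (∏ T ∈ F, Abelianization.of (z T))) = N X (Kr S) (∏ T ∈ F, Abelianization.of (z T)) := by
    refine fix_of_fix s.ho hm (c := N X (Kr S) c) ?_ hNc
    rw [N_conj huN, hc, N_mul]
  have h2 : ∀ T ∈ F.erase S, A X u (N X (Kr S) (Abelianization.of (z T))) = N X (Kr S) (Abelianization.of (z T)) := by
    intro T hT
    obtain ⟨hTS, hTF⟩ := Finset.mem_erase.1 hT
    have hTJ := (hF T).1 hTF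
    obtain ⟨hTP, haT, -⟩ := id hTJ
    refine s.fix_all hTP hSP haT haS hTS (fun k hk => ?_) (fun k hk => N_fix hk _) hu
    rw [N_conj (mem_normalizer_Kr s.hG hSP haS (Kr_le haT hk)), A_of_comm ((hz T hTJ).1 k hk)]
  have h3 : A X u (N X (Kr S) (Abelianization.of (z S))) = N X (Kr S) (Abelianization.of (z S)) := by
    rw [N_prod, ← Finset.mul_prod_erase F _ ((hF S).2 hS), map_mul, map_prod, Finset.prod_congr rfl h2] at h1
    exact mul_right_cancel h1
  rw [N_pow fun k hk => A_of_comm ((hz S hS).1 k hk)] at h3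
  have h4 : ∃ n : ℕ, Fintype.card (Kr S) = 2 ^ n := by
    have h5 : IsPGroup 2 (Kr S) := a.isPGroup'.to_le (Kr_le haS)
    obtain ⟨n, hn⟩ := IsPGroup.iff_card.1 h5
    exact ⟨n, by rw [← Nat.card_eq_fintype_card]; exact hn⟩
  obtain ⟨n, hn⟩ := h4
  rw [hn] at h3
  have h5 := fix_of_pow s.ho h3
  -- lift to `X_S`
  obtain ⟨y, hyS, hy, huy⟩ := lift s.ho hm (Y := Subgroup.centralizer (Kr S : Set H)) (y0 := z S) (fun y hy => by
    rw [Subgroup.mem_centralizer_iff] at hy ⊢
    intro k hk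
    have h6 : u⁻¹ * k * u ∈ Kr S := by
      have := (Subgroup.mem_normalizer_iff.1 (inv_mem huN) k).1 hk
      rwa [inv_inv] at this
    have h7 := hy _ h6
    calc k * (u * y * u⁻¹) = u * ((u⁻¹ * k * u) * y) * u⁻¹ := by group
      _ = u * (y * (u⁻¹ * k * u)) * u⁻¹ := by rw [h7]
      _ = u * y * u⁻¹ * k := by group) (hz S hS).1 h5
  have h6 := (hz S hS).2 y hy
  refine mem_Kr_of (X := X) s.hI hSP haS ((smul_mem_iff s.hG (disj s.ho) hSP haS y.2).2 hyS)
    (fun h => h6 ((s.cen_iff y.2).1 h)) hu huy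

theorem lemD (hS : S ∈ Pa) (ha : a ∈ S) {w : H} (hw : w ∈ a) :
    ∃ u ∈ a, w⁻¹ * u ∈ Kr S ∧ ∀ T ∈ J Pa X a, T ≠ S → u ∈ Kr T := by
  classical
  have hex : ∀ T : Set (Sylow 2 H), ∃ z : X, T ∈ J Pa X a → (z : H) ∈ Subgroup.centralizer (Kr T : Set H) ∧
      ∀ y : X, Abelianization.of y = Abelianization.of z → (y : H) ∉ Subgroup.centralizer (a : Set H) := by
    intro T
    by_cases hT : T ∈ J Pa X a
    · obtain ⟨-, -, z, h1, h2⟩ := id hT
      exact ⟨z, fun _ => ⟨h1, h2⟩⟩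
    · exact ⟨1, fun h => absurd h hT⟩
  choose z hz using hex
  have hfin : (J Pa X a).Finite := Set.toFinite _
  obtain ⟨v, hv⟩ : ∃ v : X, Abelianization.of v = ∏ T ∈ hfin.toFinset, Abelianization.of (z T) :=
    QuotientGroup.mk_surjective _
  obtain ⟨u, hu, h1, h2, h3⟩ := cover s.hG s.hI (disj s.ho) s.htr hS ha v.2 hw
  refine ⟨u, hu, h1, fun T hT hTS => ?_⟩
  obtain ⟨hTP, haT, -⟩ := id hT
  have : Fintype (Kr T) := Fintype.ofFinite _
  set! c : X := ⟨_, h2⟩ with hc
  have hc1 : A X u (Abelianization.of v) = Abelianization.of v * Abelianization.of c := by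
    rw [A_of, ← map_mul]
    congr 1
    apply Subtype.ext
    rw [MulAut.conjNormal_apply, Subgroup.coe_mul, hc]
    group
  have hcS : ∀ k ∈ Kr S, A X k (Abelianization.of c) = Abelianization.of c := fun k hk => A_of_comm (h3 k hk)
  refine s.lemC (F := hfin.toFinset) (fun S => hfin.mem_toFinset) hz hT hu (c := Abelianization.of c) ?_ ?_
  · rw [← hv]
    exact hc1
  · refine s.fix_all hS hTP ha haT (Ne.symm hTS) (fun k hk => ?_) (fun k hk => N_fix hk _) hu
    rw [N_conj (mem_normalizer_Kr s.hG hTP haT (Kr_le ha hk)), hcS k hk]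

/-- `Kr S ≠ a` -/
theorem exists_not_mem (hS : S ∈ Pa) (ha : a ∈ S) : ∃ w ∈ a, w ∉ Kr S := by
  obtain ⟨b, hb, hba, -⟩ := s.hG.three S hS a ha a ha
  by_contra h
  push Not at h
  apply hba
  have h1 : (a : Subgroup H) ≤ b := fun w hw => mem_Kr.1 (h w hw) b hb
  exact Sylow.ext (a.is_maximal' b.isPGroup' h1)

theorem mem_J (hS : S ∈ Pa) (ha : a ∈ S) : S ∈ J Pa X a := by
  by_contra hSJ
  obtain ⟨w, hw, hwS⟩ := s.exists_not_mem hS ha
  obtain ⟨u, hu, h1, h2⟩ := s.lemD hS ha hw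
  have h3 : u = 1 := s.eq_one_of_J hu fun T hT => h2 T hT fun h => hSJ (h ▸ hT)
  rw [h3, mul_one] at h1
  exact hwS (by simpa using inv_mem h1)

theorem eq_one {u : H} (hu : u ∈ a) (h : ∀ S ∈ Pa, a ∈ S → u ∈ Kr S) : u = 1 :=
  s.eq_one_of_J hu fun S hS => h S hS.1 hS.2.1

/-- the involutions `τ_S` -/
theorem exists_tau (hS : S ∈ Pa) (ha : a ∈ S) :
    ∃ t ∈ a, t ^ 2 = 1 ∧ t ∉ Kr S ∧ ∀ T ∈ Pa, a ∈ T → T ≠ S → t ∈ Kr T := by
  obtain ⟨w, hw, hwS⟩ := s.exists_not_mem hS ha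
  obtain ⟨u, hu, h1, h2⟩ := s.lemD hS ha hw
  have huS : u ∉ Kr S := by
    intro h
    apply hwS
    have h3 := mul_mem h (inv_mem h1)
    have e1 : u * (w⁻¹ * u)⁻¹ = w := by group
    rwa [e1] at h3
  have hu1 : u ≠ 1 := fun h => huS (h ▸ one_mem _)
  have hex : ∃ n : ℕ, u ^ 2 ^ n = 1 := pow_of_mem hu
  classical
  set! n := Nat.find hex with hn
  have hn1 : u ^ 2 ^ n = 1 := Nat.find_spec hex
  have hn0 : n ≠ 0 := by
    intro h
    rw [h, pow_zero, pow_one] at hn1
    exact hu1 hn1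
  obtain ⟨k, hk⟩ := Nat.exists_eq_succ_of_ne_zero hn0
  have hk1 : u ^ 2 ^ k ≠ 1 := Nat.find_min hex (by rw [← hn, hk]; exact Nat.lt_succ_self k)
  have hall : ∀ T ∈ Pa, a ∈ T → T ≠ S → u ^ 2 ^ k ∈ Kr T := fun T hT haT hTS =>
    pow_mem (h2 T (s.mem_J hT haT) hTS) _
  refine ⟨u ^ 2 ^ k, pow_mem hu _, ?_, ?_, hall⟩
  · rw [← pow_mul, ← pow_succ, ← Nat.succ_eq_add_one, ← hk]
    exact hn1
  · intro h
    apply hk1
    refine s.eq_one (pow_mem hu _) fun T hT haT => ?_
    by_cases hTS : T = S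
    · rw [hTS]; exact h
    · exact hall T hT haT hTS

theorem exists_prod (F : Finset (Set (Sylow 2 H))) (hF : ∀ S ∈ F, S ∈ Pa ∧ a ∈ S) :
    ∃ e ∈ a, e ^ 2 = 1 ∧ (∀ S ∈ F, e ∉ Kr S) ∧ ∀ S ∈ Pa, a ∈ S → S ∉ F → e ∈ Kr S := by
  classical
  induction F using Finset.induction_on with
  | empty => exact ⟨1, one_mem _, one_pow _, fun S hS => absurd hS (Finset.notMem_empty S), fun S _ _ _ => one_mem _⟩
  | insert S F hSF ih =>
    obtain ⟨e, he, he2, h1, h2⟩ := ih fun T hT => hF T (Finset.mem_insert_of_mem hT)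
    obtain ⟨hS, haS⟩ := hF S (Finset.mem_insert_self S F)
    obtain ⟨t, ht, ht2, htS, h3⟩ := s.exists_tau hS haS
    have heS : e ∈ Kr S := h2 S hS haS hSF
    have hc : e * t = t * e := by
      have h4 : e * t * e⁻¹ * t⁻¹ = 1 := by
        refine s.eq_one (mul_mem (mul_mem (mul_mem he ht) (inv_mem he)) (inv_mem ht)) fun T hT haT => ?_
        by_cases hTS : T = S
        · rw [hTS]
          have h5 := (Subgroup.mem_normalizer_iff.1 (mem_normalizer_Kr s.hG hS haS ht) e⁻¹).1 (inv_mem heS)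
          have e1 : e * t * e⁻¹ * t⁻¹ = e * (t * e⁻¹ * t⁻¹) := by group
          rw [e1]
          exact mul_mem heS h5
        · have htT := h3 T hT haT hTS
          have h5 := (Subgroup.mem_normalizer_iff.1 (mem_normalizer_Kr s.hG hT haT he) t).1 htT
          exact mul_mem h5 (inv_mem htT)
      calc e * t = (e * t * e⁻¹ * t⁻¹) * (t * e) := by group
        _ = t * e := by rw [h4, one_mul]
    refine ⟨e * t, mul_mem he ht, ?_, ?_, ?_⟩
    · rw [(show Commute e t from hc).mul_pow, he2, ht2, one_mul]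
    · intro T hT
      rcases Finset.mem_insert.1 hT with rfl | hTF
      · intro h
        apply htS
        have := mul_mem (inv_mem heS) h
        rwa [inv_mul_cancel_left] at this
      · intro h
        apply h1 T hTF
        obtain ⟨hTP, haT⟩ := hF T hT
        have htT := h3 T hTP haT fun h => hSF (h ▸ hTF)
        have := mul_mem h (inv_mem htT)
        rwa [mul_inv_cancel_right] at this
    · intro T hT haT hTi
      rw [Finset.mem_insert, not_or] at hTi
      exact mul_mem (h2 T hT haT hTi.2) (h3 T hT haT hTi.1)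

/-- an element of `a` in no `Kr S` is far -/
theorem far {e : H} (he : e ∈ a) (h : ∀ S ∈ Pa, a ∈ S → e ∉ Kr S) {x : H} (hx : x ∈ X) (hex : e * x = x * e) :
    x ∈ Subgroup.centralizer (a : Set H) := by
  rw [← s.cen_iff hx]
  by_contra hne
  obtain ⟨S, hS, haS, c, hc, hg, hca, -⟩ := s.hG.desc (x • a) a hne
  have h1 : e ∈ (x • a : Sylow 2 H) := by
    rw [mem_smul_iff]
    have e1 : x⁻¹ * e * x = e := by rw [mul_assoc, hex]; group
    rw [e1]
    exact he
  have h2 : e • c = c := hg.fix e h1 (s.hG.self S hS a haS e he)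
  have h3 : e ∈ c := mem_of_smul_eq he h2
  exact h S hS haS (mem_Kr.2 fun b hb => s.hI S hS a haS c hc (Ne.symm hca) e he h3 b hb)

theorem far_eq {e f : H} (he : e ∈ a) (hf : f ∈ a) (he2 : e ^ 2 = 1) (hf2 : f ^ 2 = 1)
    (hfe : ∀ x ∈ X, e * x = x * e → x ∈ Subgroup.centralizer (a : Set H))
    (hff : ∀ x ∈ X, f * x = x * f → x ∈ Subgroup.centralizer (a : Set H)) : e = f := by
  have hei : e⁻¹ = e := by rw [inv_eq_iff_mul_eq_one, ← pow_two]; exact he2
  have hfi : f⁻¹ = f := by rw [inv_eq_iff_mul_eq_one, ← pow_two]; exact hf2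
  have hcomm : e * f = f * e := by
    by_contra hne
    set g := e * f with hg
    have hga : g ∈ a := mul_mem he hf
    have hegi : e * g = g⁻¹ * e := by
      rw [hg, mul_inv_rev, hei, hfi, mul_assoc, ← pow_two, he2, mul_one, ← mul_assoc, ← pow_two, he2, one_mul]
    have hex : ∃ n : ℕ, g ^ 2 ^ n = 1 := pow_of_mem hga
    classical
    set! n := Nat.find hex with hn
    have hn1 : g ^ 2 ^ n = 1 := Nat.find_spec hex
    have hn2 : 2 ≤ n := by
      by_contra hlt
      have h1 : n = 0 ∨ n = 1 := by omega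
      have h2 : g ^ 2 = 1 := by
        rcases h1 with h1 | h1
        · rw [h1, pow_zero, pow_one] at hn1
          rw [hn1, one_pow]
        · rw [h1, pow_one] at hn1
          exact hn1
      apply hne
      have h3 : e * f = (e * f)⁻¹ := by
        rw [eq_inv_iff_mul_eq_one, ← pow_two, ← hg]
        exact h2
      rw [hg, h3, mul_inv_rev, hei, hfi]
    obtain ⟨k, hk⟩ : ∃ k, n = k + 2 := ⟨n - 2, by omega⟩
    set! r := g ^ 2 ^ k with hr
    have hra : r ∈ a := pow_mem hga _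
    have hr4 : (r ^ 2) ^ 2 = 1 := by
      rw [hr, ← pow_mul, ← pow_mul, ← pow_two, ← pow_add, ← hk]
      exact hn1
    have hr2 : r ^ 2 ≠ 1 := by
      have := Nat.find_min hex (m := k + 1) (by rw [← hn, hk]; omega)
      rw [hr, ← pow_mul, ← pow_succ]
      exact this
    have her : e * r = r⁻¹ * e := by
      have h1 : e * g * e⁻¹ = g⁻¹ := by rw [hegi]; group
      have h2 : e * r * e⁻¹ = r⁻¹ := by rw [hr, ← conj_pow, h1, inv_pow]
      rw [← h2]
      group
    set t := r ^ 2 with ht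
    have hti : t⁻¹ = t := by rw [inv_eq_iff_mul_eq_one, ← pow_two]; exact hr4
    have het : e * t = t * e := by
      rw [ht, pow_two, ← mul_assoc, her, mul_assoc, her, ← mul_assoc, ← mul_inv_rev, ← pow_two, ← ht, hti]
    have het' : e * t = r⁻¹ * e * r := by
      rw [mul_assoc, her, ← mul_assoc, ← mul_inv_rev, ← pow_two, ← ht, hti, het]
    have hta : t ∈ a := pow_mem hra _
    have h1 := four s.hn s.ho he2 hr4 het (fun x hx hex => (hfe x hx hex) t hta) (fun x hx hex => by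
      rw [het'] at hex
      have h2 : e * (r * x * r⁻¹) = (r * x * r⁻¹) * e := by
        calc e * (r * x * r⁻¹) = r * ((r⁻¹ * e * r) * x) * r⁻¹ := by group
          _ = r * (x * (r⁻¹ * e * r)) * r⁻¹ := by rw [hex]
          _ = (r * x * r⁻¹) * e := by group
      have h3 := hfe _ (hX.conj_mem x hx r) h2
      have h4 : r * x * r⁻¹ = x := by
        have h5 := h3 r hra
        calc r * x * r⁻¹ = r⁻¹ * (r * (r * x * r⁻¹)) := by group
          _ = r⁻¹ * (r * x * r⁻¹ * r) := by rw [h5]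
          _ = x := by group
      rw [h4] at h3
      exact h3 t hta)
    exact hr2 (s.hf t hta h1)
  by_contra hne
  have hta : e * f ∈ a := mul_mem he hf
  have ht2 : (e * f) ^ 2 = 1 := by rw [(show Commute e f from hcomm).mul_pow, he2, hf2, one_mul]
  have h0 : e * (e * f) = f := by rw [← mul_assoc, ← pow_two, he2, one_mul]
  have h1 := four s.hn s.ho he2 ht2 (by rw [h0, hcomm, mul_assoc, ← pow_two, he2, mul_one])
    (fun x hx hex => (hfe x hx hex) _ hta) (fun x hx hex => by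
      rw [h0] at hex
      exact (hff x hx hex) _ hta)
  have h2 := s.hf _ hta h1
  apply hne
  rw [← hfi]
  exact eq_inv_of_mul_eq_one_left h2

/-- **The far involution.** -/
theorem exists_far (ha : (a : Subgroup H) ≠ ⊥) : ∃ e ∈ a, e ≠ 1 ∧ e ^ 2 = 1 ∧
    (∀ x ∈ X, e * x = x * e → x ∈ Subgroup.centralizer (a : Set H)) ∧
    ∀ f ∈ a, f ^ 2 = 1 → (∀ x ∈ X, f * x = x * f → x ∈ Subgroup.centralizer (a : Set H)) → f = e := by
  classical
  have hfin : {S : Set (Sylow 2 H) | S ∈ Pa ∧ a ∈ S}.Finite := Set.toFinite _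
  obtain ⟨e, he, he2, h1, -⟩ := s.exists_prod hfin.toFinset fun S hS => hfin.mem_toFinset.1 hS
  have h2 : ∀ S ∈ Pa, a ∈ S → e ∉ Kr S := fun S hS haS => h1 S (hfin.mem_toFinset.2 ⟨hS, haS⟩)
  have h3 : ∀ x ∈ X, e * x = x * e → x ∈ Subgroup.centralizer (a : Set H) := fun x hx => s.far he h2 hx
  refine ⟨e, he, ?_, he2, h3, fun f hf hf2 hff => s.far_eq hf he hf2 he2 hff h3⟩
  rintro rfl
  apply ha
  rw [eq_bot_iff]
  intro u hu
  rw [Subgroup.mem_bot]
  refine s.hf u hu fun x hx => ?_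
  exact (h3 x hx (by rw [one_mul, mul_one])) u hu

end Setup

end Main

end Cfsg.Agent.H460.Car.Sol
end

-- part: H460/Car/Weak
section
/-!
# Invariant `l`-subgroups `≠ 1` and components (S3852, helper460)
-/

set_option autoImplicit false
set_option linter.unusedSectionVars false
set_option linter.unusedVariables false

namespace Cfsg.Agent.H460.Car

open Subgroup Pointwise
open Cfsg Cfsg.Agent.Solvable.Carter Cfsg.Agent.H18.Carter
open scoped commutatorElement

universe u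

variable {G : Type u} [Group G]

/-- `K` normalises an `l`-subgroup `≠ 1` of `S` -/
def Wt (l : ℕ) (K S : Subgroup G) : Prop :=
  ∃ P : Subgroup G, P ≤ S ∧ P ≠ ⊥ ∧ IsPGroup l P ∧ K ≤ normalizer (P : Set G)

theorem sup_isPGroup {l m : ℕ} (E P : Fin m → Subgroup G) (hPE : ∀ j, P j ≤ E j)
    (comm : ∀ i j, i ≠ j → E j ≤ centralizer (E i : Set G)) (hp : ∀ j, IsPGroup l (P j)) (s : Finset (Fin m)) :
    IsPGroup l (s.sup P : Subgroup G) ∧ s.sup P ≤ s.sup E := by
  classical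
  induction s using Finset.induction_on with
  | empty =>
    refine ⟨?_, ?_⟩
    · rw [Finset.sup_empty]; exact IsPGroup.of_bot
    · rw [Finset.sup_empty, Finset.sup_empty]
  | insert j s hj ih =>
    obtain ⟨h1, h3⟩ := ih
    rw [Finset.sup_insert, Finset.sup_insert]
    have hE : s.sup E ≤ centralizer (E j : Set G) := by
      refine Finset.sup_le fun i hi' => comm j i ?_
      rintro rfl
      exact hj hi'
    have hE' : E j ≤ centralizer ((s.sup E : Subgroup G) : Set G) := Subgroup.le_centralizer_iff.1 hE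
    have hEP : E j ≤ normalizer ((s.sup P : Subgroup G) : Set G) :=
      (hE'.trans (centralizer_le h3)).trans (centralizer_le_normalizer _)
    exact ⟨IsPGroup.to_sup_of_normal_right' (hp j) h1 ((hPE j).trans hEP), sup_le_sup (hPE j) h3⟩

/-- the orbit of a component -/
theorem wt_comps [Finite G] {K : Subgroup G} {m : ℕ} (c : Comps G K m) {l : ℕ} (i : Fin m)
    (h : Wt l (K ⊓ normalizer (c.E i : Set G)) (c.E i)) : Wt l K c.N := by
  obtain ⟨P, hPE, hP1, hP, hPK⟩ := h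
  choose k hk hkE using fun j => c.trans i j
  let Q : Fin m → Subgroup G := fun j => MulAut.conj (k j) • P
  have hQE : ∀ j, Q j ≤ c.E j := fun j => by
    rw [← hkE j]
    exact Subgroup.pointwise_smul_le_pointwise_smul_iff.2 hPE
  have hQ : ∀ j, IsPGroup l (Q j) := fun j => by
    show IsPGroup l (MulAut.conj (k j) • P : Subgroup G)
    rw [conj_smul_eq_map]
    exact hP.map _
  obtain ⟨h1, h3⟩ := sup_isPGroup c.E Q hQE (fun i j hij => c.E_le_cent hij) hQ Finset.univ
  have e1 : Finset.univ.sup c.E = c.N := Finset.sup_univ_eq_iSup _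
  have e2 : Finset.univ.sup Q = ⨆ j, Q j := Finset.sup_univ_eq_iSup _
  rw [e1, e2] at h3
  rw [e2] at h1
  refine ⟨⨆ j, Q j, h3, ?_, h1, ?_⟩
  · intro h
    apply hP1
    have h4 : Q i ≤ ⊥ := by rw [← h]; exact le_iSup Q i
    rw [eq_bot_iff]
    intro x hx
    have h5 : k i * x * (k i)⁻¹ ∈ Q i := by
      show k i * x * (k i)⁻¹ ∈ (MulAut.conj (k i) • P : Subgroup G)
      rw [mem_cj]
      have e3 : (k i)⁻¹ * (k i * x * (k i)⁻¹) * k i = x := by group
      rwa [e3]
    have h6 := h4 h5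
    rw [mem_bot, mul_inv_eq_one, mul_eq_left] at h6
    rw [mem_bot]
    exact h6
  have key : ∀ κ ∈ K, MulAut.conj κ • (⨆ j, Q j) ≤ ⨆ j, Q j := by
    intro κ hκ
    rw [conj_smul_eq_map, Subgroup.map_iSup]
    refine iSup_le fun j => ?_
    obtain ⟨j', hj'⟩ := c.perm κ hκ j
    refine le_trans ?_ (le_iSup Q j')
    rw [← conj_smul_eq_map]
    show MulAut.conj κ • MulAut.conj (k j) • P ≤ MulAut.conj (k j') • P
    have h4 : (k j')⁻¹ * (κ * k j) ∈ normalizer (P : Set G) := by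
      apply hPK
      refine mem_inf.2 ⟨mul_mem (inv_mem (hk j')) (mul_mem hκ (hk j)), ?_⟩
      rw [← cj_eq_self_iff, ← cj_cj, ← cj_cj, hkE j, hj', ← hkE j', cj_cj, inv_mul_cancel, cj_one]
    rw [← cj_eq_self_iff] at h4
    have h5 : MulAut.conj κ • MulAut.conj (k j) • P = MulAut.conj (k j') • P := by
      rw [cj_cj]
      nth_rw 2 [← h4]
      rw [cj_cj, mul_inv_cancel_left]
    exact h5.le
  intro κ hκ
  exact le_normalizer_of_conj (key κ hκ) (key κ⁻¹ (inv_mem hκ))

/-- one component, from its automorphism group -/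
theorem wt_pass [Finite G] {K E : Subgroup G} {B : Type u} [Group B] [Finite B] {S R : Subgroup B}
    {f : ↥(DD K E) →* B} (h : PassD K E B S R f) {l : ℕ} [hl : Fact l.Prime] (hn : Wt l R S) :
    Wt l (K ⊓ normalizer (E : Set G)) E := by
  obtain ⟨P', hPS, hP1', hP', hPR⟩ := hn
  have hED : E ≤ DD K E := le_DD _ _
  set! E' : Subgroup (DD K E) := E.subgroupOf (DD K E) with hE'
  have hSE : S = E'.map f := by
    ext b
    rw [h.S_iff]
    rfl
  set! Q : Subgroup (DD K E) := P'.comap f ⊓ E' with hQ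
  -- `Q` is nilpotent
  let g : ↥Q →* ↥P' := (f.comp Q.subtype).codRestrict P' fun x => x.2.1
  have hg : g.ker ≤ center Q := by
    intro x hx
    rw [MonoidHom.mem_ker] at hx
    have h1 : f x = 1 := congrArg Subtype.val hx
    have h2 := (h.ker _).1 h1
    rw [mem_center_iff]
    intro y
    apply Subtype.ext
    apply Subtype.ext
    exact h2 _ y.2.2
  have hQn : Group.IsNilpotent Q := by
    have := hP'.isNilpotent
    exact Subgroup.isNilpotent_of_ker_le_center g hg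
  obtain ⟨P0⟩ : Nonempty (Sylow l Q) := inferInstance
  have hP0 : (P0 : Subgroup Q).Normal := inferInstance
  have hchar : ∀ y : Q, (∃ n : ℕ, y ^ l ^ n = 1) → y ∈ (P0 : Subgroup Q) := by
    rintro y ⟨n, hy⟩
    have h1 : IsPGroup l (zpowers y) := by
      apply IsPGroup.of_card_dvd_pow (n := n)
      rw [Nat.card_zpowers]
      exact orderOf_dvd_of_pow_eq_one hy
    obtain ⟨P2, hP2⟩ := h1.exists_le_sylow
    have := Sylow.unique_of_normal P0 hP0
    rw [Subsingleton.elim P0 P2]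
    exact hP2 (mem_zpowers y)
  set! P1 : Subgroup (DD K E) := (P0 : Subgroup Q).map Q.subtype with hP1
  have hmem : ∀ x : DD K E, x ∈ P1 ↔ x ∈ Q ∧ ∃ n : ℕ, x ^ l ^ n = 1 := by
    intro x
    constructor
    · rintro ⟨y, hy, rfl⟩
      refine ⟨y.2, ?_⟩
      obtain ⟨n, hn⟩ := (isPGroup_iff_pow_pow_eq_one.1 P0.2) ⟨y, hy⟩
      refine ⟨n, ?_⟩
      have h2 := congrArg (fun z : (P0 : Subgroup Q) => ((z : Q) : DD K E)) hn
      exact h2
    · rintro ⟨hx, n, hn⟩
      exact ⟨⟨x, hx⟩, hchar _ ⟨n, Subtype.ext hn⟩, rfl⟩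
  refine ⟨P1.map (DD K E).subtype, ?_, ?_, ?_, ?_⟩
  · rintro _ ⟨x, hx, rfl⟩
    exact ((hmem x).1 hx).1.2
  · -- a nontrivial element
    obtain ⟨b, hb, hb1⟩ := P'.bot_or_exists_ne_one.resolve_left hP1'
    obtain ⟨x, hx, rfl⟩ := (h.S_iff b).1 (hPS hb)
    obtain ⟨n, hn⟩ := hP' ⟨f x, hb⟩
    have hn' : (f x) ^ l ^ n = 1 := congrArg Subtype.val hn
    obtain ⟨a, m, hm, ho⟩ := Nat.exists_eq_pow_mul_and_not_dvd (n := orderOf x) (orderOf_pos x).ne' l hl.out.ne_one
    have hxm : x ^ m ∈ P1 := by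
      refine (hmem _).2 ⟨pow_mem (show x ∈ Q from ⟨hb, hx⟩) m, a, ?_⟩
      rw [← pow_mul, mul_comm, ← ho, pow_orderOf_eq_one]
    intro hbot
    have h4 : ((x ^ m : DD K E) : G) ∈ P1.map (DD K E).subtype := ⟨_, hxm, rfl⟩
    rw [hbot, mem_bot] at h4
    have h5 : x ^ m = 1 := Subtype.ext h4
    have h6 : (f x) ^ m = 1 := by rw [← map_pow, h5, map_one]
    apply hb1
    have h7 : orderOf (f x) ∣ l ^ n := orderOf_dvd_of_pow_eq_one hn'
    have h8 : orderOf (f x) ∣ m := orderOf_dvd_of_pow_eq_one h6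
    have h9 : Nat.Coprime (l ^ n) m := Nat.Coprime.pow_left n ((Nat.Prime.coprime_iff_not_dvd hl.out).2 hm)
    exact orderOf_eq_one_iff.1 (Nat.eq_one_of_dvd_coprimes h9 h7 h8)
  · exact (P0.2.map _).map _
  · intro k hk
    have hkD : k ∈ DD K E := inf_le_DD _ _ hk
    have hR : ∀ κ ∈ K ⊓ normalizer (E : Set G), ∀ x ∈ P1.map (DD K E).subtype, κ * x * κ⁻¹ ∈ P1.map (DD K E).subtype := by
      rintro κ hκ _ ⟨x, hx, rfl⟩
      have hκD : κ ∈ DD K E := inf_le_DD _ _ hκ
      refine ⟨⟨κ, hκD⟩ * x * ⟨κ, hκD⟩⁻¹, ?_, rfl⟩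
      obtain ⟨⟨hx1, hx2⟩, n, hn⟩ := (hmem x).1 hx
      refine (hmem _).2 ⟨⟨?_, ?_⟩, n, ?_⟩
      · have h3 : f ⟨κ, hκD⟩ ∈ R := (h.R_iff _).2 ⟨⟨κ, hκD⟩, hκ.1, rfl⟩
        have h4 := (mem_normalizer_iff.1 (hPR h3) (f x)).1 hx1
        show f _ ∈ P'
        rw [map_mul, map_mul, map_inv]
        exact h4
      · exact (mem_normalizer_iff.1 hκ.2 (x : G)).1 hx2
      · rw [conj_pow, hn, mul_one, mul_inv_cancel]
    rw [mem_normalizer_iff]
    intro x
    constructor
    · exact hR k hk x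
    · intro hx
      have := hR k⁻¹ (inv_mem hk) _ hx
      have e1 : k⁻¹ * (k * x * k⁻¹) * k⁻¹⁻¹ = x := by group
      rwa [e1] at this

end Cfsg.Agent.H460.Car
end

-- part: H460/Car/Main
section
/-!
# Carter subgroups and groups with a gate system for `2` (S3852, helper460)

`exists_two`: `Γ` a finite group, `H0 → Γ` injective with normal image `H`, `H0` of even order with a gate system for
`p = 2`, `K` a Carter subgroup of `Γ`: then `K` normalises a `2`-subgroup `≠ 1` of `H`.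
-/

set_option autoImplicit false
set_option linter.unusedSectionVars false
set_option linter.unusedVariables false

namespace Cfsg.Agent.H460.Car

open Subgroup Pointwise
open Cfsg Cfsg.Agent.Solvable.Carter Cfsg.Agent.H18.Carter Cfsg.Agent.H381.Car
open Cfsg.Agent.FixBN.Gates Cfsg.Agent.BpGate
open Cfsg.Agent.SignalizersComponents Cfsg.Agent.Lib
open scoped commutatorElement

universe u

/-- the almost simple situation -/
structure AS (G : Type u) [Group G] (S K : Subgroup G) : Prop where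
  normal : S.Normal
  simple : IsSimpleGroup S
  na : ¬ ∀ a b : S, a * b = b * a
  cen : centralizer (S : Set G) = ⊥
  min : ∀ (B : Type u) [Group B] [Finite B], Nat.card B < Nat.card G → CC B
  carter : IsCarter K
  prod : K ⊔ S = ⊤

section Aut

variable {H : Type*} [Group H] [Finite H] {Pa : Set (Set (Sylow 2 H))} {d : Sylow 2 H → Sylow 2 H → ℕ}
variable {X : Subgroup H} [hX : X.Normal] {a : Sylow 2 H}

/-- automorphisms fix the far involution modulo `X` -/
theorem aut_far (s : Sol.Setup Pa d X a) {e : H} (he : e ∈ a) (he2 : e ^ 2 = 1)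
    (hfar : ∀ x ∈ X, e * x = x * e → x ∈ centralizer (a : Set H))
    (hu : ∀ f ∈ a, f ^ 2 = 1 → (∀ x ∈ X, f * x = x * f → x ∈ centralizer (a : Set H)) → f = e)
    (φ : H ≃* H) (hφ : ∀ x, x ∈ X → φ x ∈ X) (hφ' : ∀ x, x ∈ X → φ.symm x ∈ X) : e * (φ e)⁻¹ ∈ X := by
  have hcard : Nat.card ↥((a : Subgroup H).map φ.toMonoidHom) = Nat.card (a : Subgroup H) :=
    (Nat.card_congr ((a : Subgroup H).equivMapOfInjective φ.toMonoidHom φ.injective).toEquiv).symm
  let b : Sylow 2 H := Sylow.ofCard ((a : Subgroup H).map φ.toMonoidHom) (by rw [hcard]; exact a.card_eq_multiplicity)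
  have hb : ∀ y : H, y ∈ b ↔ φ.symm y ∈ a := by
    intro y
    constructor
    · rintro ⟨z, hz, rfl⟩
      show φ.symm (φ z) ∈ a
      rw [MulEquiv.symm_apply_apply]
      exact hz
    · intro hy
      exact ⟨_, hy, φ.apply_symm_apply y⟩
  obtain ⟨x, hx, hxb⟩ := s.htr b
  have h1 : ∀ y : H, x⁻¹ * y * x ∈ a ↔ φ.symm y ∈ a := by
    intro y
    rw [← hb, ← hxb, mem_smul_iff]
  -- `ψ = conj x⁻¹ ∘ φ` preserves `a` and `X`
  have hψa : ∀ y : H, y ∈ a ↔ x⁻¹ * φ y * x ∈ a := by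
    intro y
    rw [h1, MulEquiv.symm_apply_apply]
  have hfe : x⁻¹ * φ e * x = e := by
    refine hu _ ((hψa e).1 he) ?_ ?_
    · have e1 : x⁻¹ * φ e * x = x⁻¹ * φ e * x⁻¹⁻¹ := by rw [inv_inv]
      rw [e1, conj_pow, ← map_pow, he2, map_one, mul_one, mul_inv_cancel]
    · intro y hy hey
      set! w : H := φ.symm (x * y * x⁻¹) with hw
      have hwX : w ∈ X := hφ' _ (hX.conj_mem y hy x)
      have hφw : φ w = x * y * x⁻¹ := φ.apply_symm_apply _
      have h2 : e * w = w * e := by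
        apply φ.injective
        rw [map_mul, map_mul, hφw]
        calc φ e * (x * y * x⁻¹) = x * ((x⁻¹ * φ e * x) * y) * x⁻¹ := by group
          _ = x * (y * (x⁻¹ * φ e * x)) * x⁻¹ := by rw [hey]
          _ = x * y * x⁻¹ * φ e := by group
      have h3 := hfar w hwX h2
      rw [mem_centralizer_iff] at h3 ⊢
      intro k hk
      have hk' : φ.symm (x * k * x⁻¹) ∈ a := by
        rw [← h1]
        have e1 : x⁻¹ * (x * k * x⁻¹) * x = k := by group
        rw [e1]
        exact hk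
      have hk2 : φ (φ.symm (x * k * x⁻¹)) = x * k * x⁻¹ := φ.apply_symm_apply _
      have h4 := congrArg φ (h3 _ hk')
      rw [map_mul φ, map_mul φ, hφw, hk2] at h4
      calc k * y = x⁻¹ * ((x * k * x⁻¹) * (x * y * x⁻¹)) * x := by group
        _ = x⁻¹ * ((x * y * x⁻¹) * (x * k * x⁻¹)) * x := by rw [h4]
        _ = y * k := by group
  have h2 : φ e = x * e * x⁻¹ := by
    calc φ e = x * (x⁻¹ * φ e * x) * x⁻¹ := by group
      _ = x * e * x⁻¹ := by rw [hfe]
  have h3 : e * (φ e)⁻¹ = (e * x * e⁻¹) * x⁻¹ := by rw [h2]; group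
  rw [h3]
  exact mul_mem (hX.conj_mem x hx e) (inv_mem hx)

end Aut

section Main

variable {Γ : Type u} [Group Γ] [Finite Γ] {H : Subgroup Γ} [hHn : H.Normal]
variable {H0 : Type u} [Group H0] [Finite H0] {Pa : Set (Set (Sylow 2 H0))} {d : Sylow 2 H0 → Sylow 2 H0 → ℕ}

/-- no components: the far involution -/
theorem exists_two_of_layer (hG : GSys Pa d) (hI : BpGate.Inter Pa) (hopp : ∃ a b : Sylow 2 H0, (a : Subgroup H0) ⊓ b = ⊥)
    (ι : H0 ≃* H) {K : Subgroup Γ} (hK : IsCarter K)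
    (hCC : ∀ (B : Type u) [Group B] [Finite B], Nat.card B ≤ Nat.card Γ → CC B)
    (he : 2 ∣ Nat.card H0) (hl : layer H0 = ⊥) :
    ∃ Y : Subgroup Γ, Y ≤ H ∧ Y ≠ ⊥ ∧ IsPGroup 2 Y ∧ K ≤ normalizer (Y : Set Γ) := by
  have hcore : pCore 2 H0 = ⊥ := by
    obtain ⟨a, b, hab⟩ := hopp
    rw [eq_bot_iff, ← hab]
    exact le_inf (Cores.pCore_le_sylow a) (Cores.pCore_le_sylow b)
  set! X : Subgroup H0 := fittingSubgroup H0 with hX
  have hXn : X.Normal := Cores.fittingSubgroup_normal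
  have hXnil : Group.IsNilpotent X := Cores.fittingSubgroup_isNilpotent
  have hXchar : X.Characteristic := Cores.fittingSubgroup_characteristic
  have hF : generalizedFittingSubgroup H0 = X := by
    rw [GenFitting.genFitting_def, hl, bot_sup_eq]
  have hCX : centralizer (X : Set H0) ≤ X := by
    have := GenFitting.centralizer_genFitting_le (G := H0)
    rwa [hF] at this
  have ho : Odd (Nat.card X) := by
    rw [← Nat.not_even_iff_odd, even_iff_two_dvd]
    intro h2
    obtain ⟨z, hz⟩ := exists_prime_orderOf_dvd_card' 2 h2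
    have hz2 : (z : H0) ^ 2 ^ 1 = 1 := by
      rw [pow_one, ← Subgroup.coe_pow, ← hz, pow_orderOf_eq_one, Subgroup.coe_one]
    have h3 := GenFitting.mem_pCore_of_mem_fitting (p := 2) z.2 hz2
    rw [hcore, mem_bot] at h3
    have h4 : z = 1 := Subtype.ext h3
    rw [h4, orderOf_one] at hz
    omega
  obtain ⟨a⟩ : Nonempty (Sylow 2 H0) := inferInstance
  have s : Sol.Setup Pa d X a := by
    refine ⟨hG, hI, hXnil, ho, fun b => ?_, fun u hu hux => ?_⟩
    · obtain ⟨h, hh, hhb⟩ := BpGate.conn hG hI (Sol.disj ho) a b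
      exact ⟨h, (sup_le le_rfl hCX) hh, hhb⟩
    · have h1 : u ∈ X := hCX (fun x hx => (hux x hx).symm)
      exact Subgroup.disjoint_def.1 (Sol.disj ho a) h1 hu
  have ha : (a : Subgroup H0) ≠ ⊥ := by
    intro h
    have h1 := a.card_eq_multiplicity
    rw [h, Subgroup.card_bot] at h1
    have h2 : 0 < (Nat.card H0).factorization 2 := Nat.Prime.factorization_pos_of_dvd Nat.prime_two
      Nat.card_pos.ne' he
    have h3 : 1 < 2 ^ (Nat.card H0).factorization 2 := Nat.one_lt_two_pow h2.ne'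
    omega
  obtain ⟨e, hea, he1, he2, hfar, hu⟩ := s.exists_far ha
  -- the image of `X`
  set! X' : Subgroup Γ := X.map (H.subtype.comp ι.toMonoidHom) with hX'
  have hιk : ∀ k : Γ, ∃ φ : H0 ≃* H0, ∀ y : H0, ((ι (φ y) : H) : Γ) = k * (ι y : Γ) * k⁻¹ := by
    intro k
    refine ⟨(ι.trans (MulAut.conjNormal k : MulAut H)).trans ι.symm, fun y => ?_⟩
    simp only [MulEquiv.trans_apply, MulEquiv.apply_symm_apply, MulAut.conjNormal_apply]
  have hX'n : X'.Normal := by
    refine ⟨fun x hx g => ?_⟩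
    obtain ⟨y, hy, rfl⟩ := hx
    obtain ⟨φ, hφ⟩ := hιk g
    refine ⟨φ y, ?_, hφ y⟩
    exact (Subgroup.characteristic_iff_le_comap.1 hXchar φ) hy
  have hX'H : X' ≤ H := by
    rintro _ ⟨y, -, rfl⟩
    exact (ι y).2
  have hs : ∀ k ∈ K, (ι e : Γ) * k * (ι e : Γ)⁻¹ * k⁻¹ ∈ X' := by
    intro k _
    obtain ⟨φ, hφ⟩ := hιk k
    have h1 := aut_far s hea he2 hfar hu φ (fun x hx => (Subgroup.characteristic_iff_le_comap.1 hXchar φ) hx)
      (fun x hx => (Subgroup.characteristic_iff_le_comap.1 hXchar φ.symm) hx)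
    refine ⟨_, h1, ?_⟩
    show ((ι (e * (φ e)⁻¹) : H) : Γ) = _
    rw [map_mul, map_inv, Subgroup.coe_mul, Subgroup.coe_inv, hφ]
    group
  have h1 : (ι e : Γ) ∈ K ⊔ X' := by
    refine w_principle_of (hCC _ (Subgroup.card_le_card_group _)) hK ?_ hs
    rw [normalizer_eq_top_iff.2 hX'n]
    trivial
  -- `|K ∩ H|` is even
  have h2 : 2 ∣ Nat.card ↥(K ⊓ H) := by
    by_contra hodd
    obtain ⟨k, hk, x, hx, hkx⟩ := mul_mem_of_norm' (A := K) (B := X')
      (by rw [normalizer_eq_top_iff.2 hX'n]; exact le_top) h1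
    have hkH : k ∈ H := by
      have h3 : k = (ι e : Γ) * x⁻¹ := by rw [hkx]; group
      rw [h3]
      exact mul_mem (ι e).2 (inv_mem (hX'H hx))
    have h3 : (ι e : Γ) ∈ (K ⊓ H) ⊔ X' := by
      rw [hkx]
      exact mul_mem (mem_sup_left ⟨hk, hkH⟩) (mem_sup_right hx)
    have h4 : orderOf (ι e : Γ) = 2 := by
      rw [orderOf_eq_prime_iff]
      refine ⟨?_, fun h => he1 ?_⟩
      · rw [← Subgroup.coe_pow, ← map_pow, he2, map_one, Subgroup.coe_one]
      · exact ι.injective (by rw [map_one]; exact Subtype.ext h)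
    have h5 : 2 ∣ Nat.card ↥(X' ⊔ (K ⊓ H)) := by
      rw [sup_comm, ← h4]
      exact Subgroup.orderOf_dvd_natCard _ h3
    have h6 := h5.trans (CoprimeBasic.card_sup_dvd (X := X') (Y := K ⊓ H)
      (by rw [normalizer_eq_top_iff.2 hX'n]; exact le_top))
    rcases (Nat.Prime.dvd_mul Nat.prime_two).1 h6 with h7 | h7
    · rw [hX', ← Nat.card_congr (X.equivMapOfInjective _ (H.subtype_injective.comp ι.injective)).toEquiv] at h7
      exact Nat.not_even_iff_odd.2 ho (even_iff_two_dvd.2 h7)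
    · exact hodd h7
  obtain ⟨z, hzH, hzK, hz, hzc⟩ := exists_central (S := H) hK.1 h2
  refine ⟨zpowers z, ?_, ?_, ?_, ?_⟩
  · rw [zpowers_le]; exact hzH
  · rw [Ne, zpowers_eq_bot]
    rintro rfl
    rw [orderOf_one] at hz
    omega
  · refine IsPGroup.of_card (n := 1) ?_
    rw [Nat.card_zpowers, hz, pow_one]
  · refine le_trans ?_ (centralizer_le_normalizer _)
    intro k hk
    have h3 := hzc hk
    rw [mem_centralizer_singleton_iff] at h3
    rw [mem_centralizer_iff]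
    intro y hy
    obtain ⟨n, rfl⟩ := mem_zpowers_iff.1 hy
    exact ((show Commute z k from h3.symm).zpow_left n)

/-- the `K`-orbit of a component -/
theorem exists_orbit (K : Subgroup Γ) {E : Subgroup Γ} (hE : IsComponent E) :
    ∃ (m : ℕ) (c : Comps Γ K m) (i : Fin m), c.E i = E ∧ ∀ N : Subgroup Γ, N.Normal → E ≤ N → c.N ≤ N := by
  let Ω : Type u := {E' : Subgroup Γ // ∃ k ∈ K, MulAut.conj k • E = E'}
  have : Finite Ω := Subtype.finite
  obtain ⟨m, ⟨f⟩⟩ := Finite.exists_equiv_fin Ω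
  have hcomp : ∀ i : Fin m, IsComponent ((f.symm i).1) := by
    intro i
    obtain ⟨k, -, hk⟩ := (f.symm i).2
    rw [← hk, conj_smul_eq_map]
    exact Components.isComponent_conj k hE
  have hf : ∀ {E' : Subgroup Γ}, (∃ k ∈ K, MulAut.conj k • E = E') → ∃ j, (f.symm j).1 = E' := by
    intro E' h
    exact ⟨f ⟨E', h⟩, by rw [f.symm_apply_apply]⟩
  let c : Comps Γ K m :=
    { E := fun i => (f.symm i).1
      perf := fun i => Subgroup.isPerfect_iff.1 (hcomp i).2.1
      ne := fun i h => by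
        have h1 := Components.quasisimple_nontrivial (hcomp i).2
        rw [h] at h1
        exact not_subsingleton _ (inferInstance : Subsingleton (⊥ : Subgroup Γ))
      comm := fun i j hij x hx y hy => by
        have hne : (f.symm j).1 ≠ (f.symm i).1 := fun h => hij (f.symm.injective (Subtype.ext h)).symm
        exact (Components.component_le_centralizer_of_ne (hcomp j) (hcomp i) hne hy) x hx
      perm := fun k hk i => by
        obtain ⟨k', hk', h⟩ := (f.symm i).2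
        obtain ⟨j, hj⟩ := hf (E' := MulAut.conj k • (f.symm i).1) ⟨k * k', mul_mem hk hk', by rw [← h, cj_cj]⟩
        exact ⟨j, hj.symm⟩
      trans := fun i j => by
        obtain ⟨k, hk, h⟩ := (f.symm i).2
        obtain ⟨k', hk', h'⟩ := (f.symm j).2
        refine ⟨k' * k⁻¹, mul_mem hk' (inv_mem hk), ?_⟩
        rw [← h, ← h', cj_cj, inv_mul_cancel_right] }
  obtain ⟨i, hi⟩ := hf (E' := E) ⟨1, one_mem _, cj_one E⟩
  refine ⟨m, c, i, hi, fun N hN hEN => iSup_le fun j => ?_⟩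
  obtain ⟨k, -, h⟩ := (f.symm j).2
  show (f.symm j).1 ≤ N
  rw [← h]
  intro x hx
  rw [H18.Carter.mem_cj] at hx
  have h1 := hN.conj_mem _ (hEN hx) k
  have e1 : k * (k⁻¹ * x * k) * k⁻¹ = x := by group
  rwa [e1] at h1

theorem quot_center_equiv {K L : Type*} [Group K] [Group L] (e : K ≃* L) :
    Nonempty (K ⧸ center K ≃* L ⧸ center L) := by
  refine ⟨QuotientGroup.congr (center K) (center L) e ?_⟩
  ext x
  constructor
  · rintro ⟨y, hy, rfl⟩
    rw [mem_center_iff]
    intro g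
    obtain ⟨g', rfl⟩ := e.surjective g
    have := (mem_center_iff.mp hy) g'
    simpa only [_root_.MonoidHom.coe_coe, _root_.map_mul] using congrArg e this
  · intro hx
    refine ⟨e.symm x, ?_, by simp⟩
    rw [SetLike.mem_coe, mem_center_iff]
    intro g
    have := (mem_center_iff.mp hx) (e g)
    simpa only [_root_.map_mul, _root_.MulEquiv.symm_apply_apply] using congrArg e.symm this

/-- an invariant `2`-subgroup `≠ 1` of the product of the `K`-orbit of a component -/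
theorem wt_of_comp {K : Subgroup Γ} (hK : IsCarter K)
    (hCC : ∀ (B : Type u) [Group B] [Finite B], Nat.card B < Nat.card Γ → CC B) {m : ℕ} (c : Comps Γ K m)
    (i : Fin m) (hq : IsQuasisimple (c.E i))
    (hN : ∀ (B : Type u) [Group B] [Finite B] (T R : Subgroup B), Nat.card B ≤ Nat.card Γ → AS B T R →
      Nonempty (↥(c.E i) ⧸ center ↥(c.E i) ≃* ↥T) → Wt 2 R T) : Wt 2 K c.N := by
  obtain ⟨B, _, _, T, R, f, h, hB⟩ := c.pass hK hCC i
  have hBG : Nat.card B ≤ Nat.card Γ := hB.trans (Subgroup.card_le_card_group _)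
  have : Fact (Nat.Prime 2) := ⟨Nat.prime_two⟩
  refine wt_comps c i (wt_pass h ?_)
  refine hN B T R hBG ⟨h.normal, h.simple hq.2, h.na (c.perf i) (c.ne i), h.cen, fun B' _ _ hB' =>
    hCC B' (hB'.trans_le hBG), h.carter, h.sup⟩ h.equiv

/-- **MAIN LEMMA.** -/
theorem exists_two (hG : GSys Pa d) (hI : BpGate.Inter Pa) (hopp : ∃ a b : Sylow 2 H0, (a : Subgroup H0) ⊓ b = ⊥)
    (ι : H0 ≃* H) {K : Subgroup Γ} (hK : IsCarter K)
    (hCC : ∀ (B : Type u) [Group B] [Finite B], Nat.card B ≤ Nat.card Γ → CC B)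
    (hFT : ∀ (B : Type u) [Group B] [Finite B], Odd (Nat.card B) → Group.IsSolvable B)
    (hN : ∀ J : Subgroup H0, IsComponent J → ∀ (B : Type u) [Group B] [Finite B] (T R : Subgroup B),
      Nat.card B ≤ Nat.card Γ → AS B T R → Nonempty (↥J ⧸ center ↥J ≃* ↥T) → Wt 2 R T)
    (he : 2 ∣ Nat.card H0) :
    ∃ Y : Subgroup Γ, Y ≤ H ∧ Y ≠ ⊥ ∧ IsPGroup 2 Y ∧ K ≤ normalizer (Y : Set Γ) := by
  by_cases hl : ∃ J : Subgroup H0, IsComponent J
  · obtain ⟨J, hJ⟩ := hl
    set! E : Subgroup Γ := J.map (H.subtype.comp ι.toMonoidHom) with hEdef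
    have hE : IsComponent E := by
      have h1 := Components.isComponent_map_subtype hHn.isSubnormal (Components.isComponent_map_equiv ι hJ)
      rwa [Subgroup.map_map] at h1
    have hEH : E ≤ H := by
      rintro _ ⟨y, -, rfl⟩
      exact (ι y).2
    obtain ⟨m, c, i, hi, hcN⟩ := exists_orbit K hE
    obtain ⟨P, hPN, hP1, hP, hPK⟩ := wt_of_comp hK (fun B _ _ hB => hCC B hB.le) c i (by rw [hi]; exact hE.2)
      (fun B _ _ T R hB hAS hT => hN J hJ B T R hB hAS (by
        obtain ⟨e1⟩ := quot_center_equiv (J.equivMapOfInjective (H.subtype.comp ι.toMonoidHom)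
          (H.subtype_injective.comp ι.injective))
        rw [hi] at hT
        obtain ⟨e2⟩ := hT
        exact ⟨e1.trans e2⟩))
    exact ⟨P, hPN.trans (hcN H hHn hEH), hP1, hP, hPK⟩
  · refine exists_two_of_layer hG hI hopp ι hK hCC he ?_
    rw [GenFitting.layer_def, sSup_eq_bot]
    intro J hJ
    exact absurd ⟨J, hJ⟩ hl

end Main

end Cfsg.Agent.H460.Car
end

-- part: H460/Car/Exc
section
/-!
# Gate systems: exceptional groups are not components (S3852, helper460)

`Exc T` collects properties of the simple groups `PSL_2(3^f)` and `2G2(3^f)`, `f ≥ 3` odd. A group with a gate system for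
the prime `2` has no component `J` with `Exc (J / Z(J))`.
-/

set_option autoImplicit false
set_option linter.unusedSectionVars false
set_option linter.unusedVariables false

namespace Cfsg.Agent.H460.Car

open Subgroup Pointwise
open Cfsg Cfsg.Agent.FixBN.Gates Cfsg.Agent.BpGate
open Cfsg.Agent.SignalizersComponents Cfsg.Agent.Lib
open Cfsg.Agent.H460.Car.Sol (Kr mem_Kr Kr_le mem_iff_Kr mem_Kr_smul)
open scoped commutatorElement

/-- properties of `PSL_2(3^f)`, `2G2(3^f)`, `f ≥ 3` odd -/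
structure Exc (T : Type*) [Group T] : Prop where
  ab : ∀ P : Sylow 2 T, ∀ x ∈ P, ∀ y ∈ P, x * y = y * x
  cent : ∀ (P : Sylow 2 T) (Q : Subgroup T), Q ≤ P → 2 * Nat.card Q = Nat.card P →
    ¬ 3 ∣ Nat.card (centralizer (Q : Set T))
  five : ¬ 5 ∣ Nat.card T
  aut : ∀ A : Subgroup (MulAut T), IsPGroup 2 A → Nat.card A ∣ 8
  nine : ¬ Nat.card T ∣ Nat.factorial 9

theorem Exc.congr {T T' : Type*} [Group T] [Group T'] (h : Exc T) (e : T ≃* T') [Finite T] : Exc T' := by
  have : Finite T' := Finite.of_equiv T e.toEquiv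
  have hc : Nat.card T' = Nat.card T := (Nat.card_congr e.toEquiv).symm
  have : Fact (Nat.Prime 2) := ⟨Nat.prime_two⟩
  refine ⟨?_, ?_, ?_, ?_, ?_⟩
  · intro P x hx y hy
    have h1 := h.ab (P.mapSurjective (f := e.symm.toMonoidHom) e.symm.surjective) (e.symm x) ⟨x, hx, rfl⟩
      (e.symm y) ⟨y, hy, rfl⟩
    rw [← map_mul, ← map_mul] at h1
    exact e.symm.injective h1
  · intro P Q hQ hc hd
    have e1 : ∀ R : Subgroup T', Nat.card ↥(R.map e.symm.toMonoidHom) = Nat.card R := fun R =>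
      (Nat.card_congr (R.equivMapOfInjective e.symm.toMonoidHom e.symm.injective).toEquiv).symm
    refine h.cent (P.mapSurjective (f := e.symm.toMonoidHom) e.symm.surjective) (Q.map e.symm.toMonoidHom)
      (Subgroup.map_mono hQ) ?_ ?_
    · rw [e1]
      show 2 * Nat.card Q = Nat.card ↥((P : Subgroup T').map e.symm.toMonoidHom)
      rw [e1, hc]
    · rw [← e1] at hd
      refine hd.trans (Subgroup.card_dvd_of_le ?_)
      rintro _ ⟨x, hx, rfl⟩
      rw [mem_centralizer_iff]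
      rintro _ ⟨y, hy, rfl⟩
      show e.symm y * e.symm x = e.symm x * e.symm y
      rw [← map_mul, ← map_mul, hx y hy]
  · rw [hc]; exact h.five
  · intro A hA
    let φ : MulAut T' ≃* MulAut T := MulAut.congr e.symm
    have h1 := h.aut (A.map φ.toMonoidHom) (hA.map _)
    rwa [← Nat.card_congr (A.equivMapOfInjective φ.toMonoidHom φ.injective).toEquiv] at h1
  · rw [hc]; exact h.nine

variable {H : Type*} [Group H] [Finite H] {Pa : Set (Set (Sylow 2 H))} {d : Sylow 2 H → Sylow 2 H → ℕ}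

section

variable {S : Set (Sylow 2 H)} {J : Subgroup H}

/-- elements centralising `J` fix the chambers which they do not move out of `S` -/
theorem fix_of_cen (hI : BpGate.Inter Pa) (hS : S ∈ Pa) {b : Sylow 2 H} (hb : b ∈ S) (hA : Ac S b J) {z : H}
    (hz : z ∈ centralizer (J : Set H)) (hzb : z • b ∈ S) : z • b = b := by
  by_contra hne
  obtain ⟨u, hu, huJ, b1, hb1, hub⟩ := hA
  apply hub
  have h1 : u ∈ (z • b : Sylow 2 H) := by
    rw [mem_smul_iff]
    have h2 := hz u huJ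
    have e1 : z⁻¹ * u * z = u := by rw [mul_assoc, h2]; group
    rw [e1]
    exact hu
  exact hI S hS b hb (z • b) hzb (Ne.symm hne) u hu h1 b1 hb1

/-- `J` contains an element stabilising `S` and moving `a` -/
theorem exists_move (hG : GSys Pa d) (hI : BpGate.Inter Pa) (hS : S ∈ Pa) {a b : Sylow 2 H} (ha : a ∈ S) (hb : b ∈ S)
    (hab : b ≠ a) (hA : Ac S b J) : ∃ w ∈ b, w ∈ J ∧ w • S = S ∧ w • a ≠ a := by
  obtain ⟨w, hw, hwJ, b1, hb1, hwb⟩ := hA
  refine ⟨w, hw, hwJ, hG.self S hS b hb w hw, fun h => hwb ?_⟩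
  exact hI S hS b hb a ha hab w hw (mem_of_smul_eq hw h) b1 hb1

theorem cen_le_Kr (hG : GSys Pa d) (hI : BpGate.Inter Pa) (hS : S ∈ Pa) {a b : Sylow 2 H} (ha : a ∈ S) (hb : b ∈ S)
    (hab : b ≠ a) (hA : Ac S b J) {u : H} (hu : u ∈ a) (huJ : u ∈ centralizer (J : Set H)) : u ∈ Kr S := by
  obtain ⟨w, hw, hwJ, hwS, hwa⟩ := exists_move hG hI hS ha hb hab hA
  have h1 : u ∈ (w • a : Sylow 2 H) := by
    rw [mem_smul_iff]
    have h2 := huJ w hwJ
    have e1 : w⁻¹ * u * w = u := by rw [mul_assoc, ← h2]; group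
    rw [e1]
    exact hu
  have hwaS : w • a ∈ S := by rw [← hwS]; exact Set.smul_mem_smul_set ha
  exact mem_Kr.2 fun e he => hI S hS a ha (w • a) hwaS (Ne.symm hwa) u hu h1 e he

/-- the number of chambers of a panel -/
theorem card_panel (hG : GSys Pa d) (hI : BpGate.Inter Pa) (hS : S ∈ Pa) {a : Sylow 2 H} (ha : a ∈ S) :
    S.ncard = 1 + ((Kr S).subgroupOf (a : Subgroup H)).index := by
  obtain ⟨b, hb, hba, -⟩ := hG.three S hS a ha a ha
  have h1 : MulAction.orbit ↥(a : Subgroup H) b = S \ {a} := by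
    ext e
    constructor
    · rintro ⟨u, rfl⟩
      have huS := hG.self S hS a ha u u.2
      refine ⟨?_, ?_⟩
      · show (u : H) • b ∈ S
        rw [← huS]
        exact Set.smul_mem_smul_set hb
      · intro h
        apply hba
        have h2 : (u : H) • b = a := h
        have h3 : (u : H) • a = a := smul_self u.2
        exact smul_left_cancel (u : H) (h2.trans h3.symm)
    · rintro ⟨he, hea⟩
      obtain ⟨u, hu, -, hue⟩ := (hG.gate_self hS ha).tr b hb e he hba (fun h => hea h)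
      exact ⟨⟨u, hu⟩, hue⟩
  have h2 : MulAction.stabilizer ↥(a : Subgroup H) b = (Kr S).subgroupOf (a : Subgroup H) := by
    ext u
    rw [MulAction.mem_stabilizer_iff, mem_subgroupOf]
    constructor
    · intro h
      have h3 : (u : H) ∈ b := mem_of_smul_eq u.2 h
      exact mem_Kr.2 fun e he => hI S hS a ha b hb (Ne.symm hba) u u.2 h3 e he
    · intro h
      exact smul_self (mem_Kr.1 h b hb)
  rw [← h2, MulAction.index_stabilizer, h1, Set.ncard_diff_singleton_of_mem ha]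
  have h3 : 0 < S.ncard := Set.ncard_pos (Set.toFinite _) |>.2 ⟨a, ha⟩
  omega

theorem card_ge (hG : GSys Pa d) (hS : S ∈ Pa) {a : Sylow 2 H} (ha : a ∈ S) : 3 ≤ S.ncard := by
  obtain ⟨b, hb, hba, -⟩ := hG.three S hS a ha a ha
  obtain ⟨c, hc, hca, hcb⟩ := hG.three S hS a ha b hb
  have h1 : ({a, b, c} : Set (Sylow 2 H)).ncard = 3 :=
    Set.ncard_eq_three.2 ⟨a, b, c, Ne.symm hba, Ne.symm hca, Ne.symm hcb, rfl⟩
  rw [← h1]
  refine Set.ncard_le_ncard ?_ (Set.toFinite _)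
  rintro x (rfl | rfl | rfl)
  · exact ha
  · exact hb
  · exact hc

end

section

variable {S : Set (Sylow 2 H)} {J : Subgroup H} {a : Sylow 2 H}

/-- the stabiliser of `S` in `J` -/
def JS (S : Set (Sylow 2 H)) (J : Subgroup H) : Subgroup J := MulAction.stabilizer J S

theorem mem_JS {j : J} : j ∈ JS S J ↔ (j : H) • S = S := MulAction.mem_stabilizer_iff

/-- a subgroup of the stabiliser of `S` in `J` which is transitive on `S`: `|S|` divides the order of its image -/
theorem ncard_dvd (hI : BpGate.Inter Pa) (hS : S ∈ Pa) (ha : a ∈ S) (hA : Ac S a J) {M : Subgroup J} (hM : M ≤ JS S J)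
    (htr : ∀ b ∈ S, ∃ j ∈ M, (j : H) • a = b) :
    S.ncard ∣ Nat.card ↥(M.map (QuotientGroup.mk' (center J))) := by
  have h1 : MulAction.orbit M a = S := by
    ext e
    constructor
    · rintro ⟨j, rfl⟩
      have h2 := mem_JS.1 (hM j.2)
      show ((j : J) : H) • a ∈ S
      rw [← h2]
      exact Set.smul_mem_smul_set ha
    · intro he
      obtain ⟨j, hj, h⟩ := htr e he
      exact ⟨⟨j, hj⟩, h⟩
  let ψ : M →* J ⧸ center J := (QuotientGroup.mk' (center J)).comp M.subtype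
  have h2 : ψ.ker ≤ MulAction.stabilizer M a := by
    intro j hj
    have h3 : (j : J) ∈ center J := (QuotientGroup.eq_one_iff (j : J)).1 hj
    have h4 : ((j : J) : H) ∈ centralizer (J : Set H) := by
      rw [mem_centralizer_iff]
      intro y hy
      exact congrArg Subtype.val (mem_center_iff.1 h3 ⟨y, hy⟩)
    rw [MulAction.mem_stabilizer_iff]
    refine fix_of_cen hI hS ha hA h4 ?_
    have h5 := mem_JS.1 (hM j.2)
    rw [← h5]
    exact Set.smul_mem_smul_set ha
  have h3 : ψ.range = M.map (QuotientGroup.mk' (center J)) := by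
    rw [MonoidHom.range_comp, range_subtype]
  rw [← h3, ← Subgroup.index_ker, ← h1, ← MulAction.index_stabilizer]
  exact Subgroup.index_dvd_of_le h2

/-- `J` is transitive on `S` -/
theorem JS_tr (hG : GSys Pa d) (hI : BpGate.Inter Pa) (hS : S ∈ Pa) (ha : a ∈ S) (hA : ∀ b ∈ S, Ac S b J)
    (hn : ∀ b : Sylow 2 H, (b : Subgroup H) ≤ normalizer (J : Set H)) :
    ∀ b ∈ S, ∃ j ∈ JS S J, (j : H) • a = b := by
  obtain ⟨b0, hb0, hb0a, -⟩ := hG.three S hS a ha a ha
  obtain ⟨w, hw, hwJ, hwS, hwa⟩ := exists_move hG hI hS ha hb0 hb0a (hA b0 hb0)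
  have hwaS : w • a ∈ S := by rw [← hwS]; exact Set.smul_mem_smul_set ha
  intro b hb
  by_cases hba : b = a
  · exact ⟨1, one_mem _, by rw [hba, Subgroup.coe_one, one_smul]⟩
  obtain ⟨u, hu, huS, hub⟩ := (hG.gate_self hS ha).tr (w • a) hwaS b hb hwa hba
  have huS' : u⁻¹ • S = S := by rw [inv_smul_eq_iff, huS]
  refine ⟨⟨u * w * u⁻¹, (mem_normalizer_iff.1 (hn a hu) w).1 hwJ⟩, ?_, ?_⟩
  · rw [mem_JS]
    show (u * w * u⁻¹) • S = S
    rw [mul_smul, mul_smul, huS', hwS, huS]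
  · show (u * w * u⁻¹) • a = b
    rw [mul_smul, mul_smul, inv_smul_self hu, hub]

/-- the index of `Kr S` divides `|a / C_a(J)|` -/
theorem exists_rho (hJ : IsComponent J) (hn : (a : Subgroup H) ≤ normalizer (J : Set H)) :
    ∃ ρ : ↥(a : Subgroup H) →* MulAut (J ⧸ center J), ∀ u : ↥(a : Subgroup H), u ∈ ρ.ker ↔
      (u : H) ∈ centralizer (J : Set H) := by
  refine ⟨((Cfsg.Agent.Schreier.Balance.quoAut J).comp J.normalizerMonoidHom).comp (Subgroup.inclusion hn),
    fun u => ?_⟩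
  rw [MonoidHom.mem_ker, MonoidHom.comp_apply, MonoidHom.comp_apply,
    map_eq_one_iff _ (Cfsg.Agent.Schreier.Balance.quoAut_injective hJ.2.1)]
  constructor
  · intro h
    rw [mem_centralizer_iff]
    intro y hy
    have h1 := congrArg (fun φ : MulAut J => ((φ ⟨y, hy⟩ : J) : H)) h
    have h2 : (u : H) * y * (u : H)⁻¹ = y := h1
    rw [mul_inv_eq_iff_eq_mul] at h2
    exact h2.symm
  · intro h
    apply MulEquiv.ext
    intro y
    apply Subtype.ext
    show (u : H) * y * (u : H)⁻¹ = y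
    rw [mul_inv_eq_iff_eq_mul]
    exact (h y y.2).symm

/-- **EXC.** -/
theorem not_exc (hG : GSys Pa d) (hI : BpGate.Inter Pa) (hopp : ∃ a b : Sylow 2 H, (a : Subgroup H) ⊓ b = ⊥)
    (hJ : IsComponent J) (h2 : 2 ∣ Nat.card J) : ¬ Exc (J ⧸ center J) := by
  intro hE
  have hf2 : Fact (Nat.Prime 2) := ⟨Nat.prime_two⟩
  obtain ⟨a⟩ : Nonempty (Sylow 2 H) := inferInstance
  obtain ⟨S, hS, ha, hAa⟩ := in_all hG hI hopp (J := J) ⟨hJ, h2⟩ a
  have hA : ∀ b ∈ S, Ac S b J := fun b hb => hAa.all hG hI hS ⟨hJ, h2⟩ ha hb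
  have hn : ∀ b : Sylow 2 H, (b : Subgroup H) ≤ normalizer (J : Set H) := fun b =>
    (le_Hp b).trans (Hp_le_normalizer hG hI hopp ⟨hJ, h2⟩)
  obtain ⟨b, hb, hba, -⟩ := hG.three S hS a ha a ha
  obtain ⟨ρ, hρ⟩ := exists_rho hJ (hn a)
  have hker : ρ.ker ≤ (Kr S).subgroupOf (a : Subgroup H) := by
    intro u hu
    rw [mem_subgroupOf]
    exact cen_le_Kr hG hI hS ha hb hba (hA b hb) u.2 ((hρ u).1 hu)
  have h8 : ρ.ker.index ∣ 8 := by
    rw [Subgroup.index_ker]
    exact hE.aut _ (a.isPGroup'.of_surjective ρ.rangeRestrict ρ.rangeRestrict_surjective)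
  have hidx : ((Kr S).subgroupOf (a : Subgroup H)).index ∣ 8 := (Subgroup.index_dvd_of_le hker).trans h8
  have hcard := card_panel hG hI hS ha
  have hge := card_ge hG hS ha
  have hcases : S.ncard = 3 ∨ S.ncard = 5 ∨ S.ncard = 9 := by
    have h3 : ((Kr S).subgroupOf (a : Subgroup H)).index ≤ 8 := Nat.le_of_dvd (by norm_num) hidx
    interval_cases h : ((Kr S).subgroupOf (a : Subgroup H)).index <;> (clear * - hidx hge hcard; omega)
  rcases hcases with h | h | h
  · -- three chambers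
    obtain ⟨c, hc, hca, hcb⟩ := hG.three S hS a ha b hb
    have hSe : ({a, b, c} : Set (Sylow 2 H)) = S := by
      refine Set.eq_of_subset_of_ncard_le ?_ ?_ (Set.toFinite _)
      · rintro x (rfl | rfl | rfl)
        · exact ha
        · exact hb
        · exact hc
      · rw [h, Set.ncard_eq_three.2 ⟨a, b, c, Ne.symm hba, Ne.symm hca, Ne.symm hcb, rfl⟩]
    have hS3 : ∀ e ∈ S, e = a ∨ e = b ∨ e = c := by
      intro e he
      rw [← hSe] at he
      exact he
    set! π := QuotientGroup.mk' (center J) with hπ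
    have hsyl : ∀ e : Sylow 2 H, ∃ P : Sylow 2 (J ⧸ center J), (P : Subgroup (J ⧸ center J)) =
        ((e : Subgroup H).subgroupOf J).map π := by
      intro e
      have h3 : ¬ 2 ∣ ((e : Subgroup H).subgroupOf J).index := fun h =>
        e.not_dvd_index (h.trans (PCompCore.relIndex_dvd_index_of_subnormal _ hJ.1))
      have h4 : IsPGroup 2 ((e : Subgroup H).subgroupOf J) := e.isPGroup'.comap_of_injective _ J.subtype_injective
      exact ⟨(h4.toSylow h3).mapSurjective (QuotientGroup.mk'_surjective (center J)), rfl⟩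
    -- `M` generated by the `e ⊓ J`
    set! M : Subgroup J := (a : Subgroup H).subgroupOf J ⊔ (b : Subgroup H).subgroupOf J ⊔
      (c : Subgroup H).subgroupOf J with hM
    have hMJ : M ≤ JS S J := by
      have h3 : ∀ e ∈ S, (e : Subgroup H).subgroupOf J ≤ JS S J := fun e he j hj =>
        mem_JS.2 (hG.self S hS e he j hj)
      exact sup_le (sup_le (h3 a ha) (h3 b hb)) (h3 c hc)
    have hmv : ∀ e ∈ S, ∀ f ∈ S, a ≠ e → a ≠ f → e ≠ f → ∃ j ∈ (f : Subgroup H).subgroupOf J, (j : H) • a = e := by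
      intro e he f hf hae haf hef
      obtain ⟨w, hw, hwJ, hwS, hwa⟩ := exists_move hG hI hS ha hf (Ne.symm haf) (hA f hf)
      refine ⟨⟨w, hwJ⟩, hw, ?_⟩
      show w • a = e
      have h3 : w • a ∈ S := by rw [← hwS]; exact Set.smul_mem_smul_set ha
      have h4 : w • a ≠ f := by
        intro h5
        apply haf
        have h6 : w • f = f := smul_self hw
        exact smul_left_cancel w (h5.trans h6.symm)
      have h5 : ∀ x ∈ S, x = a ∨ x = e ∨ x = f := by
        intro x hx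
        have hSe' : ({a, e, f} : Set (Sylow 2 H)) = S := by
          refine Set.eq_of_subset_of_ncard_le ?_ ?_ (Set.toFinite _)
          · rintro x (rfl | rfl | rfl)
            · exact ha
            · exact he
            · exact hf
          · rw [h, Set.ncard_eq_three.2 ⟨a, e, f, hae, haf, hef, rfl⟩]
        rw [← hSe'] at hx
        exact hx
      rcases h5 _ h3 with h6 | h6 | h6
      · exact absurd h6 hwa
      · exact h6
      · exact absurd h6 h4
    have hMtr : ∀ e ∈ S, ∃ j ∈ M, (j : H) • a = e := by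
      intro e he
      rcases hS3 e he with rfl | rfl | rfl
      · exact ⟨1, one_mem _, by rw [Subgroup.coe_one, one_smul]⟩
      · obtain ⟨j, hj, h3⟩ := hmv e he c hc (Ne.symm hba) (Ne.symm hca) (Ne.symm hcb)
        exact ⟨j, mem_sup_right hj, h3⟩
      · obtain ⟨j, hj, h3⟩ := hmv e he b hb (Ne.symm hca) (Ne.symm hba) hcb
        exact ⟨j, mem_sup_left (mem_sup_right hj), h3⟩
    have h3d := ncard_dvd hI hS ha hAa hMJ hMtr
    rw [h, ← hπ] at h3d
    set! κ : Subgroup (J ⧸ center J) := ((Kr S).subgroupOf J).map π with hκ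
    have hκe : ∀ e ∈ S, κ ≤ ((e : Subgroup H).subgroupOf J).map π := fun e he =>
      Subgroup.map_mono (Subgroup.comap_mono (Kr_le he))
    have hcen : ∀ e ∈ S, ((e : Subgroup H).subgroupOf J).map π ≤ centralizer (κ : Set (J ⧸ center J)) := by
      intro e he x hx
      obtain ⟨P, hP⟩ := hsyl e
      rw [mem_centralizer_iff]
      intro y hy
      have hy' : y ∈ P := by
        show y ∈ (P : Subgroup (J ⧸ center J))
        rw [hP]
        exact hκe e he hy
      have hx' : x ∈ P := by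
        show x ∈ (P : Subgroup (J ⧸ center J))
        rw [hP]
        exact hx
      exact hE.ab P y hy' x hx'
    have hMc : M.map π ≤ centralizer (κ : Set (J ⧸ center J)) := by
      rw [hM, Subgroup.map_sup, Subgroup.map_sup]
      exact sup_le (sup_le (hcen a ha) (hcen b hb)) (hcen c hc)
    obtain ⟨P, hP⟩ := hsyl a
    refine hE.cent P κ (by rw [hP]; exact hκe a ha) ?_ (h3d.trans (Subgroup.card_dvd_of_le hMc))
    -- the index of `κ`
    have hKr : ∀ v ∈ a, v ∉ Kr S → ∀ e ∈ S, e ≠ a → v • e ≠ e := by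
      intro v hv hvS e he hea h3
      exact hvS (mem_Kr.2 fun f hf => hI S hS a ha e he (Ne.symm hea) v hv (mem_of_smul_eq hv h3) f hf)
    have hsw : ∀ v ∈ a, v ∉ Kr S → v • b = c ∧ v • c = b := by
      intro v hv hvS
      have h3 : ∀ e ∈ S, e ≠ a → v • e ∈ S ∧ v • e ≠ a := by
        intro e he hea
        refine ⟨?_, fun h4 => hea ?_⟩
        · have h4 : v • e ∈ v • S := Set.smul_mem_smul_set he
          rwa [hG.self S hS a ha v hv] at h4
        · exact smul_left_cancel v (h4.trans (smul_self hv).symm)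
      obtain ⟨h4, h5⟩ := h3 b hb hba
      obtain ⟨h6, h7⟩ := h3 c hc hca
      constructor
      · rcases hS3 _ h4 with h8 | h8 | h8
        · exact absurd h8 h5
        · exact absurd h8 (hKr v hv hvS b hb hba)
        · exact h8
      · rcases hS3 _ h6 with h8 | h8 | h8
        · exact absurd h8 h7
        · exact h8
        · exact absurd h8 (hKr v hv hvS c hc hca)
    have hrel : κ.relIndex (P : Subgroup (J ⧸ center J)) = 2 := by
      rw [Subgroup.relIndex_eq_two_iff_exists_notMem_and, hP]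
      obtain ⟨u, hu, huJ, e, he, hue⟩ := hAa
      have huS : u ∉ Kr S := fun h3 => hue (mem_Kr.1 h3 e he)
      refine ⟨π ⟨u, huJ⟩, ⟨⟨u, huJ⟩, hu, rfl⟩, ?_, ?_⟩
      · rintro ⟨k, hk, hku⟩
        apply huS
        have h3 : k⁻¹ * ⟨u, huJ⟩ ∈ center J := QuotientGroup.eq.1 hku
        have h4 : (k : H)⁻¹ * u ∈ centralizer (J : Set H) := by
          rw [mem_centralizer_iff]
          intro y hy
          exact congrArg Subtype.val (mem_center_iff.1 h3 ⟨y, hy⟩)
        have hkS : (k : H) ∈ Kr S := hk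
        have h5 : (k : H)⁻¹ * u ∈ Kr S := cen_le_Kr hG hI hS ha hb hba (hA b hb)
          (mul_mem (inv_mem (Kr_le ha hkS)) hu) h4
        have h6 := mul_mem hkS h5
        rwa [mul_inv_cancel_left] at h6
      · rintro _ ⟨v, hv, rfl⟩
        have hva : (v : H) ∈ a := hv
        by_cases hvS : (v : H) ∈ Kr S
        · exact Or.inr ⟨v, hvS, rfl⟩
        · left
          refine ⟨v * ⟨u, huJ⟩, ?_, map_mul _ _ _⟩
          show (v : H) * u ∈ Kr S
          by_contra h3
          have h4 : ((v : H) * u) • b = b := by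
            rw [mul_smul, (hsw u hu huS).1, (hsw v hva hvS).2]
          exact hKr _ (mul_mem hva hu) h3 b hb hba h4
    have h3 := Subgroup.card_mul_index (κ.subgroupOf (P : Subgroup (J ⧸ center J)))
    have h4 : (κ.subgroupOf (P : Subgroup (J ⧸ center J))).index = 2 := hrel
    have h5 : Nat.card ↥(κ.subgroupOf (P : Subgroup (J ⧸ center J))) = Nat.card κ :=
      Nat.card_congr (subgroupOfEquivOfLe (by rw [hP]; exact hκe a ha)).toEquiv
    rw [h4, h5] at h3
    show 2 * Nat.card κ = Nat.card ↥(P : Subgroup (J ⧸ center J))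
    omega
  · -- five chambers
    apply hE.five
    have h3 := ncard_dvd hI hS ha hAa (M := JS S J) le_rfl (JS_tr hG hI hS ha hA hn)
    rw [h] at h3
    exact h3.trans (Subgroup.card_subgroup_dvd_card _)
  · -- nine chambers
    have hi : ((Kr S).subgroupOf (a : Subgroup H)).index = 8 := by omega
    have hi2 : ρ.ker.index = 8 := by
      refine Nat.dvd_antisymm h8 ?_
      rw [← hi]
      exact Subgroup.index_dvd_of_le hker
    have hle : (Kr S).subgroupOf (a : Subgroup H) ≤ ρ.ker := by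
      have h3 := Subgroup.relIndex_mul_index hker
      rw [hi, hi2] at h3
      exact Subgroup.relIndex_eq_one.1 (by omega)
    have hKc : ∀ u ∈ Kr S, u ∈ centralizer (J : Set H) := fun u hu =>
      (hρ ⟨u, Kr_le ha hu⟩).1 (hle (mem_subgroupOf.2 hu))
    have hJSm : ∀ (j : J) (e : Sylow 2 H), e ∈ S → j • e ∈ S := by
      intro j e he
      show (j : H) • e ∈ S
      rw [mem_iff_Kr hG hS]
      intro u hu
      show u ∈ ((j : H) • e : Sylow 2 H)
      rw [mem_smul_iff]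
      have h3 := hKc u hu j j.2
      have e1 : (j : H)⁻¹ * u * j = u := by rw [mul_assoc, ← h3]; group
      rw [e1]
      exact mem_Kr.1 hu e he
    let S' : SubMulAction J (Sylow 2 H) := ⟨S, fun j {e} he => hJSm j e he⟩
    let φ : J →* Equiv.Perm S' := MulAction.toPermHom J S'
    have hφ : φ.ker ≤ center J := by
      rcases Components.quasisimple_normal hJ.2 φ.ker inferInstance with h3 | h3
      · exfalso
        obtain ⟨w, hw, hwJ, hwS, hwa⟩ := exists_move hG hI hS ha hb hba (hA b hb)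
        have h4 : (⟨w, hwJ⟩ : J) ∈ φ.ker := by rw [h3]; trivial
        rw [MonoidHom.mem_ker] at h4
        have h5 := congrArg (fun σ : Equiv.Perm S' => ((σ ⟨a, ha⟩ : S') : Sylow 2 H)) h4
        exact hwa h5
      · exact h3
    apply hE.nine
    have h3 : Nat.card (J ⧸ center J) ∣ Nat.card φ.range := by
      rw [← Subgroup.index_ker, ← Subgroup.index_eq_card]
      exact Subgroup.index_dvd_of_le hφ
    have h4 : Nat.card φ.range ∣ Nat.card (Equiv.Perm S') := Subgroup.card_subgroup_dvd_card _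
    have h5 : Nat.card (Equiv.Perm S') = Nat.factorial 9 := by
      rw [Nat.card_perm]
      congr 1
    rw [← h5]
    exact h3.trans h4

end

end Cfsg.Agent.H460.Car

namespace Cfsg.Agent.H460.Car

open Subgroup Pointwise
open Cfsg Cfsg.Agent.FixBN.Gates Cfsg.Agent.BpGate
open Cfsg.Agent.Solvable.Carter Cfsg.Agent.H18.Carter
open Cfsg.Agent.SignalizersComponents

universe u

/-- **MAIN LEMMA**, second form. -/
theorem exists_two' {Γ : Type u} [Group Γ] [Finite Γ] {H : Subgroup Γ} [hHn : H.Normal] {H0 : Type u} [Group H0]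
    [Finite H0] {Pa : Set (Set (Sylow 2 H0))} {d : Sylow 2 H0 → Sylow 2 H0 → ℕ} (hG : GSys Pa d)
    (hI : BpGate.Inter Pa) (hopp : ∃ a b : Sylow 2 H0, (a : Subgroup H0) ⊓ b = ⊥)
    (ι : H0 ≃* H) {K : Subgroup Γ} (hK : IsCarter K)
    (hCC : ∀ (B : Type u) [Group B] [Finite B], Nat.card B ≤ Nat.card Γ → CC B)
    (hFT : ∀ (B : Type u) [Group B] [Finite B], Odd (Nat.card B) → Group.IsSolvable B)
    (hN : ∀ (B : Type u) [Group B] [Finite B] (T R : Subgroup B), Nat.card B ≤ Nat.card Γ → AS B T R → ¬ Exc ↥T →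
      Wt 2 R T) (he : 2 ∣ Nat.card H0) :
    ∃ Y : Subgroup Γ, Y ≤ H ∧ Y ≠ ⊥ ∧ IsPGroup 2 Y ∧ K ≤ normalizer (Y : Set Γ) := by
  refine exists_two hG hI hopp ι hK hCC hFT (fun J hJ B _ _ T R hB hAS hT => hN B T R hB hAS fun hE => ?_) he
  obtain ⟨e⟩ := hT
  have h2 : 2 ∣ Nat.card J := by
    by_contra h
    rw [← even_iff_two_dvd, Nat.not_even_iff_odd] at h
    exact Components.quasisimple_not_isSolvable hJ.2 (hFT _ h)
  exact not_exc hG hI hopp hJ h2 (hE.congr e.symm)

end Cfsg.Agent.H460.Car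
end

-- part: H460/Car/Par
section
/-!
# Quotients of parabolic subgroups of split (B,N)-pairs (S3852, helper460)

`hasSplit_quot` : `P` a split (B,N)-pair of characteristic `p` of `K`, `J` a non-empty set of distinguished
representatives, `f` a surjective homomorphism from the parabolic subgroup `P_J` whose kernel is the largest normal
subgroup of `P_J` in `B`: then the image of `f` has a split (B,N)-pair of characteristic `p`.
-/

set_option autoImplicit false
set_option linter.unusedSectionVars false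
set_option linter.unusedVariables false

namespace Cfsg.Agent.H460.Car.Par

open Cfsg Cfsg.Agent.FixBN Cfsg.Agent.Schreier.BNSch Subgroup

variable {K Q : Type*} [Group K] [Group Q] {P : BNPair K} {J : Set K}

/-- the image of a subgroup of `K` -/
def im (f : ↥(P.parabolic J) →* Q) (A : Subgroup K) : Subgroup Q := (A.subgroupOf (P.parabolic J)).map f

theorem im_mono (f : ↥(P.parabolic J) →* Q) {A A' : Subgroup K} (h : A ≤ A') : im f A ≤ im f A' := by
  rintro _ ⟨x, hx, rfl⟩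
  exact ⟨x, h hx, rfl⟩

/-- the monomial subgroup of the parabolic subgroup -/
def NJ (P : BNPair K) (J : Set K) : Subgroup K := _root_.Subgroup.closure J ⊔ (P.B ⊓ P.N)

theorem B_le : P.B ≤ P.parabolic J := le_sup_left

theorem NJ_le : NJ P J ≤ P.parabolic J := sup_le le_sup_right (inf_le_left.trans B_le)

theorem NJ_le_N (hJ : J ⊆ P.S) : NJ P J ≤ P.N :=
  sup_le ((closure_le _).2 (hJ.trans P.subset)) inf_le_right

theorem J_sub {s : K} (hs : s ∈ J) : s ∈ P.parabolic J := mem_sup_right (_root_.Subgroup.subset_closure hs)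

theorem J_sub_NJ {s : K} (hs : s ∈ J) : s ∈ NJ P J := mem_sup_left (_root_.Subgroup.subset_closure hs)

theorem inf_le_NJ : P.B ⊓ P.N ≤ NJ P J := le_sup_right

section

variable (f : ↥(P.parabolic J) →* Q) (hker : ∀ x, f x = 1 → (x : K) ∈ P.B)

include hker in
theorem mem_B_of_im {x : ↥(P.parabolic J)} (h : f x ∈ im f P.B) : (x : K) ∈ P.B := by
  obtain ⟨b, hb, hbx⟩ := h
  have h1 : f (b⁻¹ * x) = 1 := by rw [map_mul, map_inv, hbx, inv_mul_cancel]
  have h2 : (b : K)⁻¹ * (x : K) ∈ P.B := hker _ h1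
  have hb' : (b : K) ∈ P.B := hb
  have h3 := mul_mem hb' h2
  rwa [mul_inv_cancel_left] at h3

include hker in
theorem exists_of_inf {t : Q} (ht : t ∈ im f P.B ⊓ im f (NJ P J)) :
    ∃ m : ↥(P.parabolic J), (m : K) ∈ P.B ∧ (m : K) ∈ NJ P J ∧ f m = t := by
  obtain ⟨h1, m, hm, rfl⟩ := ht
  exact ⟨m, mem_B_of_im f hker h1, hm, rfl⟩

/-- **The quotient (B,N)-pair.** -/
def quot (hJ : J ⊆ P.S) (hf : Function.Surjective f) : BNPair Q where
  B := im f P.B
  N := im f (NJ P J)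
  S := {q | ∃ x : ↥(P.parabolic J), (x : K) ∈ J ∧ f x = q}
  sup_eq_top := by
    have h1 : P.B.subgroupOf (P.parabolic J) ⊔ (NJ P J).subgroupOf (P.parabolic J) = ⊤ := by
      rw [← subgroupOf_sup B_le NJ_le, subgroupOf_eq_top]
      refine sup_le le_sup_left ?_
      exact (le_sup_left : closure J ≤ NJ P J).trans le_sup_right
    show (P.B.subgroupOf (P.parabolic J)).map f ⊔ ((NJ P J).subgroupOf (P.parabolic J)).map f = ⊤
    rw [← Subgroup.map_sup, h1, map_top_of_surjective f hf]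
  conj_mem := by
    rintro _ ⟨x, hx, rfl⟩ t ht
    obtain ⟨m, hmB, hmN, rfl⟩ := exists_of_inf f hker ht
    refine ⟨x * m * x⁻¹, ?_, by rw [map_mul, map_mul, map_inv]⟩
    exact P.conj_mem x (NJ_le_N hJ hx) m ⟨hmB, NJ_le_N hJ hmN⟩
  subset := by
    rintro _ ⟨x, hx, rfl⟩
    exact ⟨x, J_sub_NJ hx, rfl⟩
  sq_mem := by
    rintro _ ⟨x, hx, rfl⟩
    exact ⟨x * x, P.sq_mem x (hJ hx), map_mul _ _ _⟩
  inj := by
    rintro _ ⟨x, hx, rfl⟩ _ ⟨y, hy, rfl⟩ h
    rw [← map_inv, ← map_mul] at h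
    have h1 : (x : K)⁻¹ * (y : K) ∈ P.B := mem_B_of_im f hker h
    rw [Subtype.ext (P.inj x (hJ hx) y (hJ hy) h1)]
  closure_sup := by
    set S' : Set Q := {q | ∃ x : ↥(P.parabolic J), (x : K) ∈ J ∧ f x = q} with hS'
    apply le_antisymm
    · refine sup_le ((closure_le _).2 ?_) inf_le_right
      rintro _ ⟨x, hx, rfl⟩
      exact ⟨x, J_sub_NJ hx, rfl⟩
    · have h1 : NJ P J ≤ ((_root_.Subgroup.closure S' ⊔ (im f P.B ⊓ im f (NJ P J))).comap f).map (P.parabolic J).subtype := by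
        refine sup_le ((closure_le _).2 fun s hs => ?_) fun t ht => ?_
        · exact ⟨⟨s, J_sub hs⟩, mem_sup_left (subset_closure ⟨⟨s, J_sub hs⟩, hs, rfl⟩), rfl⟩
        · have h2 : t ∈ P.parabolic J := B_le ht.1
          exact ⟨⟨t, h2⟩, mem_sup_right ⟨⟨⟨t, h2⟩, ht.1, rfl⟩, ⟨⟨t, h2⟩, inf_le_NJ ht, rfl⟩⟩, rfl⟩
      rintro _ ⟨x, hx, rfl⟩
      obtain ⟨y, hy, hyx⟩ := h1 hx
      have h2 : y = x := Subtype.ext hyx
      rw [← h2]
      exact hy
  mul_mem_union := by
    rintro _ ⟨x, hx, rfl⟩ _ ⟨y, hy, rfl⟩ _ ⟨c, hc, rfl⟩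
    rcases P.mul_mem_union x (hJ hx) y (NJ_le_N hJ hy) c hc with h | h
    · left
      rw [DoubleCoset.mem_doubleCoset] at h ⊢
      obtain ⟨b1, h1, b2, h2, h3⟩ := h
      refine ⟨f ⟨b1, B_le h1⟩, ⟨⟨b1, B_le h1⟩, h1, rfl⟩, f ⟨b2, B_le h2⟩, ⟨⟨b2, B_le h2⟩, h2, rfl⟩, ?_⟩
      rw [← map_mul, ← map_mul, ← map_mul, ← map_mul, ← map_mul]
      exact congrArg f (Subtype.ext h3)
    · right
      rw [DoubleCoset.mem_doubleCoset] at h ⊢
      obtain ⟨b1, h1, b2, h2, h3⟩ := h
      refine ⟨f ⟨b1, B_le h1⟩, ⟨⟨b1, B_le h1⟩, h1, rfl⟩, f ⟨b2, B_le h2⟩, ⟨⟨b2, B_le h2⟩, h2, rfl⟩, ?_⟩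
      rw [← map_mul, ← map_mul, ← map_mul, ← map_mul]
      exact congrArg f (Subtype.ext h3)
  conj_ne := by
    rintro _ ⟨x, hx, rfl⟩ h
    apply P.conj_ne x (hJ hx)
    ext c
    constructor
    · rintro ⟨b, hb, rfl⟩
      have h1 : f (x * ⟨b, B_le hb⟩ * x) ∈ im f P.B := by
        have h2 : f x * f ⟨b, B_le hb⟩ * f x ∈ ((im f P.B : Subgroup Q) : Set Q) := by
          rw [← h]
          exact ⟨f ⟨b, B_le hb⟩, ⟨⟨b, B_le hb⟩, hb, rfl⟩, rfl⟩
        rw [map_mul, map_mul]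
        exact h2
      exact mem_B_of_im f hker h1
    · intro hc
      have h1 : f ⟨c, B_le hc⟩ ∈ ((im f P.B : Subgroup Q) : Set Q) := ⟨⟨c, B_le hc⟩, hc, rfl⟩
      rw [← h] at h1
      obtain ⟨_, ⟨b, hb, rfl⟩, h2⟩ := h1
      have h3 : f x * f b * f x = f ⟨c, B_le hc⟩ := h2
      have h4 : f ((x * b * x)⁻¹ * ⟨c, B_le hc⟩) = 1 := by
        rw [map_mul, map_inv, map_mul, map_mul, h3, inv_mul_cancel]
      have h5 : f (x * ((x * b * x)⁻¹ * ⟨c, B_le hc⟩) * x⁻¹) = 1 := by
        rw [map_mul, map_mul, h4, mul_one, map_inv, mul_inv_cancel]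
      have h6 := mul_mem hb (hker _ h5)
      refine ⟨_, h6, ?_⟩
      show (x : K) * ((b : K) * ((x : K) * (((x : K) * b * x)⁻¹ * c) * (x : K)⁻¹)) * x = c
      group

/-- **The quotient is split.** -/
theorem split_quot {p : ℕ} {U : Subgroup K} (hS : Split P p U) (hJ : J ⊆ P.S) (hf : Function.Surjective f)
    (hmax : ∀ C : Subgroup ↥(P.parabolic J), C.Normal → C ≤ P.B.subgroupOf (P.parabolic J) → C ≤ f.ker) :
    Split (quot f hker hJ hf) p (im f U) where
  le := im_mono f hS.le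
  norm := by
    rintro _ ⟨b, hb, rfl⟩ _ ⟨u, hu, rfl⟩
    exact ⟨b * u * b⁻¹, hS.norm b hb u hu, by rw [map_mul, map_mul, map_inv]⟩
  isP := (hS.isP.comap_of_injective _ (P.parabolic J).subtype_injective).map f
  cover := by
    rintro _ ⟨b, hb, rfl⟩
    obtain ⟨u, hu, hun⟩ := hS.cover b hb
    have huP : u ∈ P.parabolic J := B_le (hS.le hu)
    refine ⟨f ⟨u, huP⟩, ⟨⟨u, huP⟩, hu, rfl⟩, ⟨⟨u, huP⟩⁻¹ * b, ?_, by rw [map_mul, map_inv]⟩⟩
    exact inf_le_NJ ⟨P.B.mul_mem (P.B.inv_mem (hS.le hu)) hb, hun⟩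
  tor := by
    obtain ⟨m, hm, h1⟩ := hS.tor
    refine ⟨m, hm, fun t htB htN => ?_⟩
    obtain ⟨y, hyB, hyN, rfl⟩ := exists_of_inf f hker ⟨htB, htN⟩
    rw [← map_pow]
    have h2 : y ^ m = 1 := Subtype.ext (h1 y hyB (NJ_le_N hJ hyN))
    rw [h2, map_one]
  node := by
    rintro _ ⟨x, hx, rfl⟩
    obtain ⟨V, hV⟩ := hS.node x (hJ hx)
    refine ⟨im f V, im_mono f hV.le, ?_, ?_, ?_, ?_⟩
    · obtain ⟨u, hu, huV⟩ := hV.ne
      have huP : u ∈ P.parabolic J := B_le (hS.le hu)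
      refine ⟨f ⟨u, huP⟩, ⟨⟨u, huP⟩, hu, rfl⟩, ?_⟩
      rintro ⟨v, hv, hvu⟩
      apply huV
      have h1 : f (v⁻¹ * ⟨u, huP⟩) = 1 := by rw [map_mul, map_inv, hvu, inv_mul_cancel]
      have h2 : f (x⁻¹ * (v⁻¹ * ⟨u, huP⟩) * x) = 1 := by
        rw [map_mul, map_mul, h1, mul_one, map_inv, inv_mul_cancel]
      have h3 := hV.stab ((v : K)⁻¹ * u) (mul_mem (inv_mem (hV.le hv)) hu) (hker _ h2)
      have hv' : (v : K) ∈ V := hv
      have h4 := mul_mem hv' h3
      rwa [mul_inv_cancel_left] at h4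
    · rintro _ ⟨b, hb, rfl⟩ _ ⟨v, hv, rfl⟩
      exact ⟨b * v * b⁻¹, hV.conj_B b hb v hv, by rw [map_mul, map_mul, map_inv]⟩
    · rintro _ ⟨v, hv, rfl⟩
      exact ⟨x⁻¹ * v * x, hV.conj_s v hv, by rw [map_mul, map_mul, map_inv]⟩
    · rintro _ ⟨u, hu, rfl⟩ h
      rw [← map_inv, ← map_mul, ← map_mul] at h
      exact ⟨u, hV.stab u hu (mem_B_of_im f hker h), rfl⟩
  core := by
    rw [eq_bot_iff]
    set! C := (im f P.B).normalCore with hC
    have h1 : C.comap f ≤ f.ker := by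
      refine hmax _ inferInstance fun x hx => ?_
      rw [mem_subgroupOf]
      exact mem_B_of_im f hker (Subgroup.normalCore_le _ hx)
    intro q hq
    obtain ⟨x, rfl⟩ := hf q
    exact h1 hq

theorem hasSplit_quot {p : ℕ} {U : Subgroup K} (hS : Split P p U) (hJ : J ⊆ P.S) (hJ1 : J.Nonempty)
    (hf : Function.Surjective f) (hker : ∀ x, f x = 1 → (x : K) ∈ P.B)
    (hmax : ∀ C : Subgroup ↥(P.parabolic J), C.Normal → C ≤ P.B.subgroupOf (P.parabolic J) → C ≤ f.ker) :
    HasSplit p Q := by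
  refine ⟨quot f hker hJ hf, im f U, ?_, split_quot f hker hS hJ hf hmax⟩
  obtain ⟨s, hs⟩ := hJ1
  exact ⟨f ⟨s, J_sub hs⟩, ⟨s, J_sub hs⟩, hs, rfl⟩

end

end Cfsg.Agent.H460.Car.Par
end

-- part: H460/Car/Bt
section
/-!
# Borel–Tits for a split (B,N)-pair (S3852, helper460)
-/

set_option autoImplicit false
set_option linter.unusedSectionVars false
set_option linter.unusedVariables false

namespace Cfsg.Agent.H460.Car

open CoxeterSystem Cfsg.Agent.ChevalleyStructure.CoxeterGeom Cfsg.Agent.Tits.Roots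
  Cfsg.Agent.Nodes.Reps Cfsg.Agent.Nodes.BNOf
  Cfsg.Agent.Nodes.Bruhat Cfsg.Agent.Nodes.OppDec Cfsg.Agent.Nodes.LeviDec Cfsg.Agent.Nodes.NormX
  Cfsg.Agent.KFacts.RgdPar Cfsg.Agent.KFacts.RgdCent
  Cfsg.Agent.KFacts.RgdEx Cfsg.Agent.KFacts.RgdVJ Cfsg.Agent.KFacts.RgdCharP
  Cfsg.Agent.KFacts.RgdBorelTits Cfsg.Agent.KFacts.RgdFilt
open Cfsg.Agent.FixBN (Split HasSplit)
open Pointwise

/-- **Borel–Tits** -/
theorem exists_bt {p : ℕ} [hp : Fact p.Prime] {G : Type*} [Group G] [Finite G] [IsSimpleGroup G] (hG : HasFilt p G)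
    (hc : ∃ a b : G, a * b ≠ b * a) :
    ∃ (P : Cfsg.BNPair G) (U : Subgroup G), P.S.Nonempty ∧ Split P p U ∧ ∀ R : Subgroup G, IsPGroup p R → R ≠ ⊥ →
      ∃ (g : G) (V : Subgroup G), IsPGroup p V ∧ P.B ≤ Subgroup.normalizer (V : Set G) ∧ R ≤ MulAut.conj g • V ∧
        Subgroup.normalizer (R : Set G) ≤ MulAut.conj g • Subgroup.normalizer (V : Set G) := by
  obtain ⟨l, M, A, h, T, n, X, R, hW, hBT, hGG, hN, hconn, hX, hl⟩ := hG.data hc
  have : Nonempty (Fin l) := ⟨⟨0, hl⟩⟩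
  have hgen := Cfsg.Agent.FixBN.NodeRGD.gen_of_top R hX
  have hne : (R.bnPair hgen).S.Nonempty := ⟨n ⟨0, hl⟩, _, rfl⟩
  refine ⟨R.bnPair hgen, _, hne, Cfsg.Agent.FixBN.OfRGD.split R hgen
    (Cfsg.Agent.Tits.OfBN.normalCore_eq_bot (R.bnPair hgen) hne), fun K hK hK1 => ?_⟩
  obtain ⟨g, J, hJ, h1, h2⟩ := hBT K hK hK1
  have hP : PJ M.toCoxeterSystem h T X J = Subgroup.normalizer (VJ M.toCoxeterSystem h X J : Set G) := by
    apply le_antisymm (PJ_le_normalizer_VJ R J)
    have h3 := normalizer_VJ R J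
    rw [hGG, inf_top_eq] at h3
    exact h3.le
  refine ⟨g, VJ M.toCoxeterSystem h X J, isPGroup_VJ R J, ?_, ?_, ?_⟩
  · show RGD.B M.toCoxeterSystem h T X ≤ _
    rw [← hP]
    exact B_le_PJ
  · rw [Cfsg.Agent.Solvable.Carter.conj_smul_eq_map]
    exact h1
  · rw [← hP, Cfsg.Agent.Solvable.Carter.conj_smul_eq_map]
    exact h2

end Cfsg.Agent.H460.Car
end

-- part: H460/Car/Two
section
/-!
# Carter subgroups and groups of Lie type of characteristic two (S3852, helper460)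
-/

set_option autoImplicit false
set_option linter.unusedSectionVars false
set_option linter.unusedVariables false

namespace Cfsg.Agent.H460.Car

open Subgroup Pointwise
open Cfsg Cfsg.Agent.Solvable.Carter Cfsg.Agent.H18.Carter
open Cfsg.Agent.FixBN (Split HasSplit)
open Cfsg.Agent.SignalizersComponents Cfsg.Agent.Lib
open scoped commutatorElement

universe u

section SplitFacts

variable {Y : Type*} [Group Y] [Finite Y]

theorem exists_normalizing {p : ℕ} [Fact p.Prime] {A V : Subgroup Y} (hV : IsPGroup p V) (hAV : A < V) :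
    ∃ x ∈ V, x ∉ A ∧ x ∈ normalizer (A : Set Y) := by
  have hnil : Group.IsNilpotent V := hV.isNilpotent
  have h1 : A.subgroupOf V < ⊤ := by
    rw [lt_top_iff_ne_top]
    intro h2
    exact hAV.not_ge (subgroupOf_eq_top.1 h2)
  have h2 := Group.normalizerCondition_of_isNilpotent (G := V) _ h1
  obtain ⟨x, hx, hxA⟩ := SetLike.exists_of_lt h2
  rw [← subgroupOf_normalizer_eq hAV.le, mem_subgroupOf] at hx
  exact ⟨x, x.2, hxA, hx⟩

variable {P : BNPair Y} {U : Subgroup Y} {p : ℕ} [hp : Fact p.Prime] (hS : Split P p U)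
include hS

theorem U_max {W : Subgroup Y} (hW : IsPGroup p W) (h : U ≤ W) : W = U := by
  by_contra hne
  obtain ⟨x, hx, hxU, hxN⟩ := exists_normalizing hW (lt_of_le_of_ne h (Ne.symm hne))
  rw [hS.normalizer_eq] at hxN
  obtain ⟨n, hn⟩ := hW ⟨x, hx⟩
  exact hxU (hS.mem_of_pow hxN (congrArg Subtype.val hn))

theorem V_le_U {V : Subgroup Y} (hV : IsPGroup p V) (hVB : P.B ≤ normalizer (V : Set Y)) : V ≤ U := by
  have h1 := IsPGroup.to_sup_of_normal_right' hS.isP hV (hS.le.trans hVB)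
  have h2 := U_max hS h1 le_sup_left
  rw [← h2]
  exact le_sup_right

theorem exists_conj_mem {M : Subgroup Y} (hM : P.B ≤ M) {x : Y} (hx : x ∈ M) {n : ℕ} (hn : x ^ p ^ n = 1) :
    ∃ m ∈ M, m⁻¹ * x * m ∈ U := by
  have hUM : U ≤ M := hS.le.trans hM
  have h1 : IsPGroup p (zpowers (⟨x, hx⟩ : M)) := by
    refine IsPGroup.of_card_dvd_pow (n := n) ?_
    rw [Nat.card_zpowers]
    exact orderOf_dvd_of_pow_eq_one (Subtype.ext hn)
  obtain ⟨a, ha⟩ := h1.exists_le_sylow
  let u : Sylow p M :=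
    { U.subgroupOf M with
      isPGroup' := hS.isP.comap_of_injective _ M.subtype_injective
      is_maximal' := by
        intro Q hQ hle
        have h2 : U ≤ Q.map M.subtype := by
          intro y hy
          exact ⟨⟨y, hUM hy⟩, hle hy, rfl⟩
        have h3 := U_max hS (hQ.map M.subtype) h2
        apply le_antisymm _ hle
        intro q hq
        show (q : Y) ∈ U
        rw [← h3]
        exact ⟨q, hq, rfl⟩ }
  obtain ⟨m, hm⟩ := MulAction.exists_smul_eq M u a
  have h2 : (⟨x, hx⟩ : M) ∈ a := ha (mem_zpowers _)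
  rw [← hm, Cfsg.Agent.FixBN.Gates.mem_smul_iff] at h2
  exact ⟨m, m.2, h2⟩

theorem dvd_card (hne : P.S.Nonempty) : p ∣ Nat.card Y := by
  obtain ⟨s, hs⟩ := hne
  obtain ⟨V, hV⟩ := hS.node s hs
  obtain ⟨u, hu, huV⟩ := hV.ne
  obtain ⟨n, hn⟩ := hS.isP ⟨u, hu⟩
  have h1 : u ^ p ^ n = 1 := congrArg Subtype.val hn
  have h2 : orderOf u ≠ 1 := by
    rw [Ne, orderOf_eq_one_iff]
    rintro rfl
    exact huV (one_mem _)
  obtain ⟨k, -, hk⟩ := (Nat.dvd_prime_pow hp.out).1 (orderOf_dvd_of_pow_eq_one h1)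
  have h3 : p ∣ orderOf u := by
    rw [hk]
    refine dvd_pow_self p fun h0 => h2 ?_
    rw [hk, h0, pow_zero]
  exact h3.trans (_root_.orderOf_dvd_natCard u)

end SplitFacts

theorem hasSplit_dvd {Y : Type*} [Group Y] [Finite Y] {p : ℕ} [Fact p.Prime] (h : HasSplit p Y) : p ∣ Nat.card Y := by
  obtain ⟨P, U, hne, hS⟩ := h
  exact dvd_card hS hne

end Cfsg.Agent.H460.Car
end

-- part: H460/Car/TwoB
section
/-!
# Carter subgroups and groups of Lie type of characteristic two: the parabolic step (S3852, helper460)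
-/

set_option autoImplicit false
set_option linter.unusedSectionVars false
set_option linter.unusedVariables false

namespace Cfsg.Agent.H460.Car

open Subgroup Pointwise
open Cfsg Cfsg.Agent.Solvable.Carter Cfsg.Agent.H18.Carter
open Cfsg.Agent.FixBN (Split HasSplit)
open Cfsg.Agent.SignalizersComponents Cfsg.Agent.Lib
open scoped commutatorElement

universe u

/-- Feit–Thompson -/
def FT : Prop := ∀ (B : Type u) [Group B] [Finite B], Odd (Nat.card B) → Group.IsSolvable B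

/-- the induction hypothesis (weak form) -/
def IHt (n : ℕ) : Prop := ∀ (B : Type u) [Group B] [Finite B] (T R : Subgroup B), Nat.card B < n → AS B T R →
  ¬ Exc ↥T → Wt 2 R T

variable {G : Type u} [Group G] [Finite G] {S K : Subgroup G}

section Step

variable {P : BNPair ↥S} {U V : Subgroup ↥S} {J : Set ↥S}

/-- the largest normal subgroup of `M` in `B` -/
def core (P : BNPair ↥S) (J : Set ↥S) : Subgroup ↥(P.parabolic J) := (P.B.subgroupOf (P.parabolic J)).normalCore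

/-- the action of an element of `G` on `S` -/
noncomputable def act (S : Subgroup G) [S.Normal] (g : G) : ↥S ≃* ↥S := MulAut.conjNormal g

theorem act_coe [S.Normal] (g : G) (x : ↥S) : ((act S g x : ↥S) : G) = g * x * g⁻¹ := MulAut.conjNormal_apply _ _

theorem act_mem_of_norm [S.Normal] {A : Subgroup ↥S} {g : G} (hg : g ∈ normalizer ((A.map S.subtype : Subgroup G) : Set G))
    {x : ↥S} (hx : x ∈ A) : act S g x ∈ A := by
  have h1 := (mem_normalizer_iff.1 hg (x : G)).1 ⟨x, hx, rfl⟩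
  obtain ⟨y, hy, hyx⟩ := h1
  have h2 : y = act S g x := Subtype.ext (by rw [act_coe]; exact hyx)
  rwa [← h2]

theorem norm_of_act [S.Normal] {A : Subgroup ↥S} {g : G} (h1 : ∀ x ∈ A, act S g x ∈ A)
    (h2 : ∀ x ∈ A, act S g⁻¹ x ∈ A) : g ∈ normalizer ((A.map S.subtype : Subgroup G) : Set G) := by
  rw [mem_normalizer_iff]
  intro y
  constructor
  · rintro ⟨x, hx, rfl⟩
    exact ⟨act S g x, h1 x hx, act_coe g x⟩
  · rintro ⟨x, hx, hxy⟩
    refine ⟨act S g⁻¹ x, h2 x hx, ?_⟩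
    rw [coe_subtype, act_coe]
    rw [coe_subtype] at hxy
    rw [hxy]
    group

/-- `N_G(V)` normalises `N_S(V)` -/
theorem act_mem_normalizer [S.Normal] {g : G} (hg : g ∈ normalizer ((V.map S.subtype : Subgroup G) : Set G))
    {x : ↥S} (hx : x ∈ normalizer (V : Set ↥S)) : act S g x ∈ normalizer (V : Set ↥S) := by
  have hg' := inv_mem hg
  have e1 : ∀ y : ↥S, act S g (act S g⁻¹ y) = y := by
    intro y
    apply Subtype.ext
    rw [act_coe, act_coe]
    group
  rw [mem_normalizer_iff] at hx ⊢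
  intro y
  have h1 := hx (act S g⁻¹ y)
  constructor
  · intro hy
    have h2 := act_mem_of_norm hg (h1.1 (act_mem_of_norm hg' hy))
    rwa [map_mul, map_mul, map_inv, e1] at h2
  · intro hy
    have h2 : x * act S g⁻¹ y * x⁻¹ ∈ V := by
      have h3 := act_mem_of_norm hg' hy
      rw [map_mul, map_mul, map_inv] at h3
      have h4 : act S g⁻¹ (act S g x) = x := by
        apply Subtype.ext
        rw [act_coe, act_coe]
        group
      rwa [h4] at h3
    have h3 := act_mem_of_norm hg (h1.2 h2)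
    rwa [e1] at h3

/-- elements of the core -/
theorem mem_core_iff (hM : P.parabolic J = normalizer (V : Set ↥S)) {x : ↥(P.parabolic J)} :
    x ∈ core P J ↔ ∀ m ∈ normalizer (V : Set ↥S), m * (x : ↥S) * m⁻¹ ∈ P.B := by
  constructor
  · intro hx m hm
    rw [← hM] at hm
    exact hx ⟨m, hm⟩
  · intro h m
    exact h m (by rw [← hM]; exact m.2)

variable [hSn : S.Normal] (hS : Split P 2 U)
include hS

/-- `N_G(V)` normalises the core -/
theorem act_core (hV : IsPGroup 2 V) (hM : P.parabolic J = normalizer (V : Set ↥S)) {g : G}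
    (hg : g ∈ normalizer ((V.map S.subtype : Subgroup G) : Set G)) {x : ↥S}
    (hx : ∀ m ∈ normalizer (V : Set ↥S), m * x * m⁻¹ ∈ P.B) :
    ∀ m ∈ normalizer (V : Set ↥S), m * act S g x * m⁻¹ ∈ P.B := by
  have hf : Fact (Nat.Prime 2) := ⟨Nat.prime_two⟩
  have hBM : P.B ≤ normalizer (V : Set ↥S) := by rw [← hM]; exact le_sup_left
  -- `g` maps `U` to a conjugate of `U` under `M`
  let W : Subgroup ↥S := U.map (act S g).toMonoidHom
  have hWM : W ≤ normalizer (V : Set ↥S) := by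
    rintro _ ⟨u, hu, rfl⟩
    exact act_mem_normalizer hg (hBM (hS.le hu))
  have hW : IsPGroup 2 W := hS.isP.map _
  -- a Sylow argument
  have h1 : ∃ m ∈ normalizer (V : Set ↥S), ∀ u ∈ U, m⁻¹ * act S g u * m ∈ U := by
    have hWp : IsPGroup 2 (W.subgroupOf (normalizer (V : Set ↥S))) := hW.comap_of_injective _ (subtype_injective _)
    obtain ⟨a, ha⟩ := hWp.exists_le_sylow
    let u : Sylow 2 ↥(normalizer (V : Set ↥S)) :=
      { U.subgroupOf (normalizer (V : Set ↥S)) with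
        isPGroup' := hS.isP.comap_of_injective _ (subtype_injective _)
        is_maximal' := by
          intro Q hQ hle
          have h2 : U ≤ Q.map (normalizer (V : Set ↥S)).subtype := by
            intro y hy
            exact ⟨⟨y, hBM (hS.le hy)⟩, hle hy, rfl⟩
          have h3 := U_max hS (hQ.map _) h2
          apply le_antisymm _ hle
          intro q hq
          show (q : ↥S) ∈ U
          rw [← h3]
          exact ⟨q, hq, rfl⟩ }
    obtain ⟨m, hm⟩ := MulAction.exists_smul_eq ↥(normalizer (V : Set ↥S)) u a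
    refine ⟨m, m.2, fun v hv => ?_⟩
    have hvW : act S g v ∈ W := ⟨v, hv, rfl⟩
    have h2 : (⟨act S g v, hWM hvW⟩ : ↥(normalizer (V : Set ↥S))) ∈ a := ha hvW
    rw [← hm, Cfsg.Agent.FixBN.Gates.mem_smul_iff] at h2
    exact h2
  obtain ⟨m0, hm0, hU0⟩ := h1
  -- the map `y ↦ m0⁻¹ (g y) m0` preserves `U`, hence `B`
  let φ : ↥S ≃* ↥S := (act S g).trans (MulAut.conj m0⁻¹)
  have hφ : ∀ y, φ y = m0⁻¹ * act S g y * m0 := by
    intro y
    show m0⁻¹ * act S g y * m0⁻¹⁻¹ = _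
    rw [inv_inv]
  have hφU : U.map φ.toMonoidHom = U := by
    refine Subgroup.eq_of_le_of_card_ge ?_ ?_
    · rintro _ ⟨u, hu, rfl⟩
      show φ u ∈ U
      rw [hφ]
      exact hU0 u hu
    · exact (Nat.card_congr (U.equivMapOfInjective φ.toMonoidHom φ.injective).toEquiv).le
  have hφB : ∀ y ∈ P.B, φ y ∈ P.B := by
    intro y hy
    rw [← hS.normalizer_eq] at hy ⊢
    rw [mem_normalizer_iff] at hy ⊢
    intro z
    have key : ∀ z, z ∈ U ↔ φ.symm z ∈ U := by
      intro z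
      constructor
      · intro hz
        rw [← hφU] at hz
        obtain ⟨w, hw, rfl⟩ := hz
        show φ.symm (φ w) ∈ U
        rwa [φ.symm_apply_apply]
      · intro hz
        rw [← hφU]
        exact ⟨_, hz, φ.apply_symm_apply z⟩
    rw [key z, key (φ y * z * (φ y)⁻¹), map_mul, map_mul, map_inv, φ.symm_apply_apply]
    exact hy _
  intro m hm
  -- `m (g x) m⁻¹ = φ (m' x m'⁻¹)` up to conjugation by `m0`
  have e1 : ∀ y : ↥S, act S g (act S g⁻¹ y) = y := by
    intro y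
    apply Subtype.ext
    rw [act_coe, act_coe]
    group
  have h2 : act S g⁻¹ (m0 * m) ∈ normalizer (V : Set ↥S) := act_mem_normalizer (inv_mem hg) (mul_mem hm0 hm)
  have h3 := hφB _ (hx _ h2)
  rw [hφ, map_mul, map_mul, map_inv, e1] at h3
  have e2 : m0⁻¹ * (m0 * m * act S g x * (m0 * m)⁻¹) * m0 = m * act S g x * m⁻¹ := by group
  rwa [e2] at h3

/-- the `2`-elements of the core form a `2`-subgroup normalised by `N_G(V)` -/
theorem core_two (hV : IsPGroup 2 V) (hM : P.parabolic J = normalizer (V : Set ↥S))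
    (hmax : ∀ Y : Subgroup ↥S, IsPGroup 2 Y → V ≤ Y → K ≤ normalizer ((Y.map S.subtype : Subgroup G) : Set G) → Y = V)
    (hKV : K ≤ normalizer ((V.map S.subtype : Subgroup G) : Set G)) {x : ↥S}
    (hx : ∀ m ∈ normalizer (V : Set ↥S), m * x * m⁻¹ ∈ P.B) {n : ℕ} (hn : x ^ 2 ^ n = 1) : x ∈ V := by
  have hf : Fact (Nat.Prime 2) := ⟨Nat.prime_two⟩
  have hBM : P.B ≤ normalizer (V : Set ↥S) := by rw [← hM]; exact le_sup_left
  have hVU : V ≤ U := V_le_U hS hV hBM
  let D : Subgroup ↥S := U ⊓ ((core P J).map (P.parabolic J).subtype)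
  have hD : ∀ y, y ∈ D ↔ y ∈ U ∧ ∀ m ∈ normalizer (V : Set ↥S), m * y * m⁻¹ ∈ P.B := by
    intro y
    constructor
    · rintro ⟨hy, z, hz, rfl⟩
      exact ⟨hy, (mem_core_iff hM).1 hz⟩
    · rintro ⟨hy, hz⟩
      have hyM : y ∈ P.parabolic J := (le_sup_left : P.B ≤ _) (hS.le hy)
      exact ⟨hy, ⟨y, hyM⟩, (mem_core_iff hM).2 hz, rfl⟩
  have hDp : IsPGroup 2 D := hS.isP.to_le inf_le_left
  have hactD : ∀ g ∈ normalizer ((V.map S.subtype : Subgroup G) : Set G), ∀ y ∈ D, act S g y ∈ D := by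
    intro g hg y hy
    have h1 := (hD y).1 hy
    have h2 := act_core hS hV hM hg h1.2
    rw [hD]
    refine ⟨?_, h2⟩
    obtain ⟨k, hk⟩ := hS.isP ⟨y, h1.1⟩
    have hk' : y ^ 2 ^ k = 1 := congrArg Subtype.val hk
    refine hS.mem_of_pow (n := k) ?_ ?_
    · have := h2 1 (one_mem _)
      rwa [one_mul, inv_one, mul_one] at this
    · rw [← map_pow, hk', map_one]
  have hKD : K ≤ normalizer ((D.map S.subtype : Subgroup G) : Set G) := fun k hk =>
    norm_of_act (hactD k (hKV hk)) (hactD k⁻¹ (inv_mem (hKV hk)))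
  have hVD : V ≤ D := by
    intro v hv
    rw [hD]
    refine ⟨hVU hv, fun m hm => hS.le (hVU ?_)⟩
    exact (mem_normalizer_iff.1 hm v).1 hv
  rw [← hmax D hDp hVD hKD, hD]
  refine ⟨hS.mem_of_pow (n := n) ?_ hn, hx⟩
  have := hx 1 (one_mem _)
  rwa [one_mul, inv_one, mul_one] at this

/-- `[C, x] ≤ V` for the `2`-elements `x` of `N_S(V)` -/
theorem core_comm (hV : IsPGroup 2 V) (hM : P.parabolic J = normalizer (V : Set ↥S))
    (hmax : ∀ Y : Subgroup ↥S, IsPGroup 2 Y → V ≤ Y → K ≤ normalizer ((Y.map S.subtype : Subgroup G) : Set G) → Y = V)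
    (hKV : K ≤ normalizer ((V.map S.subtype : Subgroup G) : Set G)) {c : ↥S}
    (hc : ∀ m ∈ normalizer (V : Set ↥S), m * c * m⁻¹ ∈ P.B) {x : ↥S} (hx : x ∈ normalizer (V : Set ↥S)) {n : ℕ}
    (hn : x ^ 2 ^ n = 1) : c * x * c⁻¹ * x⁻¹ ∈ V := by
  have hf : Fact (Nat.Prime 2) := ⟨Nat.prime_two⟩
  have hBM : P.B ≤ normalizer (V : Set ↥S) := by rw [← hM]; exact le_sup_left
  obtain ⟨m, hm, hmx⟩ := exists_conj_mem hS hBM hx hn
  have hcM : c ∈ normalizer (V : Set ↥S) := by
    have := hBM (hc 1 (one_mem _))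
    rwa [one_mul, inv_one, mul_one] at this
  -- the commutator is a `2`-element
  have h1 : m⁻¹ * (c * x * c⁻¹ * x⁻¹) * m ∈ U := by
    have h2 : m⁻¹ * c * m ∈ P.B := by
      have := hc m⁻¹ (inv_mem hm)
      rwa [inv_inv] at this
    have h3 := mul_mem (hS.norm _ h2 _ hmx) (inv_mem hmx)
    have e1 : m⁻¹ * c * m * (m⁻¹ * x * m) * (m⁻¹ * c * m)⁻¹ * (m⁻¹ * x * m)⁻¹ = m⁻¹ * (c * x * c⁻¹ * x⁻¹) * m := by
      group
    rwa [e1] at h3
  obtain ⟨k, hk⟩ := hS.isP ⟨_, h1⟩
  have hk' : (m⁻¹ * (c * x * c⁻¹ * x⁻¹) * m) ^ 2 ^ k = 1 := congrArg Subtype.val hk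
  have hk2 : (c * x * c⁻¹ * x⁻¹) ^ 2 ^ k = 1 := by
    have e1 : c * x * c⁻¹ * x⁻¹ = m * (m⁻¹ * (c * x * c⁻¹ * x⁻¹) * m) * m⁻¹ := by group
    rw [e1, conj_pow, hk', mul_one, mul_inv_cancel]
  refine core_two hS hV hM hmax hKV (fun m' hm' => ?_) hk2
  have h4 := hc m' hm'
  have h5 := hc (m' * x) (mul_mem hm' hx)
  have e1 : m' * (c * x * c⁻¹ * x⁻¹) * m'⁻¹ = (m' * c * m'⁻¹) * (m' * x * c * (m' * x)⁻¹)⁻¹ := by group
  rw [e1]
  exact mul_mem h4 (inv_mem h5)

end Step

end Cfsg.Agent.H460.Car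
end

-- part: H460/Car/TwoC
section
/-!
# Carter subgroups and groups of Lie type of characteristic two: no proper parabolic (S3852, helper460)
-/

set_option autoImplicit false
set_option linter.unusedSectionVars false
set_option linter.unusedVariables false

namespace Cfsg.Agent.H460.Car

open Subgroup Pointwise
open Cfsg Cfsg.Agent.Solvable.Carter Cfsg.Agent.H18.Carter
open Cfsg.Agent.FixBN (Split HasSplit)
open Cfsg.Agent.SignalizersComponents Cfsg.Agent.Lib
open scoped commutatorElement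

universe u

variable {G : Type u} [Group G] [Finite G] {S K : Subgroup G}
variable {P : BNPair ↥S} {U V : Subgroup ↥S} {J : Set ↥S}

theorem mem_normalizer_iff_coe [S.Normal] {x : ↥S} :
    x ∈ normalizer (V : Set ↥S) ↔ (x : G) ∈ normalizer ((V.map S.subtype : Subgroup G) : Set G) := by
  constructor
  · intro hx
    refine norm_of_act (fun y hy => ?_) fun y hy => ?_
    · have h1 := (mem_normalizer_iff.1 hx y).1 hy
      have e1 : act S (x : G) y = x * y * x⁻¹ := Subtype.ext (by rw [act_coe]; rfl)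
      rwa [e1]
    · have h1 := (mem_normalizer_iff.1 (inv_mem hx) y).1 hy
      have e1 : act S (x : G)⁻¹ y = x⁻¹ * y * x⁻¹⁻¹ := Subtype.ext (by rw [act_coe]; rfl)
      rwa [e1]
  · intro hx
    have key : ∀ g : ↥S, (g : G) ∈ normalizer ((V.map S.subtype : Subgroup G) : Set G) → ∀ y ∈ V, g * y * g⁻¹ ∈ V := by
      intro g hg y hy
      have h1 := act_mem_of_norm hg hy
      have e1 : act S (g : G) y = g * y * g⁻¹ := Subtype.ext (by rw [act_coe]; rfl)
      rwa [e1] at h1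
    rw [mem_normalizer_iff]
    intro y
    constructor
    · exact key x hx y
    · intro hy
      have h1 := key x⁻¹ (inv_mem hx) _ hy
      have e1 : x⁻¹ * (x * y * x⁻¹) * x⁻¹⁻¹ = y := by group
      rwa [e1] at h1

/-- `N_G(V)` contains no `J ≠ ∅` -/
theorem false_of_nonempty (c : AS G S K) (hS : Split P 2 U) (hJ : J ⊆ P.S) (hJ1 : J.Nonempty) (hV : IsPGroup 2 V)
    (hV1 : V ≠ ⊥) (hM : P.parabolic J = normalizer (V : Set ↥S))
    (hKV : K ≤ normalizer ((V.map S.subtype : Subgroup G) : Set G))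
    (hmax : ∀ Y : Subgroup ↥S, IsPGroup 2 Y → V ≤ Y → K ≤ normalizer ((Y.map S.subtype : Subgroup G) : Set G) → Y = V)
    (hFT : FT.{u}) (IH : IHt.{u} (Nat.card G)) : False := by
  have hSn := c.normal
  have hf : Fact (Nat.Prime 2) := ⟨Nat.prime_two⟩
  have hf3 : Fact (Nat.Prime 3) := ⟨Nat.prime_three⟩
  have hBM : P.B ≤ normalizer (V : Set ↥S) := by rw [← hM]; exact le_sup_left
  have hVU : V ≤ U := V_le_U hS hV hBM
  set N : Subgroup G := normalizer ((V.map S.subtype : Subgroup G) : Set G) with hN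
  -- the core
  let C : Subgroup ↥N := (((core P J).map (P.parabolic J).subtype).map S.subtype).subgroupOf N
  have hC : ∀ y : ↥N, y ∈ C ↔ ∃ x : ↥S, (x : G) = y ∧ ∀ m ∈ normalizer (V : Set ↥S), m * x * m⁻¹ ∈ P.B := by
    intro y
    constructor
    · rintro ⟨x, ⟨z, hz, rfl⟩, hx⟩
      exact ⟨z, hx, (mem_core_iff hM).1 hz⟩
    · rintro ⟨x, hx, h⟩
      have hxM : x ∈ P.parabolic J := by
        have := h 1 (one_mem _)
        rw [one_mul, inv_one, mul_one] at this
        exact (le_sup_left : P.B ≤ _) this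
      exact ⟨x, ⟨⟨x, hxM⟩, (mem_core_iff hM).2 h, rfl⟩, hx⟩
  have hCn : C.Normal := by
    refine ⟨fun y hy g => ?_⟩
    obtain ⟨x, hx, h⟩ := (hC y).1 hy
    rw [hC]
    refine ⟨act S g x, ?_, act_core hS hV hM g.2 h⟩
    rw [act_coe, hx]
    rfl
  set! π : ↥N →* ↥N ⧸ C := QuotientGroup.mk' C with hπ
  have hπs : Function.Surjective π := QuotientGroup.mk'_surjective C
  have hπ1 : ∀ y : ↥N, π y = 1 ↔ y ∈ C := fun y => QuotientGroup.eq_one_iff y
  set! H : Subgroup (↥N ⧸ C) := (S.subgroupOf N).map π with hH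
  have hHn : H.Normal := by
    have : (S.subgroupOf N).Normal := inferInstance
    exact this.map π hπs
  -- `H` has a split (B,N)-pair
  have hsub : ∀ x : ↥(P.parabolic J), ((x : ↥S) : G) ∈ N := fun x => by
    have h1 : (x : ↥S) ∈ normalizer (V : Set ↥S) := by rw [← hM]; exact x.2
    exact mem_normalizer_iff_coe.1 h1
  let f : ↥(P.parabolic J) →* ↥H :=
    { toFun := fun x => ⟨π ⟨((x : ↥S) : G), hsub x⟩, ⟨⟨((x : ↥S) : G), hsub x⟩, (x : ↥S).2, rfl⟩⟩
      map_one' := Subtype.ext ((map_one π :))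
      map_mul' := fun x y => Subtype.ext (map_mul π ⟨((x : ↥S) : G), hsub x⟩ ⟨((y : ↥S) : G), hsub y⟩) }
  have hf1 : ∀ x, f x = 1 ↔ x ∈ core P J := by
    intro x
    have h1 : f x = 1 ↔ π ⟨((x : ↥S) : G), hsub x⟩ = 1 :=
      ⟨fun h => congrArg Subtype.val h, fun h => Subtype.ext h⟩
    rw [h1, hπ1, hC, mem_core_iff hM]
    constructor
    · rintro ⟨y, hy, h⟩
      have : y = (x : ↥S) := Subtype.ext hy
      rwa [← this]
    · intro h
      exact ⟨x, rfl, h⟩
  have hfs : Function.Surjective f := by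
    rintro ⟨_, n, hn, rfl⟩
    have hnS : (n : G) ∈ S := hn
    have h1 : (⟨n, hnS⟩ : ↥S) ∈ normalizer (V : Set ↥S) := mem_normalizer_iff_coe.2 n.2
    rw [← hM] at h1
    exact ⟨⟨⟨n, hnS⟩, h1⟩, rfl⟩
  have hsplit : HasSplit 2 ↥H := by
    refine Par.hasSplit_quot f hS hJ hJ1 hfs (fun x hx => ?_) fun C0 hC0 hle => ?_
    · exact normalCore_le (P.B.subgroupOf (P.parabolic J)) ((hf1 x).1 hx)
    · intro x hx
      rw [MonoidHom.mem_ker, hf1]
      exact (normal_le_normalCore.2 hle) hx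
  obtain ⟨Pa, d, hG, hI, hopp⟩ := Cfsg.Agent.FixOdd.Inst.gate (p := 2) (r := 3) (by norm_num) hsplit
    (1 : MulAut ↥H) (one_pow 3)
  have htop : fixedSubgroup (1 : MulAut ↥H) = ⊤ := by
    rw [eq_top_iff]
    intro x _
    rfl
  let ι : ↥(fixedSubgroup (1 : MulAut ↥H)) ≃* ↥H := (MulEquiv.subgroupCongr htop).trans topEquiv
  have h2H : 2 ∣ Nat.card ↥(fixedSubgroup (1 : MulAut ↥H)) := by
    rw [Nat.card_congr ι.toEquiv]
    exact hasSplit_dvd hsplit
  -- the orders
  have hcardN : Nat.card (↥N ⧸ C) < Nat.card G := by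
    have h1 := Subgroup.card_eq_card_quotient_mul_card_subgroup C
    have h2 : 1 < Nat.card C := by
      rw [Subgroup.one_lt_card_iff_ne_bot]
      intro h3
      apply hV1
      rw [eq_bot_iff]
      intro v hv
      have h4 : (v : G) ∈ N := mem_normalizer_iff_coe.1 (hBM (hS.le (hVU hv)))
      have h5 : (⟨v, h4⟩ : ↥N) ∈ C := (hC _).2 ⟨v, rfl, fun m hm => hS.le (hVU ((mem_normalizer_iff.1 hm v).1 hv))⟩
      rw [h3, mem_bot] at h5
      rw [mem_bot]
      exact Subtype.ext (congrArg (fun z : ↥N => (z : G)) h5)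
    have h3 : Nat.card ↥N ≤ Nat.card G := Subgroup.card_le_card_group N
    have h4 : 0 < Nat.card (↥N ⧸ C) := Nat.card_pos
    nlinarith
  have hKbar : IsCarter ((K.subgroupOf N).map π) := by
    refine IsCarter.map hπs (fun L hL => ?_) (c.carter.subgroupOf hKV)
    refine c.min _ ?_
    exact (Cfsg.Agent.Lib.SolvableNormalP.card_lt_of_ne_top hL).trans_le (Subgroup.card_le_card_group N)
  obtain ⟨Y, hYH, hY1, hYp, hKY⟩ := exists_two' (Γ := ↥N ⧸ C) (H := H) hG hI hopp ι hKbar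
    (fun B _ _ hB => c.min B (hB.trans_lt hcardN)) hFT
    (fun B _ _ T R hB hAS hE => IH B T R (hB.trans_lt hcardN) hAS hE) h2H
  set! Y' : Subgroup ↥N := Y.comap π with hY'
  have hCY : C ≤ Y' := by
    intro y hy
    rw [hY', mem_comap, (hπ1 y).2 hy]
    exact one_mem _
  have hYS : ∀ y ∈ Y', (y : G) ∈ S := by
    intro y hy
    obtain ⟨s, hs, hsy⟩ := hYH (show π y ∈ Y from hy)
    have h1 : s⁻¹ * y ∈ C := by
      rw [← hπ1, map_mul, map_inv, hsy, inv_mul_cancel]
    obtain ⟨x, hx, -⟩ := (hC _).1 h1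
    have h2 : ((s : ↥N) : G) * (x : G) = y := by
      rw [hx, Subgroup.coe_mul, Subgroup.coe_inv]
      group
    rw [← h2]
    exact mul_mem hs x.2
  -- a `2`-element of `Y'` outside `C`
  obtain ⟨w, hwY, hwC, n, hwn⟩ : ∃ w ∈ Y', w ∉ C ∧ ∃ n, w ^ 2 ^ n = 1 := by
    obtain ⟨y, hy, hy1⟩ := Y.bot_or_exists_ne_one.resolve_left hY1
    obtain ⟨n0, rfl⟩ := hπs y
    obtain ⟨k, hk⟩ := hYp ⟨_, hy⟩
    have hk' : (π n0) ^ 2 ^ k = 1 := congrArg Subtype.val hk
    obtain ⟨a, m, hm, ho⟩ := Nat.exists_eq_two_pow_mul_odd (n := orderOf n0) (orderOf_pos n0).ne'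
    refine ⟨n0 ^ m, ?_, ?_, a, ?_⟩
    · rw [hY', mem_comap, map_pow]
      exact pow_mem hy m
    · intro h
      rw [← hπ1, map_pow] at h
      apply hy1
      have h1 : orderOf (π n0) ∣ 2 ^ k := orderOf_dvd_of_pow_eq_one hk'
      have h2 : orderOf (π n0) ∣ m := orderOf_dvd_of_pow_eq_one h
      have h3 : Nat.Coprime (2 ^ k) m := Nat.Coprime.pow_left k (Nat.coprime_two_left.2 hm)
      exact orderOf_eq_one_iff.1 (Nat.eq_one_of_dvd_coprimes h3 h1 h2)
    · rw [← pow_mul, mul_comm, ← ho, pow_orderOf_eq_one]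
  have hwp : IsPGroup 2 (zpowers (⟨w, hwY⟩ : ↥Y')) := by
    refine IsPGroup.of_card_dvd_pow (n := n) ?_
    rw [Nat.card_zpowers]
    exact orderOf_dvd_of_pow_eq_one (Subtype.ext hwn)
  obtain ⟨a, ha⟩ := hwp.exists_le_sylow
  -- `V ≤ a`
  have hVN : ∀ v ∈ V, (v : G) ∈ N := fun v hv => mem_normalizer_iff_coe.1 (hBM (hS.le (hVU hv)))
  have hVC : ∀ v (hv : v ∈ V), (⟨v, hVN v hv⟩ : ↥N) ∈ C := fun v hv =>
    (hC _).2 ⟨v, rfl, fun m hm => hS.le (hVU ((mem_normalizer_iff.1 hm v).1 hv))⟩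
  let V' : Subgroup ↥Y' := ((V.map S.subtype).subgroupOf N).subgroupOf Y'
  have hV'n : V'.Normal := by
    refine ⟨fun v hv g => ?_⟩
    have hv' : (((v : ↥Y') : ↥N) : G) ∈ V.map S.subtype := hv
    exact (mem_normalizer_iff.1 (g : ↥N).2 _).1 hv'
  have hV'p : IsPGroup 2 V' := ((hV.map S.subtype).comap_of_injective _ N.subtype_injective).comap_of_injective _
    Y'.subtype_injective
  have hV'a : V' ≤ a := IsPGroup.le_sylow_of_normal hV'p a
  -- `C` normalises `a`
  have hcomm : ∀ c' : ↥Y', (c' : ↥N) ∈ C → ∀ x ∈ a, c' * x * c'⁻¹ ∈ a := by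
    intro c' hc' x hx
    obtain ⟨c0, hc0, hc0B⟩ := (hC _).1 hc'
    have hxS : ((x : ↥N) : G) ∈ S := hYS _ x.2
    obtain ⟨k, hk⟩ := a.isPGroup' ⟨x, hx⟩
    have hk1 : x ^ 2 ^ k = 1 := congrArg Subtype.val hk
    have hk2 : (⟨((x : ↥N) : G), hxS⟩ : ↥S) ^ 2 ^ k = 1 := by
      apply Subtype.ext
      have h1 := congrArg (fun z : ↥Y' => ((z : ↥N) : G)) hk1
      exact h1
    have hxM : (⟨((x : ↥N) : G), hxS⟩ : ↥S) ∈ normalizer (V : Set ↥S) := mem_normalizer_iff_coe.2 (x : ↥N).2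
    have h1 := core_comm hS hV hM hmax hKV hc0B hxM hk2
    have h2 : c' * x * c'⁻¹ * x⁻¹ ∈ V' := by
      refine ⟨_, h1, ?_⟩
      show ((c0 : G) * ((x : ↥N) : G) * (c0 : G)⁻¹ * ((x : ↥N) : G)⁻¹) = _
      rw [hc0]
      rfl
    have h3 := mul_mem (hV'a h2) hx
    rwa [inv_mul_cancel_right] at h3
  have hCa : C.subgroupOf Y' ≤ normalizer ((a : Subgroup ↥Y') : Set ↥Y') := by
    intro c' hc'
    rw [mem_normalizer_iff]
    intro x
    constructor
    · exact hcomm c' hc' x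
    · intro hx
      have h1 := hcomm c'⁻¹ (inv_mem hc') _ hx
      have e1 : c'⁻¹ * (c' * x * c'⁻¹) * c'⁻¹⁻¹ = x := by group
      rwa [e1] at h1
  have han : (a : Subgroup ↥Y').Normal := by
    rw [← normalizer_eq_top_iff, ← Subgroup.index_eq_one]
    have hCYn : (C.subgroupOf Y').Normal := inferInstance
    have hq : IsPGroup 2 (↥Y' ⧸ C.subgroupOf Y') := by
      intro z
      obtain ⟨y, rfl⟩ := QuotientGroup.mk_surjective z
      obtain ⟨k, hk⟩ := hYp ⟨π y, y.2⟩
      refine ⟨k, ?_⟩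
      rw [← QuotientGroup.mk_pow, QuotientGroup.eq_one_iff, mem_subgroupOf, ← hπ1, Subgroup.coe_pow, map_pow]
      exact congrArg Subtype.val hk
    obtain ⟨k, hk⟩ := IsPGroup.iff_card.1 hq
    have h1 : ((normalizer ((a : Subgroup ↥Y') : Set ↥Y')).index :) ∣ 2 ^ k := by
      rw [← hk, ← Subgroup.index_eq_card]
      exact Subgroup.index_dvd_of_le hCa
    have h2 : (normalizer ((a : Subgroup ↥Y') : Set ↥Y')).index ∣ (a : Subgroup ↥Y').index := Subgroup.index_dvd_of_le le_normalizer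
    have h3 : Nat.Coprime (2 ^ k) (a : Subgroup ↥Y').index :=
      Nat.Coprime.pow_left k ((Nat.Prime.coprime_iff_not_dvd Nat.prime_two).2 a.not_dvd_index)
    exact Nat.eq_one_of_dvd_coprimes h3 h1 h2
  have hac := a.characteristic_of_normal han
  -- the new `K`-invariant subgroup
  let A : Subgroup ↥N := ((a : Subgroup ↥Y').map Y'.subtype :)
  have hKA : K.subgroupOf N ≤ normalizer (A : Set ↥N) := by
    have h1 : K.subgroupOf N ≤ normalizer (Y' : Set ↥N) := by
      intro k hk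
      have h2 : π k ∈ normalizer (Y : Set (↥N ⧸ C)) := hKY ⟨k, hk, rfl⟩
      rw [mem_normalizer_iff] at h2 ⊢
      intro y
      have h3 := h2 (π y)
      rw [← map_mul, ← map_inv, ← map_mul] at h3
      exact h3
    exact h1.trans (MinCounterBasic.normalizer_le_normalizer_map _ hac)
  let Y1 : Subgroup ↥S := (A.map N.subtype).subgroupOf S
  have hAS' : A.map N.subtype ≤ S := by
    rintro _ ⟨_, ⟨y, -, rfl⟩, rfl⟩
    exact hYS y y.2
  have hY1m : Y1.map S.subtype = A.map N.subtype := map_subgroupOf_eq_of_le hAS'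
  have h1 := hmax Y1 (((a.isPGroup'.map _).map _).comap_of_injective _ S.subtype_injective) ?_ ?_
  · apply hwC
    have h2 : (w : G) ∈ Y1.map S.subtype := by
      rw [hY1m]
      exact ⟨w, ⟨⟨w, hwY⟩, ha (mem_zpowers _), rfl⟩, rfl⟩
    rw [h1] at h2
    obtain ⟨v, hv, hvw⟩ := h2
    have h3 := hVC v hv
    have h4 : (⟨v, hVN v hv⟩ : ↥N) = w := Subtype.ext hvw
    rwa [h4] at h3
  · intro v hv
    show (v : G) ∈ A.map N.subtype
    have h2 := hVC v hv
    refine ⟨⟨v, hVN v hv⟩, ⟨⟨⟨v, hVN v hv⟩, hCY h2⟩, hV'a ?_, rfl⟩, rfl⟩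
    exact ⟨v, hv, rfl⟩
  · rw [hY1m]
    intro k hk
    have h2 : (⟨k, hKV hk⟩ : ↥N) ∈ normalizer (A : Set ↥N) := hKA hk
    rw [mem_normalizer_iff] at h2 ⊢
    intro g
    constructor
    · rintro ⟨y, hy, rfl⟩
      exact ⟨_, (h2 y).1 hy, rfl⟩
    · rintro ⟨y, hy, hyg⟩
      refine ⟨(⟨k, hKV hk⟩ : ↥N)⁻¹ * y * ⟨k, hKV hk⟩, ?_, ?_⟩
      · show _ ∈ A
        rw [h2]
        have e1 : (⟨k, hKV hk⟩ : ↥N) * ((⟨k, hKV hk⟩ : ↥N)⁻¹ * y * ⟨k, hKV hk⟩) * (⟨k, hKV hk⟩ : ↥N)⁻¹ = y := by group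
        rw [e1]
        exact hy
      · show k⁻¹ * (y : G) * k = g
        have h3 : (y : G) = k * g * k⁻¹ := hyg
        rw [h3]
        group

end Cfsg.Agent.H460.Car
end

-- part: H460/Car/TwoD
section
/-!
# Carter subgroups and groups of Lie type of characteristic two: theorem [U] (S3852, helper460)

* `nrm_of_two` : if `K` normalises a `2`-subgroup `≠ 1` of `S` then `K` normalises a Sylow `2`-subgroup of `S`;
* `nrm_of_cen` : the same if `|C_S(z)|` is even for some `z ∈ Z(K) ∩ S` of odd prime order.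
-/

set_option autoImplicit false
set_option linter.unusedSectionVars false
set_option linter.unusedVariables false

namespace Cfsg.Agent.H460.Car

open Subgroup Pointwise
open Cfsg Cfsg.Agent.Solvable.Carter Cfsg.Agent.H18.Carter
open Cfsg.Agent.FixBN (Split HasSplit)
open Cfsg.Agent.SignalizersComponents Cfsg.Agent.Lib
open Cfsg.Agent.KFacts.RgdFilt (HasFilt)
open scoped commutatorElement

universe u

variable {G : Type u} [Group G] [Finite G] {S K : Subgroup G}

theorem AS.conj (c : AS G S K) (g : G) : AS G S (MulAut.conj g • K) := by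
  have := c.normal
  refine ⟨c.normal, c.simple, c.na, c.cen, c.min, c.carter.conj g, ?_⟩
  have h1 : MulAut.conj g • (K ⊔ S) = ⊤ := by
    rw [c.prod, conj_smul_eq_map, map_top_of_surjective _ (MulAut.conj g).surjective]
  rw [Subgroup.smul_sup] at h1
  rwa [cj_eq_self_iff.2 (show g ∈ normalizer (S : Set G) by rw [normalizer_eq_top_iff.2 c.normal]; trivial)] at h1

/-- **[U], first form.** -/
theorem nrm_of_two (c : AS G S K) (hF : HasFilt 2 ↥S) (hFT : FT.{u}) (IH : IHt.{u} (Nat.card G))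
    (hY : ∃ Y : Subgroup G, Y ≤ S ∧ Y ≠ ⊥ ∧ IsPGroup 2 Y ∧ K ≤ normalizer (Y : Set G)) : Nrm 2 K S := by
  have hSn := c.normal
  have hSs := c.simple
  have hf : Fact (Nat.Prime 2) := ⟨Nat.prime_two⟩
  have hna : ∃ a b : ↥S, a * b ≠ b * a := by
    have := c.na
    push Not at this
    exact this
  obtain ⟨R, hR⟩ := (Set.toFinite {Y : Subgroup G | Y ≤ S ∧ Y ≠ ⊥ ∧ IsPGroup 2 Y ∧ K ≤ normalizer (Y : Set G)}).exists_maximal
    hY
  obtain ⟨hRS, hR1, hRp, hKR⟩ := hR.prop
  have hRmax : ∀ Y : Subgroup G, Y ≤ S → IsPGroup 2 Y → K ≤ normalizer (Y : Set G) → R ≤ Y → Y = R := by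
    intro Y h1 h2 h3 h4
    refine le_antisymm (hR.le_of_ge ⟨h1, ?_, h2, h3⟩ h4) h4
    rintro rfl
    exact hR1 (le_bot_iff.1 h4)
  set! R0 : Subgroup ↥S := R.subgroupOf S with hR0
  have hRm : R0.map S.subtype = R := map_subgroupOf_eq_of_le hRS
  have hR0p : IsPGroup 2 R0 := hRp.comap_of_injective _ S.subtype_injective
  have hR01 : R0 ≠ ⊥ := by
    intro h
    apply hR1
    rw [← hRm, h, Subgroup.map_bot]
  obtain ⟨P, U, hne, hS, hbt⟩ := exists_bt hF hna
  obtain ⟨g, V, hV, hBV, hRV, hNV⟩ := hbt R0 hR0p hR01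
  -- `R0 = V^g`
  have hVg : R0 = MulAut.conj g • V := by
    by_contra hne'
    have hVgp : IsPGroup 2 ↥(MulAut.conj g • V : Subgroup ↥S) := by
      rw [conj_smul_eq_map]
      exact hV.map _
    obtain ⟨x, hx, hxR, hxN⟩ := exists_normalizing hVgp (lt_of_le_of_ne hRV hne')
    set! NG : Subgroup G := (normalizer (R0 : Set ↥S)).map S.subtype with hNG
    have hNGS : NG ≤ S := by
      rintro _ ⟨y, -, rfl⟩
      exact y.2
    have hKR' : K ≤ normalizer ((R0.map S.subtype : Subgroup G) : Set G) := by rw [hRm]; exact hKR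
    have hKNG : K ≤ normalizer (NG : Set G) := fun k hk =>
      norm_of_act (fun y hy => act_mem_normalizer (hKR' hk) hy) fun y hy => act_mem_normalizer (inv_mem (hKR' hk)) hy
    let O : Subgroup G := (pCore 2 ↥NG).map NG.subtype
    have hOS : O ≤ S := by
      rintro _ ⟨y, -, rfl⟩
      exact hNGS y.2
    have hOp : IsPGroup 2 O := (Cores.pCore_isPGroup 2).map _
    have hKO : K ≤ normalizer (O : Set G) :=
      hKNG.trans (MinCounterBasic.normalizer_le_normalizer_map _ (Cores.pCore_characteristic 2))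
    have key : ∀ A : Subgroup ↥S, IsPGroup 2 A → (∀ n ∈ normalizer (R0 : Set ↥S), ∀ y ∈ A, n * y * n⁻¹ ∈ A) →
        ∀ y ∈ A, y ∈ normalizer (R0 : Set ↥S) → (y : G) ∈ O := by
      intro A hA hn y hy hyN
      let A' : Subgroup ↥NG := (A.map S.subtype).subgroupOf NG
      have h1 : A'.Normal := by
        refine ⟨fun z hz n => ?_⟩
        obtain ⟨n0, hn0, hnn⟩ := n.2
        obtain ⟨z0, hz0, hzz⟩ := hz
        refine ⟨n0 * z0 * n0⁻¹, hn n0 hn0 z0 hz0, ?_⟩
        rw [map_mul, map_mul, map_inv, hnn, hzz]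
        rfl
      have h2 : IsPGroup 2 A' := (hA.map _).comap_of_injective _ NG.subtype_injective
      have h3 : A' ≤ pCore 2 ↥NG := Cores.le_pCore h1 h2
      exact ⟨⟨y, y, hyN, rfl⟩, h3 ⟨y, hy, rfl⟩, rfl⟩
    have hRO : R ≤ O := by
      rw [← hRm]
      rintro _ ⟨y, hy, rfl⟩
      exact key R0 hR0p (fun n hn y hy => (mem_normalizer_iff.1 hn y).1 hy) y hy (le_normalizer hy)
    have hOR := hRmax O hOS hOp hKO hRO
    apply hxR
    show (x : G) ∈ R
    rw [← hOR]
    refine key _ hVgp (fun n hn y hy => ?_) x hx hxN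
    have h1 : n ∈ normalizer ((MulAut.conj g • V : Subgroup ↥S) : Set ↥S) := by
      rw [← cj_normalizer]
      exact hNV hn
    exact (mem_normalizer_iff.1 h1 y).1 hy
  -- conjugate
  have hgK : ∀ A : Subgroup ↥S, (MulAut.conj g • A : Subgroup ↥S).map S.subtype = MulAut.conj (g : G) • (A.map S.subtype) :=
    fun A => (cj_map S.subtype g A).symm
  set! K' : Subgroup G := MulAut.conj (g : G)⁻¹ • K with hK'
  have hKK' : MulAut.conj (g : G) • K' = K := by rw [hK', cj_cj, mul_inv_cancel, cj_one]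
  have c' : AS G S K' := c.conj _
  have hnorm : ∀ A : Subgroup G, K' ≤ normalizer (A : Set G) ↔ K ≤ normalizer ((MulAut.conj (g : G) • A : Subgroup G) : Set G) := by
    intro A
    rw [← cj_normalizer, ← hKK', Subgroup.pointwise_smul_le_pointwise_smul_iff]
  have hKV : K' ≤ normalizer ((V.map S.subtype : Subgroup G) : Set G) := by
    rw [hnorm, ← hgK, ← hVg, hRm]
    exact hKR
  have hV1 : V ≠ ⊥ := by
    rintro rfl
    apply hR01
    rw [hVg, conj_smul_eq_map, Subgroup.map_bot]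
  have hmax : ∀ Y : Subgroup ↥S, IsPGroup 2 Y → V ≤ Y → K' ≤ normalizer ((Y.map S.subtype : Subgroup G) : Set G) →
      Y = V := by
    intro Y hYp hVY hKY
    have h1 : (MulAut.conj g • Y : Subgroup ↥S).map S.subtype = R := by
      refine hRmax _ ?_ ?_ ?_ ?_
      · rintro _ ⟨y, -, rfl⟩
        exact y.2
      · rw [conj_smul_eq_map]
        exact (hYp.map _).map _
      · rw [hgK, ← hnorm]
        exact hKY
      · rw [← hRm, hVg]
        exact Subgroup.map_mono (Subgroup.pointwise_smul_le_pointwise_smul_iff.2 hVY)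
    have h2 : (MulAut.conj g • Y : Subgroup ↥S) = MulAut.conj g • V := by
      rw [← hVg]
      apply Subgroup.map_injective S.subtype_injective
      rw [h1, hRm]
    have h3 := congrArg (fun A : Subgroup ↥S => MulAut.conj g⁻¹ • A) h2
    simp only [cj_cj, inv_mul_cancel, cj_one] at h3
    exact h3
  obtain ⟨J, hJ, hM⟩ := Cfsg.Agent.S0311.result P (normalizer (V : Set ↥S)) hBV
  rcases J.eq_empty_or_nonempty with rfl | hJ1
  · -- the Borel case
    have hB : normalizer (V : Set ↥S) = P.B := by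
      rw [hM]
      show P.B ⊔ _root_.Subgroup.closure ∅ = P.B
      rw [Subgroup.closure_empty, sup_bot_eq]
    have hVU := V_le_U hS hV hBV
    have hUV : U = V := by
      refine hmax U hS.isP hVU ?_
      have key : ∀ k ∈ K', ∀ y ∈ U, act S k y ∈ U := by
        intro k hk y hy
        have h1 := act_mem_normalizer (hKV hk) (show y ∈ normalizer (V : Set ↥S) by rw [hB]; exact hS.le hy)
        rw [hB] at h1
        obtain ⟨n, hn⟩ := hS.isP ⟨y, hy⟩
        have hn' : y ^ 2 ^ n = 1 := congrArg Subtype.val hn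
        exact hS.mem_of_pow (n := n) h1 (by rw [← map_pow, hn', map_one])
      exact fun k hk => norm_of_act (key k hk) (key k⁻¹ (inv_mem hk))
    let u : Sylow 2 ↥S :=
      { U with
        isPGroup' := hS.isP
        is_maximal' := fun {Q} hQ hle => U_max hS hQ hle }
    have hu : (u : Subgroup ↥S) = V := hUV
    refine ⟨R, hRS, hRp, ?_, hKR⟩
    have h1 : ((g • u : Sylow 2 ↥S) : Subgroup ↥S) = R0 := by
      rw [Sylow.coe_subgroup_smul, hu, hVg]
    have h2 := (g • u : Sylow 2 ↥S).not_dvd_index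
    rw [h1] at h2
    exact h2
  · exact absurd (false_of_nonempty c' hS hJ hJ1 hV hV1 hM.symm hKV hmax hFT IH) not_false

end Cfsg.Agent.H460.Car
end

private theorem dce_8b48b98c273f : _root_.True := by
  try have : _root_.True := by simp only [_root_.Cfsg.Agent.H460.Car.act.congr_simp]
  try have : _root_.True := by simp only [_root_.Cfsg.Agent.H460.Car.Sol.A.congr_simp]
  exact _root_.True.intro
end

-- part: H502/E6/ReflZ
section
set_option linter.all false
open scoped Cfsg.Agent.FastGrp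

/-!
# `ReflZ`: stabilisers of integral homomorphisms of the root lattice of type `E₆` are generated by reflections (helper502)
-/

set_option autoImplicit false
set_option linter.unusedSectionVars false

namespace Cfsg.Agent.H502.E6

open CoxeterSystem Subgroup Cfsg Cfsg.Lie Cfsg.Lie.ChevalleyDatum
open Cfsg.Agent.ChevalleyStructure Cfsg.Agent.ChevalleyStructure.Elts Cfsg.Agent.ChevalleyStructure.CoxeterGeom
  Cfsg.Agent.ChevalleyStructure.CoxeterGeomTypes Cfsg.Agent.ChevalleyStructure.NPerm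
open Cfsg.Agent.Tits.Roots Cfsg.Agent.Tits.Core Cfsg.Agent.Nodes Cfsg.Agent.Nodes.Reps Cfsg.Agent.Nodes.BNOf
  Cfsg.Agent.Nodes.RGDChev Cfsg.Agent.Nodes.Bruhat
open Cfsg.Agent.KFacts.RgdField Cfsg.Agent.KFacts.RgdChevCoord
open Cfsg.Agent.BpExc Cfsg.Agent.BpExc.TorCent Cfsg.Agent.BpExc.TorChev Cfsg.Agent.BpExc.Tow
open Cfsg.Agent.BpExc.TowChev Cfsg.Agent.BpExc.Fr Cfsg.Agent.BpExc.LangFr
open Cfsg.Agent.BpExc.FamUntw
open Cfsg.Agent.H696.GmnToral Cfsg.Agent.H720.TwFr
open Cfsg.Agent.H607.Car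

section

variable {A : Type*} [AddCommGroup A]

/-- `val` as a linear map -/
noncomputable def vL (c : Fin 6 → A) : (Fin 6 → ℤ) →ₗ[ℤ] A := Fintype.linearCombination ℤ c

theorem vL_apply (c : Fin 6 → A) (a : Fin 6 → ℤ) : vL c a = val c a := rfl

theorem val_sr (c : Fin 6 → A) (i : Fin 6) : val c (sr i) = c i := by
  rw [val, Finset.sum_eq_single i]
  · rw [sr, Pi.single_eq_same, one_smul]
  · intro j _ hj
    rw [sr, Pi.single_eq_of_ne hj, zero_smul]
  · intro h
    exact absurd (Finset.mem_univ i) h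

theorem rp_mul (v w : W6) (a : Fin 6 → ℤ) : rp (v * w) a = rp v (rp w a) := rep_mul_apply cs6 hp6.isCartan v w a

/-- the homomorphism `val c ∘ v` -/
theorem val_comp (c : Fin 6 → A) (v : W6) (a : Fin 6 → ℤ) : val (fun i => val c (rp v (sr i))) a = val c (rp v a) := by
  have h : vL (fun i => val c (rp v (sr i))) = (vL c).comp (rep cs6 hp6.isCartan v) := by
    refine LinearMap.pi_ext' fun i => LinearMap.ext_ring ?_
    show vL (fun i => val c (rp v (sr i))) (sr i) = vL c (rp v (sr i))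
    rw [vL_apply, vL_apply, val_sr]
  exact LinearMap.congr_fun h a

theorem rp_simple (i : Fin 6) (a : Fin 6 → ℤ) :
    rp (cs6.simple i) a = a - pairing (cartanOf chevE6 6) i a • sr i := by
  show rep cs6 hp6.isCartan (cs6.simple i) a = _
  rw [rep_simple, refl_apply, sr, ← Pi.single_smul, smul_eq_mul, mul_one]

theorem val_simple (c : Fin 6 → A) (i : Fin 6) (a : Fin 6 → ℤ) :
    val c (rp (cs6.simple i) a) = val c a - pairing (cartanOf chevE6 6) i a • c i := by
  rw [rp_simple, ← vL_apply, map_sub, map_smul, vL_apply, vL_apply, val_sr]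

/-- `ReflGen` is invariant under the Weyl group -/
theorem reflGen_comp {c : Fin 6 → A} {v : W6} (h : ReflGen fun i => val c (rp v (sr i))) : ReflGen c := by
  intro w hw
  have h1 : FixW (fun i => val c (rp v (sr i))) (v⁻¹ * w * v) := by
    intro a
    rw [val_comp, val_comp, ← rp_mul]
    have : v * (v⁻¹ * w * v) = w * v := by group
    rw [this, rp_mul, hw]
  have h2 : ∀ x ∈ Subgroup.closure {s | ∃ (u : W6) (i : Fin 6), s = u * cs6.simple i * u⁻¹ ∧
      val (fun i => val c (rp v (sr i))) (rp u (sr i)) = 0}, v * x * v⁻¹ ∈ Subgroup.closure {s | ∃ (u : W6) (i : Fin 6),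
      s = u * cs6.simple i * u⁻¹ ∧ val c (rp u (sr i)) = 0} := by
    intro x hx
    induction hx using Subgroup.closure_induction with
    | mem x hx =>
      obtain ⟨u, i, rfl, hu⟩ := hx
      refine Subgroup.subset_closure ⟨v * u, i, by group, ?_⟩
      rw [rp_mul, ← hu, val_comp]
    | one => rw [mul_one, mul_inv_cancel]; exact one_mem _
    | mul x y _ _ hx hy =>
      have : v * (x * y) * v⁻¹ = v * x * v⁻¹ * (v * y * v⁻¹) := by group
      rw [this]
      exact mul_mem hx hy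
    | inv x _ hx =>
      have : v * x⁻¹ * v⁻¹ = (v * x * v⁻¹)⁻¹ := by group
      rw [this]
      exact inv_mem hx
  have h3 := h2 _ (h _ h1)
  have : v * (v⁻¹ * w * v) * v⁻¹ = w := by group
  rwa [this] at h3

end

/-- the dominant case -/
theorem reflGen_dom {m : Fin 6 → ℤ} (hm : ∀ i, 0 ≤ m i) : ReflGen m := by
  have hneg : ∀ a : Fin 6 → ℤ, a ≤ 0 → val m a ≤ 0 := by
    intro a ha
    refine Finset.sum_nonpos fun i _ => ?_
    rw [smul_eq_mul]
    exact mul_nonpos_of_nonpos_of_nonneg (ha i) (hm i)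
  have key : ∀ (n : ℕ) (w : W6), cs6.length w = n → FixW m w → w ∈ Subgroup.closure {s | ∃ (v : W6) (i : Fin 6),
      s = v * cs6.simple i * v⁻¹ ∧ val m (rp v (sr i)) = 0} := by
    intro n
    induction n using Nat.strong_induction_on with
    | _ n ih =>
    intro w hn hw
    by_cases h1 : w = 1
    · rw [h1]
      exact one_mem _
    obtain ⟨i, hi⟩ := cs6.exists_rightDescent_of_ne_one h1
    have hi' : cs6.length (w * cs6.simple i) < cs6.length w := hi
    have h3 := hneg _ (nonpos_of_lt cs6 hp6.isCartan w i hi')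
    have h4 : val m (rp w (sr i)) = m i := by rw [hw, val_sr]
    have h5 : m i = 0 := le_antisymm (by rw [← h4]; exact h3) (hm i)
    have h6 : cs6.simple i ∈ Subgroup.closure {s | ∃ (v : W6) (i : Fin 6),
        s = v * cs6.simple i * v⁻¹ ∧ val m (rp v (sr i)) = 0} := by
      refine Subgroup.subset_closure ⟨1, i, by group, ?_⟩
      show val m (rep cs6 hp6.isCartan 1 (sr i)) = 0
      rw [map_one, Module.End.one_apply, val_sr, h5]
    have h7 := ih _ (hn ▸ hi') (w * cs6.simple i) rfl (by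
      intro a
      rw [rp_mul, hw, val_simple, h5, smul_zero, sub_zero])
    have h8 := mul_mem h7 h6
    rwa [mul_assoc, cs6.simple_mul_simple_self, mul_one] at h8
  exact fun w hw => key _ w rfl hw

/-- the sum of the positive roots -/
def tworho : Fin 6 → ℤ := ![16, 22, 30, 42, 30, 16]

theorem pairing_tworho : ∀ i, pairing (cartanOf chevE6 6) i tworho = 2 := by decide +kernel

/-- **T2a** -/
theorem reflZ : ReflZ := by
  intro m
  haveI : Finite W6 := finite_W hp6 cs6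
  haveI : Nonempty W6 := ⟨1⟩
  obtain ⟨v, hv⟩ := Finite.exists_max fun v : W6 => val m (rp v tworho)
  apply reflGen_comp (v := v)
  apply reflGen_dom
  intro i
  have h1 := hv (v * cs6.simple i)
  change val m (rp (v * cs6.simple i) tworho) ≤ val m (rp v tworho) at h1
  rw [rp_mul, ← val_comp m v, ← val_comp m v, val_simple, pairing_tworho, smul_eq_mul] at h1
  omega

end Cfsg.Agent.H502.E6

private theorem dce_dcc002cc6a64 : _root_.True := by
  try have : _root_.True := by simp only [_root_.Cfsg.Agent.H607.Car.val.eq_1]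
  exact _root_.True.intro
end

-- part: H943/Car/ThreeFin
section
set_option linter.all false

/-!
# T4 of S3852 for `E₆(q)` and `²E₆(q)` (helper943)
-/

set_option autoImplicit false

namespace Cfsg.Agent.H943.Car.ThreeFin

open Cfsg Cfsg.Lie Cfsg.Lie.ChevalleyDatum Cfsg.Agent.ChevalleyStructure Cfsg.Agent.Nodes.RGDChev
  Cfsg.Agent.BpExc.FamUntw Cfsg.Agent.H720.TwFr Cfsg.Agent.H607.Car

variable {r n : ℕ} [Fact r.Prime]

/-- **T4 for `E₆(q)`.** -/
theorem threeSt_untw {F : Type} [Field F] [Fintype F] (f : F →+* Kb r) (hq : Fintype.card F = r ^ n)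
    (S : Six r n 1 (GpExc.Field.emb hp6.inList f) (phi chevE6 (Kb r) r n)) :
    ThreeSt r n 1 (GpExc.Field.emb hp6.inList f) :=
  Three.threeSt_untw H502.E6.reflZ f hq S

/-- **T4 for `²E₆(q)`.** -/
theorem threeSt_tw {K : Type} [Field K] [Fintype K] {q : ℕ} (f : K →+* Kb r) (hn : q = r ^ n)
    (hK : Fintype.card K = q ^ 2) (S : Six r n (-1) (em6 q f) (sig6 (Kb r) r n)) :
    ThreeSt r n (-1) (em6 q f) :=
  Three.threeSt_tw H502.E6.reflZ f hn hK S

end Cfsg.Agent.H943.Car.ThreeFin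
end

-- part: H298/Car/LiftSt
section
prune_inst 0x14201d00472200000000001280001f12fe000092004b880018e00742000e5e228002a6204c201c100000080400340068135c0010420000000a000000011905a190080004d1c90000420001001002000000000000000000000000000000041000200000000
set_option linter.all false
open scoped Cfsg.Agent.FastGrp

/-!
# `E₆`: homomorphisms of the root lattice modulo a prime `l ≥ 5` lift with the same stabiliser
(S3852, T1 `LiftSt`, helper298)
-/

set_option autoImplicit false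
set_option linter.unusedSectionVars false

namespace Cfsg.Agent.H298.Car

open CoxeterSystem Subgroup Cfsg Cfsg.Lie Cfsg.Lie.ChevalleyDatum
open Cfsg.Agent.ChevalleyStructure Cfsg.Agent.ChevalleyStructure.CoxeterGeom
  Cfsg.Agent.ChevalleyStructure.CoxeterGeomTypes
open Cfsg.Agent.Tits.Roots Cfsg.Agent.Tits.Core
open Cfsg.Agent.H720.TwFr (hp6)
open Cfsg.Agent.H607.Car

section val

variable {A B : Type*} [AddCommGroup A] [AddCommGroup B]

/-- `val c` as a homomorphism -/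
def valHom (c : Fin 6 → A) : (Fin 6 → ℤ) →+ A where
  toFun := val c
  map_zero' := by simp [val]
  map_add' a b := by simp only [val, add_smul, Finset.sum_add_distrib, _root_.Pi.add_apply]

theorem val_sr (c : Fin 6 → A) (i : Fin 6) : val c (sr i) = c i := by
  unfold val
  rw [Finset.sum_eq_single i]
  · rw [sr_self, one_smul]
  · intro j _ hj
    rw [sr_ne hj, zero_smul]
  · simp only [_root_.Finset.mem_univ, _root_.not_true_eq_false, _root_.IsEmpty.forall_iff]

theorem eq_sum_sr (a : Fin 6 → ℤ) : a = ∑ k, a k • sr k := by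
  funext j
  simp [Finset.sum_apply, sr, Pi.single_apply]

theorem hom_ext {f g : (Fin 6 → ℤ) →+ A} (h : ∀ i, f (sr i) = g (sr i)) : f = g := by
  refine AddMonoidHom.ext fun a => ?_
  rw [eq_sum_sr a, map_sum, map_sum]
  refine Finset.sum_congr rfl fun i _ => ?_
  rw [map_zsmul, map_zsmul, h]

/-- the homomorphism `val c ∘ w` -/
def pull (c : Fin 6 → A) (w : W6) : Fin 6 → A := fun i => val c (rp w (sr i))

theorem val_pull (c : Fin 6 → A) (w : W6) (a : Fin 6 → ℤ) : val (pull c w) a = val c (rp w a) := by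
  have h : valHom (pull c w) = (valHom c).comp (rep cs6 hp6.isCartan w).toAddMonoidHom :=
    hom_ext fun i => by
      show val (pull c w) (sr i) = val c (rp w (sr i))
      rw [val_sr]
      rfl
  exact DFunLike.congr_fun h a

theorem pull_mul (c : Fin 6 → A) (v w : W6) : pull c (v * w) = pull (pull c v) w := by
  funext i
  show val c (rp (v * w) (sr i)) = val (pull c v) (rp w (sr i))
  rw [val_pull]
  congr 1
  exact rep_mul_apply cs6 hp6.isCartan v w (sr i)

theorem pull_one (c : Fin 6 → A) : pull c 1 = c := by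
  funext i
  show val c (rep cs6 hp6.isCartan 1 (sr i)) = c i
  rw [map_one, Module.End.one_apply, val_sr]

theorem fixW_iff (c : Fin 6 → A) (w : W6) : FixW c w ↔ pull c w = c := by
  constructor
  · intro h
    funext i
    rw [← val_sr c i]
    exact h (sr i)
  · intro h a
    rw [← val_pull, h]

/-- the stabiliser -/
def stab (c : Fin 6 → A) : Subgroup W6 where
  carrier := {w | pull c w = c}
  one_mem' := pull_one c
  mul_mem' := by
    intro v w hv hw
    show pull c (v * w) = c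
    rw [pull_mul, show pull c v = c from hv, show pull c w = c from hw]
  inv_mem' := by
    intro w hw
    show pull c w⁻¹ = c
    have h : pull c (w * w⁻¹) = c := by rw [mul_inv_cancel, pull_one]
    rwa [pull_mul, show pull c w = c from hw] at h

theorem mem_stab {c : Fin 6 → A} {w : W6} : w ∈ stab c ↔ pull c w = c := Iff.rfl

theorem val_map (f : A →+ B) (c : Fin 6 → A) (a : Fin 6 → ℤ) : f (val c a) = val (fun i => f (c i)) a := by
  unfold val
  rw [map_sum]
  exact Finset.sum_congr rfl fun i _ => map_zsmul f _ _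

theorem pull_map (f : A →+ B) (c : Fin 6 → A) (w : W6) : (fun i => f (pull c w i)) = pull (fun i => f (c i)) w := by
  funext i
  exact val_map f c _

theorem pull_sum {ι : Type*} (s : Finset ι) (F : ι → Fin 6 → A) (w : W6) :
    pull (∑ q ∈ s, F q) w = ∑ q ∈ s, pull (F q) w := by
  classical
  induction s using Finset.induction_on with
  | empty =>
    funext i
    simp only [pull, val, _root_.Finset.sum_apply, _root_.Finset.sum_empty, _root_.smul_zero, _root_.Finset.sum_const_zero]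
  | insert a s ha ih =>
    rw [Finset.sum_insert ha, Finset.sum_insert ha, ← ih]
    funext i
    simp only [pull, val, smul_add, Finset.sum_add_distrib, _root_.Pi.add_apply, _root_.Finset.sum_apply]

theorem pull_smul (k : ℤ) (c : Fin 6 → A) (w : W6) : pull (k • c) w = k • pull c w := by
  funext i
  simp only [pull, val, Pi.smul_apply, Finset.smul_sum]
  exact Finset.sum_congr rfl fun j _ => smul_comm _ _ _

theorem pull_simple (c : Fin 6 → A) (i j : Fin 6) :
    pull c (cs6.simple i) j = c j - cartanOf chevE6 6 i j • c i := by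
  show val c (rep cs6 hp6.isCartan (cs6.simple i) (sr j)) = _
  rw [rep_simple_eq]
  have h1 : valHom c (sr j - pairing (cartanOf chevE6 6) i (sr j) • sr i) =
      valHom c (sr j) - pairing (cartanOf chevE6 6) i (sr j) • valHom c (sr i) := by
    rw [map_sub, map_zsmul]
  have h2 : pairing (cartanOf chevE6 6) i (sr j) = cartanOf chevE6 6 i j := by
    unfold pairing
    rw [Finset.sum_eq_single j]
    · rw [sr_self, mul_one]
    · intro k _ hk
      rw [sr_ne hk, mul_zero]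
    · simp
  rw [h2] at h1
  refine (show val c _ = valHom c _ from rfl).trans ?_
  rw [h2, h1]
  show val c (sr j) - _ • val c (sr i) = _
  rw [val_sr, val_sr]

theorem simple_mem_stab {c : Fin 6 → A} {i : Fin 6} (h : c i = 0) : cs6.simple i ∈ stab c := by
  rw [mem_stab]
  funext j
  rw [pull_simple, h, smul_zero, sub_zero]

end val

/-- an element of order 5 -/
def u0 : W6 := cs6.simple 0 * cs6.simple 2 * cs6.simple 3 * cs6.simple 4

/-- the Cartan matrix -/
def CM : List (List ℤ) := [[2,0,-1,0,0,0],[0,2,0,-1,0,0],[-1,0,2,-1,0,0],[0,-1,-1,2,-1,0],[0,0,0,-1,2,-1],[0,0,0,0,-1,2]]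

set_option backward.isDefEq.respectTransparency false in
theorem ct : ∀ i j : Fin 6, cartanOf chevE6 6 i j = (CM.getD i []).getD j 0 := by
  decide +kernel

theorem zero_of_u0 {A : Type*} [AddCommGroup A] {c : Fin 6 → A} (h : u0 ∈ stab c) :
    c 0 = 0 ∧ c 2 = 0 ∧ c 3 = 0 ∧ c 4 = 0 := by
  rw [mem_stab, u0, pull_mul, pull_mul, pull_mul] at h
  have h0 := congrFun h 0
  have h1 := congrFun h 1
  have h2 := congrFun h 2
  have h3 := congrFun h 3
  have h4 := congrFun h 4
  have h5 := congrFun h 5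
  simp only [pull_simple, ct] at h0 h1 h2 h3 h4 h5
  simp only [CM, _root_.Fin.isValue, _root_.Int.reduceNeg, _root_.Fin.coe_ofNat_eq_mod, _root_.Nat.zero_mod, _root_.List.getD_eq_getElem?_getD, _root_.List.length_cons, _root_.List.length_nil, _root_.zero_add, _root_.Nat.reduceAdd, _root_.Nat.ofNat_pos, _root_.getElem?_pos, _root_.List.getElem_cons_zero, _root_.Option.getD_some, _root_.Nat.reduceMod, _root_.Nat.reduceLT, _root_.List.getElem_cons_succ, _root_.neg_smul, _root_.one_smul, _root_.sub_neg_eq_add, _root_.smul_add, _root_.zero_smul, _root_.sub_zero, _root_.add_zero, _root_.neg_sub, _root_.Nat.one_mod, _root_.Nat.one_lt_ofNat, _root_.sub_eq_self, _root_.Nat.mod_succ, _root_.Nat.lt_add_one] at h0 h1 h2 h3 h4 h5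
  have e4 : c 4 = 0 := by
    calc c 4 = (-c 2 + -c 0 - c 3) - (-c 2 + -c 0 - c 3 - c 4) := by abel
      _ = 0 := by rw [h5, h1, sub_zero]
  have e3 : c 3 = 0 := by
    refine h3.symm.trans (Eq.trans ?_ e4)
    abel
  have e2 : c 2 = 0 := by
    refine h2.symm.trans (Eq.trans ?_ e3)
    abel
  have e0 : c 0 = 0 := by
    refine h0.symm.trans (Eq.trans ?_ e2)
    abel
  exact ⟨e0, e2, e3, e4⟩

theorem u0_mem {A : Type*} [AddCommGroup A] {c : Fin 6 → A} (h0 : c 0 = 0) (h2 : c 2 = 0) (h3 : c 3 = 0) (h4 : c 4 = 0) :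
    u0 ∈ stab c :=
  mul_mem (mul_mem (mul_mem (simple_mem_stab h0) (simple_mem_stab h2)) (simple_mem_stab h3)) (simple_mem_stab h4)

theorem wordProd_pow (l : List (Fin 6)) (m : ℕ) :
    cs6.wordProd l ^ m = cs6.wordProd ((List.replicate m l).flatten) := by
  induction m with
  | zero => simp
  | succ m ih => rw [pow_succ', ih, List.replicate_succ, List.flatten_cons, wordProd_append]

theorem u0_eq : u0 = cs6.wordProd [0, 2, 3, 4] := by
  rw [u0]
  simp [wordProd_cons, mul_assoc]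

set_option backward.isDefEq.respectTransparency false in
theorem u0_pow : u0 ^ 5 = 1 := by
  rw [u0_eq, wordProd_pow]
  exact CoxeterWordCheck.wordProd_eq_one cs6 hp6.isCartan _ (by decide +kernel)

theorem u0_ne : u0 ≠ 1 := by
  intro h
  have h1 : u0 ∈ stab (fun _ => (1 : ℤ)) := by
    rw [h]
    exact one_mem _
  exact one_ne_zero (zero_of_u0 h1).1

theorem orderOf_u0 : orderOf u0 = 5 := by
  have h1 := orderOf_dvd_of_pow_eq_one u0_pow
  rcases (Nat.dvd_prime Nat.prime_five).1 h1 with h2 | h2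
  · exact absurd (orderOf_eq_one_iff.1 h2) u0_ne
  · exact h2

theorem card_W6 : Nat.card W6 = 51840 := S1093.result (⟨6, CoxeterMatrix.E₆⟩, 51840) (by simp)

instance finite_W6 : Finite W6 := Nat.finite_of_card_ne_zero (by rw [card_W6]; norm_num)

/-! ### averaging -/

/-- removing powers of 2 -/
theorem exists_odd (N : ℕ) : ∀ (m : Fin 6 → ℤ) (i : Fin 6), m i ≠ 0 → (m i).natAbs ≤ N →
    ∃ (k : ℕ) (m' : Fin 6 → ℤ), m = (2 ^ k : ℤ) • m' ∧ ∃ j, Odd (m' j) := by
  induction N with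
  | zero =>
    intro m i h1 h2
    exact absurd (Int.natAbs_eq_zero.1 (Nat.le_zero.1 h2)) h1
  | succ N ih =>
    intro m i h1 h2
    by_cases ho : ∃ j, Odd (m j)
    · exact ⟨0, m, by simp, ho⟩
    · have he : ∀ j, ∃ x, m j = 2 * x := by
        intro j
        have h3 : ¬ Odd (m j) := fun h => ho ⟨j, h⟩
        rw [Int.not_odd_iff_even] at h3
        obtain ⟨x, hx⟩ := h3
        exact ⟨x, by rw [hx]; ring⟩
      choose m1 hm1 using he
      have h4 : m1 i ≠ 0 := by
        intro h5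
        apply h1
        rw [hm1, h5, mul_zero]
      have h5 : (m1 i).natAbs ≤ N := by
        have := hm1 i
        omega
      obtain ⟨k, m', hm', hodd⟩ := ih m1 i h4 h5
      refine ⟨k + 1, m', ?_, hodd⟩
      funext j
      rw [hm1, hm', Pi.smul_apply, Pi.smul_apply, smul_eq_mul, smul_eq_mul, pow_succ]
      ring

theorem finish {l : ℕ} [Fact l.Prime] (hl2 : l ≠ 2) {c : Fin 6 → ZMod l} (hc : c ≠ 0) (m' : Fin 6 → ℤ) {N : ZMod l}
    (hN : N ≠ 0) (hm' : ∀ i, (m' i : ZMod l) = N * c i) (hst : stab c ≤ stab m') :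
    ∃ (m : Fin 6 → ℤ) (u : ZMod l), IsUnit u ∧ (∃ i, Odd (m i)) ∧ (∀ i, c i = u * (m i : ZMod l)) ∧
      ∀ w, FixW c w → FixW m w := by
  obtain ⟨i, hi⟩ : ∃ i, c i ≠ 0 := by
    by_contra hcon
    push Not at hcon
    exact hc (funext hcon)
  have h0 : m' i ≠ 0 := by
    intro h
    have h1 := hm' i
    rw [h, Int.cast_zero] at h1
    exact mul_ne_zero hN hi h1.symm
  obtain ⟨k, m, hm, hodd⟩ := exists_odd _ m' i h0 le_rfl
  have h2 : ((2 : ℤ) : ZMod l) ≠ 0 := by
    intro h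
    have h3 : ((2 : ℕ) : ZMod l) = 0 := by exact_mod_cast h
    rw [ZMod.natCast_eq_zero_iff] at h3
    exact hl2 ((Nat.prime_dvd_prime_iff_eq Fact.out Nat.prime_two).1 h3)
  have h2' : (2 : ZMod l) ≠ 0 := by exact_mod_cast h2
  refine ⟨m, N⁻¹ * 2 ^ k, ?_, hodd, ?_, ?_⟩
  · exact (mul_ne_zero (inv_ne_zero hN) (pow_ne_zero k h2')).isUnit
  · intro j
    have h3 := hm' j
    rw [hm, Pi.smul_apply, smul_eq_mul, Int.cast_mul, Int.cast_pow, Int.cast_ofNat] at h3
    rw [mul_assoc, h3, ← mul_assoc, inv_mul_cancel₀ hN, one_mul]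
  · intro w hw
    rw [fixW_iff] at hw ⊢
    have h3 : pull m' w = m' := hst hw
    rw [hm, pull_smul] at h3
    exact smul_right_injective _ (pow_ne_zero k two_ne_zero) h3

/-- **Averaging** over the cosets of a subgroup `H` of the stabiliser fixing a lift. -/
theorem lift_of_sub {l : ℕ} [Fact l.Prime] (hl2 : l ≠ 2) {c : Fin 6 → ZMod l} (hc : c ≠ 0) (H : Subgroup W6)
    (hidx : ¬ l ∣ H.relIndex (stab c)) (m0 : Fin 6 → ℤ) (hm0 : ∀ i, (m0 i : ZMod l) = c i)
    (hfix : H ≤ stab m0) :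
    ∃ (m : Fin 6 → ℤ) (u : ZMod l), IsUnit u ∧ (∃ i, Odd (m i)) ∧ (∀ i, c i = u * (m i : ZMod l)) ∧
      ∀ w, FixW c w → FixW m w := by
  classical
  let Q := ↥(stab c) ⧸ H.subgroupOf (stab c)
  have : Fintype Q := Fintype.ofFinite Q
  let F : Q → Fin 6 → ℤ := fun q => pull m0 ((q.out : ↥(stab c)) : W6)⁻¹
  have hF : ∀ w : ↥(stab c), F (QuotientGroup.mk w) = pull m0 ((w : W6)⁻¹) := by
    intro w
    have h1 : (QuotientGroup.mk (Quotient.out (QuotientGroup.mk w : Q)) : Q) = QuotientGroup.mk w :=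
      QuotientGroup.out_eq' _
    have h2 := QuotientGroup.eq.1 h1.symm
    rw [Subgroup.mem_subgroupOf] at h2
    set v : ↥(stab c) := Quotient.out (QuotientGroup.mk w : Q) with hv
    show pull m0 ((v : W6)⁻¹) = _
    have h3 : ((w : W6)⁻¹ * (v : W6))⁻¹ ∈ stab m0 := inv_mem (hfix h2)
    have h4 : (v : W6)⁻¹ = ((w : W6)⁻¹ * (v : W6))⁻¹ * (w : W6)⁻¹ := by group
    rw [h4, pull_mul, mem_stab.1 h3]
  let m' : Fin 6 → ℤ := ∑ q : Q, F q
  refine finish hl2 hc m' (N := (Fintype.card Q : ZMod l)) ?_ ?_ ?_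
  · intro h
    rw [ZMod.natCast_eq_zero_iff] at h
    apply hidx
    rw [Subgroup.relIndex, Subgroup.index_eq_card, Nat.card_eq_fintype_card]
    exact h
  · intro i
    show (((∑ q : Q, F q) i : ℤ) : ZMod l) = _
    rw [Finset.sum_apply, Int.cast_sum, ← nsmul_eq_mul, ← Finset.card_univ, ← Finset.sum_const]
    refine Finset.sum_congr rfl fun q _ => ?_
    have h1 := congrFun (pull_map (Int.castAddHom (ZMod l)) m0 ((q.out : ↥(stab c)) : W6)⁻¹) i
    refine h1.trans ?_
    have h2 : (fun i => (Int.castAddHom (ZMod l)) (m0 i)) = c := funext hm0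
    rw [h2, mem_stab.1 (inv_mem (q.out : ↥(stab c)).2)]
  · intro v hv
    rw [mem_stab]
    show pull (∑ q : Q, F q) v = ∑ q : Q, F q
    rw [pull_sum]
    refine Fintype.sum_equiv (MulAction.toPerm (⟨v, hv⟩ : ↥(stab c))⁻¹) _ _ fun q => ?_
    obtain ⟨w, rfl⟩ := QuotientGroup.mk_surjective q
    have e : MulAction.toPerm (⟨v, hv⟩ : ↥(stab c))⁻¹ (QuotientGroup.mk w : Q) =
        (QuotientGroup.mk ((⟨v, hv⟩ : ↥(stab c))⁻¹ * w) : Q) := rfl
    rw [e, hF, hF, ← pull_mul]
    congr 1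
    show (w : W6)⁻¹ * v = (v⁻¹ * (w : W6))⁻¹
    group

theorem not_dvd_card {l : ℕ} (hl : l.Prime) (h2 : l ≠ 2) (h3 : l ≠ 3) (h5 : l ≠ 5) : ¬ l ∣ 51840 := by
  intro h
  rw [show 51840 = 2 ^ 7 * 3 ^ 4 * 5 by norm_num] at h
  rcases hl.dvd_mul.1 h with h1 | h1
  · rcases hl.dvd_mul.1 h1 with h4 | h4
    · exact h2 ((Nat.prime_dvd_prime_iff_eq hl Nat.prime_two).1 (hl.dvd_of_dvd_pow h4))
    · exact h3 ((Nat.prime_dvd_prime_iff_eq hl Nat.prime_three).1 (hl.dvd_of_dvd_pow h4))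
  · exact h5 ((Nat.prime_dvd_prime_iff_eq hl Nat.prime_five).1 h1)

/-- **T1.** -/
theorem liftSt : LiftSt := by
  intro l hl hl2 hl3 c hc
  have : Fact l.Prime := ⟨hl⟩
  have hcard : Nat.card (stab c) ∣ 51840 := by
    rw [← card_W6]
    exact Subgroup.card_subgroup_dvd_card _
  by_cases h : l ∣ Nat.card (stab c)
  · -- `l = 5`
    have hl5 : l = 5 := by
      by_contra h5
      exact not_dvd_card hl hl2 hl3 h5 (h.trans hcard)
    subst hl5
    obtain ⟨v, hv⟩ := exists_prime_orderOf_dvd_card' 5 h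
    have hv' : orderOf (v : W6) = 5 := by rw [Subgroup.orderOf_coe, hv]
    have hfact : (Nat.card W6).factorization 5 = 1 := by
      rw [card_W6, show 51840 = 5 ^ 1 * 10368 by norm_num, Nat.factorization_mul (by norm_num) (by norm_num),
        Finsupp.add_apply, Nat.prime_five.factorization_pow, Finsupp.single_eq_same,
        Nat.factorization_eq_zero_of_not_dvd (by norm_num)]
    let P0 : Sylow 5 W6 := Sylow.ofCard (Subgroup.zpowers u0) (by rw [Nat.card_zpowers, orderOf_u0, hfact, pow_one])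
    let P1 : Sylow 5 W6 := Sylow.ofCard (Subgroup.zpowers (v : W6)) (by rw [Nat.card_zpowers, hv', hfact, pow_one])
    obtain ⟨g, hg⟩ := MulAction.exists_smul_eq W6 P0 P1
    have hconj : ∀ x : W6, x ∈ Subgroup.zpowers (v : W6) ↔ g⁻¹ * x * g ∈ Subgroup.zpowers u0 := by
      intro x
      have h1 : x ∈ ((P1 : Sylow 5 W6) : Subgroup W6) ↔ x ∈ ((g • P0 : Sylow 5 W6) : Subgroup W6) := by rw [hg]
      refine h1.trans ?_
      rw [Sylow.smul_def, Sylow.pointwise_smul_def, Subgroup.mem_pointwise_smul_iff_inv_smul_mem,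
        ← map_inv, MulAut.smul_def, MulAut.conj_apply, inv_inv]
      rfl
    have hvst : Subgroup.zpowers (v : W6) ≤ stab c := by
      rw [Subgroup.zpowers_le]
      exact v.2
    -- `c ∘ g` is fixed by `u0`
    have hu : u0 ∈ stab (pull c g) := by
      have h1 : g * u0 * g⁻¹ ∈ stab c := by
        apply hvst
        rw [hconj]
        have e : g⁻¹ * (g * u0 * g⁻¹) * g = u0 := by group
        rw [e]
        exact Subgroup.mem_zpowers u0
      rw [mem_stab, ← pull_mul]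
      have e : g * u0 = (g * u0 * g⁻¹) * g := by group
      rw [e, pull_mul, mem_stab.1 h1]
    obtain ⟨z0, z2, z3, z4⟩ := zero_of_u0 hu
    let m1 : Fin 6 → ℤ := fun i => if i = 1 ∨ i = 5 then ((pull c g i).val : ℤ) else 0
    have hm1 : ∀ i, (m1 i : ZMod 5) = pull c g i := by
      intro i
      show (((if i = 1 ∨ i = 5 then ((pull c g i).val : ℤ) else 0 : ℤ)) : ZMod 5) = pull c g i
      split_ifs with hi
      · rw [Int.cast_natCast, ZMod.natCast_zmod_val]
      · rw [Int.cast_zero]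
        have h1 : i = 0 ∨ i = 2 ∨ i = 3 ∨ i = 4 := by
          revert hi
          revert i
          decide
        rcases h1 with rfl | rfl | rfl | rfl
        · exact z0.symm
        · exact z2.symm
        · exact z3.symm
        · exact z4.symm
    have hu1 : u0 ∈ stab m1 := u0_mem (by simp only [m1, _root_.Fin.isValue, _root_.ZMod.natCast_val, _root_.zero_ne_one, _root_.Fin.reduceEq, _root_.or_self, ↓ _root_.reduceIte]) (by simp [m1]) (by simp [m1]) (by simp [m1])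
    refine lift_of_sub hl2 hc (Subgroup.zpowers (v : W6)) ?_ (pull m1 g⁻¹) ?_ ?_
    · intro hd
      have h1 : Nat.card (Subgroup.zpowers (v : W6)) * (Subgroup.zpowers (v : W6)).relIndex (stab c) = Nat.card (stab c) := by
        have := Subgroup.relIndex_mul_relIndex ⊥ (Subgroup.zpowers (v : W6)) (stab c) bot_le hvst
        rwa [Subgroup.relIndex_bot_left, Subgroup.relIndex_bot_left] at this
      rw [Nat.card_zpowers, hv'] at h1
      have h2 : 5 * 5 ∣ 51840 := (by rw [← h1]; exact Nat.mul_dvd_mul_left 5 hd : 5 * 5 ∣ Nat.card (stab c)).trans hcard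
      norm_num at h2
    · intro i
      have h1 := congrFun (pull_map (Int.castAddHom (ZMod 5)) m1 g⁻¹) i
      refine h1.trans ?_
      have h2 : (fun i => (Int.castAddHom (ZMod 5)) (m1 i)) = pull c g := funext hm1
      rw [h2, ← pull_mul, mul_inv_cancel, pull_one]
    · intro x hx
      rw [hconj] at hx
      have h1 : g⁻¹ * x * g ∈ stab m1 := (Subgroup.zpowers_le.2 hu1) hx
      rw [mem_stab, ← pull_mul]
      have e : g⁻¹ * x = (g⁻¹ * x * g) * g⁻¹ := by group
      rw [e, pull_mul, mem_stab.1 h1]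
  · refine lift_of_sub hl2 hc ⊥ ?_ (fun i => ((c i).val : ℤ)) ?_ bot_le
    · rwa [Subgroup.relIndex_bot_left]
    · intro i
      rw [Int.cast_natCast, ZMod.natCast_zmod_val]

end Cfsg.Agent.H298.Car

private theorem dce_1e6b98de1ca2 : _root_.True := by
  try have : _root_.True := by simp only [_root_.Cfsg.Agent.H298.Car.CM.eq_1]
  try have : _root_.True := by simp only [_root_.Cfsg.Agent.H298.Car.pull.eq_1]
  try have : _root_.True := by simp only [_root_.Cfsg.Agent.H298.Car.u0.eq_1]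
  try have : _root_.True := by simp only [_root_.Cfsg.Agent.H607.Car.val.eq_1]
  exact _root_.True.intro
end

-- part: H482/Car/InvCl
section
set_option linter.all false

/-!
# T8 of S3852: `InvCl` for `E₆(q)` and `²E₆(q)`, `q` odd
-/

set_option autoImplicit false

namespace Cfsg.Agent.H482.Car

open Cfsg.Lie Cfsg.Agent.H607.Car

/-- **T8**, `E₆(q)`. -/
theorem invCl_E6 {K : Type} [Field K] [Fintype K] (ho : Odd (Fintype.card K)) {t0 : ↥(chevE6.group K)}
    (h0 : orderOf t0 = 2) : InvCl ↥(chevE6.group K) t0 := ⟨h0, (twoInv_E6 ho).cl h0⟩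

/-- **T8**, `²E₆(q)`. -/
theorem invCl_twE6 {K : Type} [Field K] [Fintype K] {q : ℕ} (hqp : IsPrimePow q) (ho : Odd q)
    (hK : Fintype.card K = q ^ 2) {t0 : ↥(twistedE6 K q)} (h0 : orderOf t0 = 2) : InvCl ↥(twistedE6 K q) t0 :=
  ⟨h0, (twoInv_twE6 hqp ho hK).cl h0⟩

end Cfsg.Agent.H482.Car
end
end
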